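import Mathlib.Algebra.Homology.DerivedCategory.Fractions
import Mathlib.Algebra.Homology.HomotopyCategory.HomComplexShift
import Mathlib.Algebra.Homology.HomologicalComplexLimits
import Mathlib.Algebra.Homology.ShortComplex.PreservesHomology
import Mathlib.Algebra.Homology.ShortComplex.ExactFunctor
import Mathlib.CategoryTheory.Abelian.GrothendieckAxioms.Basic
import Mathlib.CategoryTheory.Abelian.GrothendieckCategory.Basic
import Mathlib.CategoryTheory.Limits.Preserves.Shapes.Products

/-!
# Coproducts in the derived category (helper2)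

* `quasiIso_sigmaSCMap`: coproducts of quasi-isomorphisms of short complexes are quasi-isomorphisms
  when coproducts are exact.
* `quasiIso_sigmaMap`: same for cochain complexes.
* `isColimitCofanQ`: `Q` sends a coproduct of cochain complexes to a coproduct in `D(A)`.
-/

set_option autoImplicit false
universe w v u
open CategoryTheory CategoryTheory.Limits

namespace Groth.Agent.Lib.Helper2.DCoprod

section SC

variable {A : Type u} [Category.{v} A] [Abelian A] {J : Type w}
  [HasColimitsOfShape (Discrete J) A] [HasExactColimitsOfShape (Discrete J) A]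

/-- The short complex of `J`-diagrams attached to a family of short complexes. -/
@[simps]
def famSC (S : J → ShortComplex A) : ShortComplex (Discrete J ⥤ A) where
  X₁ := Discrete.functor (fun j => (S j).X₁)
  X₂ := Discrete.functor (fun j => (S j).X₂)
  X₃ := Discrete.functor (fun j => (S j).X₃)
  f := Discrete.natTrans (fun j => (S j.as).f)
  g := Discrete.natTrans (fun j => (S j.as).g)
  zero := by ext ⟨j⟩; simp

/-- The morphism of short complexes of diagrams attached to a family of morphisms. -/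
@[simps]
def famSCMap {S' S : J → ShortComplex A} (φ : ∀ j, S' j ⟶ S j) : famSC S' ⟶ famSC S where
  τ₁ := Discrete.natTrans (fun j => (φ j.as).τ₁)
  τ₂ := Discrete.natTrans (fun j => (φ j.as).τ₂)
  τ₃ := Discrete.natTrans (fun j => (φ j.as).τ₃)
  comm₁₂ := by ext ⟨j⟩; exact (φ j).comm₁₂
  comm₂₃ := by ext ⟨j⟩; exact (φ j).comm₂₃

omit [HasColimitsOfShape (Discrete J) A] [HasExactColimitsOfShape (Discrete J) A] in
lemma quasiIso_famSCMap {S' S : J → ShortComplex A} (φ : ∀ j, S' j ⟶ S j)
    (hφ : ∀ j, ShortComplex.QuasiIso (φ j)) : ShortComplex.QuasiIso (famSCMap φ) := by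
  rw [ShortComplex.quasiIso_iff]
  haveI : ∀ j : Discrete J, IsIso ((ShortComplex.homologyMap (famSCMap φ)).app j) := by
    rintro ⟨j⟩
    let ev := (evaluation (Discrete J) A).obj ⟨j⟩
    have h1 : IsIso ((ev.mapShortComplex ⋙ ShortComplex.homologyFunctor A).map (famSCMap φ)) := by
      have := hφ j
      rw [ShortComplex.quasiIso_iff] at this
      exact this
    exact (NatIso.isIso_map_iff (ShortComplex.homologyFunctorIso ev) (famSCMap φ)).1 h1
  exact NatIso.isIso_of_isIso_app _

/-- The coproduct of a family of short complexes (as the image by `colim`). -/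
noncomputable def sigmaSC (S : J → ShortComplex A) : ShortComplex A := (famSC S).map colim

/-- The map induced on coproducts of short complexes. -/
noncomputable def sigmaSCMap {S' S : J → ShortComplex A} (φ : ∀ j, S' j ⟶ S j) :
    sigmaSC S' ⟶ sigmaSC S := colim.mapShortComplex.map (famSCMap φ)

lemma quasiIso_sigmaSCMap {S' S : J → ShortComplex A} (φ : ∀ j, S' j ⟶ S j)
    (hφ : ∀ j, ShortComplex.QuasiIso (φ j)) : ShortComplex.QuasiIso (sigmaSCMap φ) := by
  haveI := quasiIso_famSCMap φ hφ
  haveI : (colim : (Discrete J ⥤ A) ⥤ A).PreservesHomology := inferInstance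
  exact ShortComplex.quasiIso_map_of_preservesLeftHomology _ _

end SC

section Complexes

variable {A : Type u} [Category.{v} A] [Abelian A] {J : Type w}
  [HasColimitsOfShape (Discrete J) A] [HasExactColimitsOfShape (Discrete J) A]

/-- The comparison map `∐ (K j)^m ⟶ (∐ K)^m`. -/
noncomputable def cmp (K : J → CochainComplex A ℤ) (m : ℤ) :
    (∐ fun j => (K j).X m) ⟶ (∐ K).X m :=
  Limits.Sigma.desc (fun j => (Limits.Sigma.ι K j).f m)

@[reassoc (attr := simp)]
lemma ι_cmp (K : J → CochainComplex A ℤ) (m : ℤ) (j : J) :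
    Limits.Sigma.ι (fun j => (K j).X m) j ≫ cmp K m = (Limits.Sigma.ι K j).f m := by
  simp [cmp]

instance isIso_cmp (K : J → CochainComplex A ℤ) (m : ℤ) : IsIso (cmp K m) := by
  change IsIso (sigmaComparison (HomologicalComplex.eval A (ComplexShape.up ℤ) m) K)
  infer_instance

lemma cmp_d (K : J → CochainComplex A ℤ) (m m' : ℤ) :
    cmp K m ≫ (∐ K).d m m' = Limits.Sigma.map (fun j => (K j).d m m') ≫ cmp K m' := by
  apply Limits.Sigma.hom_ext
  intro j
  rw [ι_cmp_assoc, Limits.Sigma.ι_map_assoc, ι_cmp]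
  exact (Limits.Sigma.ι K j).comm m m'

lemma cmp_f {K' K : J → CochainComplex A ℤ} (u : ∀ j, K' j ⟶ K j) (m : ℤ) :
    cmp K' m ≫ (Limits.Sigma.map u).f m = Limits.Sigma.map (fun j => (u j).f m) ≫ cmp K m := by
  apply Limits.Sigma.hom_ext
  intro j
  rw [ι_cmp_assoc, Limits.Sigma.ι_map_assoc, ι_cmp,
    ← HomologicalComplex.comp_f, ← HomologicalComplex.comp_f, Limits.Sigma.ι_map]

/-- The short complex in degree `n` of a coproduct is the coproduct of the short complexes. -/
noncomputable def scIso (K : J → CochainComplex A ℤ) (n : ℤ) :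
    sigmaSC (fun j => (K j).sc n) ≅ (∐ K).sc n :=
  ShortComplex.isoMk (@asIso _ _ _ _ (cmp K _) (isIso_cmp K _)) (@asIso _ _ _ _ (cmp K n) (isIso_cmp K n))
    (@asIso _ _ _ _ (cmp K _) (isIso_cmp K _))
    (cmp_d K _ _) (cmp_d K _ _)

lemma quasiIsoAt_sigmaMap {K' K : J → CochainComplex A ℤ} (u : ∀ j, K' j ⟶ K j)
    (hu : ∀ j, QuasiIso (u j)) (n : ℤ) : QuasiIsoAt (Limits.Sigma.map u) n := by
  rw [quasiIsoAt_iff]
  have h := quasiIso_sigmaSCMap
    (fun j => (HomologicalComplex.shortComplexFunctor A (ComplexShape.up ℤ) n).map (u j))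
    (fun j => by
      have := hu j
      rw [← quasiIsoAt_iff]
      infer_instance)
  refine (ShortComplex.quasiIso_iff_of_arrow_mk_iso _ _ ?_).1 h
  refine Arrow.isoMk (scIso K' n) (scIso K n) ?_
  apply ShortComplex.hom_ext
  · exact cmp_f u ((ComplexShape.up ℤ).prev n)
  · exact cmp_f u n
  · exact cmp_f u ((ComplexShape.up ℤ).next n)

instance quasiIso_sigmaMap {K' K : J → CochainComplex A ℤ} (u : ∀ j, K' j ⟶ K j)
    [hu : ∀ j, QuasiIso (u j)] : QuasiIso (Limits.Sigma.map u) :=
  ⟨fun n => quasiIsoAt_sigmaMap u hu n⟩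

end Complexes

section Homotopy

variable {A : Type u} [Category.{v} A] [Abelian A] {J : Type w}
  [HasColimitsOfShape (Discrete J) A]

open CochainComplex HomComplex

lemma homotopy_zero_of_sigma {K : J → CochainComplex A ℤ} {L : CochainComplex A ℤ}
    (φ : (∐ K) ⟶ L) (h : ∀ j, Nonempty (Homotopy (Limits.Sigma.ι K j ≫ φ) 0)) :
    Nonempty (Homotopy φ 0) := by
  have ex : ∀ j, ∃ z : Cochain (K j) L (-1),
      δ (-1) 0 z = Cochain.ofHom (Limits.Sigma.ι K j ≫ φ) := fun j => by
    obtain ⟨hj⟩ := h j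
    obtain ⟨z, hz⟩ := Cochain.equivHomotopy _ _ hj
    exact ⟨z, by rw [hz, Cochain.ofHom_zero, add_zero]⟩
  choose z hz using ex
  let isCol : ∀ p : ℤ, IsColimit ((HomologicalComplex.eval A (ComplexShape.up ℤ) p).mapCocone
      (colimit.cocone (Discrete.functor K))) := fun p => isColimitOfPreserves _ (colimit.isColimit _)
  let cocone : ∀ (p q : ℤ) (_ : p + (-1) = q),
      Cocone (Discrete.functor K ⋙ HomologicalComplex.eval A (ComplexShape.up ℤ) p) :=
    fun p q hpq =>
    { pt := L.X q
      ι := Discrete.natTrans (fun j => (z j.as).v p q hpq) }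
  let Z : Cochain (∐ K) L (-1) := Cochain.mk (fun p q hpq => (isCol p).desc (cocone p q hpq))
  have hZ : ∀ j, (Cochain.ofHom (Limits.Sigma.ι K j)).comp Z (zero_add _) = z j := by
    intro j
    ext p q hpq
    rw [Cochain.zero_cochain_comp_v, Cochain.ofHom_v, Cochain.mk_v]
    exact (isCol p).fac (cocone p q hpq) ⟨j⟩
  have jointly : ∀ (n : ℤ) (z₁ z₂ : Cochain (∐ K) L n),
      (∀ j, (Cochain.ofHom (Limits.Sigma.ι K j)).comp z₁ (zero_add _) =
        (Cochain.ofHom (Limits.Sigma.ι K j)).comp z₂ (zero_add _)) → z₁ = z₂ := by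
    intro n z₁ z₂ H
    ext p q hpq
    apply (isCol p).hom_ext
    intro j
    have := Cochain.congr_v (H j.as) p q hpq
    rw [Cochain.zero_cochain_comp_v, Cochain.zero_cochain_comp_v, Cochain.ofHom_v] at this
    exact this
  have hδ : δ (-1) 0 Z = Cochain.ofHom φ := by
    apply jointly
    intro j
    rw [← δ_ofHom_comp, hZ, hz j, Cochain.ofHom_comp (Limits.Sigma.ι K j) φ]
  exact ⟨(Cochain.equivHomotopy φ 0).symm ⟨Z, by rw [hδ, Cochain.ofHom_zero, add_zero]⟩⟩

end Homotopy

section Main

variable {A : Type u} [Category.{v} A] [Abelian A] [HasDerivedCategory.{w} A]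

open DerivedCategory

lemma exists_quasiIso_comp_homotopy_zero {K L : CochainComplex A ℤ} (φ : K ⟶ L)
    (h : Q.map φ = 0) :
    ∃ (K' : CochainComplex A ℤ) (u : K' ⟶ K), QuasiIso u ∧ Nonempty (Homotopy (u ≫ φ) 0) := by
  have h' : Qh.map ((HomotopyCategory.quotient _ _).map φ) =
      Qh.map ((HomotopyCategory.quotient _ _).map (0 : K ⟶ L)) := by
    rw [← cancel_mono ((quotientCompQhIso A).hom.app L), quotientCompQhIso_hom_naturality,
      quotientCompQhIso_hom_naturality, h, Q.map_zero]
  obtain ⟨X, s, hs, hsf⟩ := (MorphismProperty.map_eq_iff_precomp Qh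
    (HomotopyCategory.quasiIso A (ComplexShape.up ℤ)) _ _).1 h'
  obtain ⟨K', rfl⟩ := HomotopyCategory.quotient_obj_surjective X
  obtain ⟨u, rfl⟩ := (HomotopyCategory.quotient _ _).map_surjective s
  rw [HomotopyCategory.quotient_map_mem_quasiIso_iff] at hs
  refine ⟨K', u, hs, ⟨HomotopyCategory.homotopyOfEq _ _ ?_⟩⟩
  rw [Functor.map_comp, hsf, Functor.map_zero, comp_zero, Functor.map_zero]

variable {J : Type w} [HasColimitsOfShape (Discrete J) A]
  [HasExactColimitsOfShape (Discrete J) A]

lemma exists_desc (K : J → CochainComplex A ℤ) (L : CochainComplex A ℤ)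
    (g : ∀ j, Q.obj (K j) ⟶ Q.obj L) :
    ∃ d : Q.obj (∐ K) ⟶ Q.obj L, ∀ j, Q.map (Limits.Sigma.ι K j) ≫ d = g j := by
  have ex := fun j => right_fac (g j)
  choose K' s hs f hg using ex
  haveI : ∀ j, QuasiIso (s j) := fun j => (isIso_Q_map_iff_quasiIso _ (s j)).1 (hs j)
  haveI : IsIso (Q.map (Limits.Sigma.map s)) := by
    rw [isIso_Q_map_iff_quasiIso]; infer_instance
  refine ⟨inv (Q.map (Limits.Sigma.map s)) ≫ Q.map (Limits.Sigma.desc f), fun j => ?_⟩
  haveI := hs j
  rw [hg j, ← cancel_epi (Q.map (s j)), IsIso.hom_inv_id_assoc]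
  have e1 : Q.map (s j) ≫ Q.map (Limits.Sigma.ι K j) =
      Q.map (Limits.Sigma.ι K' j) ≫ Q.map (Limits.Sigma.map s) := by
    rw [← Q.map_comp, ← Q.map_comp, Limits.Sigma.ι_map]
  rw [reassoc_of% e1, IsIso.hom_inv_id_assoc, ← Q.map_comp, Limits.Sigma.ι_desc]

lemma eq_zero_of_comp_ι (K : J → CochainComplex A ℤ) (L : CochainComplex A ℤ)
    (d : Q.obj (∐ K) ⟶ Q.obj L) (h : ∀ j, Q.map (Limits.Sigma.ι K j) ≫ d = 0) : d = 0 := by
  obtain ⟨L', g, t, ht, rfl⟩ := left_fac d
  haveI := ht
  have hg : ∀ j, Q.map (Limits.Sigma.ι K j ≫ g) = 0 := fun j => by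
    have := h j =≫ Q.map t
    simpa using this
  have ex := fun j => exists_quasiIso_comp_homotopy_zero _ (hg j)
  choose K'' u hu hH using ex
  haveI : ∀ j, QuasiIso (u j) := hu
  have hUg : Nonempty (Homotopy (Limits.Sigma.map u ≫ g) 0) := by
    apply homotopy_zero_of_sigma
    intro j
    obtain ⟨H⟩ := hH j
    exact ⟨(Homotopy.ofEq (by rw [Limits.Sigma.ι_map_assoc])).trans H⟩
  obtain ⟨H⟩ := hUg
  have h0 : Q.map (Limits.Sigma.map u) ≫ Q.map g = 0 := by
    rw [← Q.map_comp, Q_map_eq_of_homotopy _ H, Q.map_zero]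
  haveI : IsIso (Q.map (Limits.Sigma.map u)) := by
    rw [isIso_Q_map_iff_quasiIso]; infer_instance
  have : Q.map g = 0 := by rw [← cancel_epi (Q.map (Limits.Sigma.map u)), h0, comp_zero]
  rw [this, zero_comp]

/-- `Q` sends the coproduct of a family of cochain complexes to a coproduct in `D(A)`. -/
noncomputable def isColimitCofanQ (K : J → CochainComplex A ℤ) :
    IsColimit (Cofan.mk (Q.obj (∐ K)) (fun j => Q.map (Limits.Sigma.ι K j))) :=
  mkCofanColimit _
    (fun s => (exists_desc K (Q.objPreimage s.pt)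
      (fun j => s.inj j ≫ (Q.objObjPreimageIso s.pt).inv)).choose ≫ (Q.objObjPreimageIso s.pt).hom)
    (fun s j => by
      have := (exists_desc K (Q.objPreimage s.pt)
        (fun j => s.inj j ≫ (Q.objObjPreimageIso s.pt).inv)).choose_spec j
      dsimp only [Cofan.mk_pt, Cofan.mk_ι_app, Cofan.inj] at this ⊢
      rw [reassoc_of% this, Iso.inv_hom_id, Category.comp_id])
    (fun s m hm => by
      have spec := (exists_desc K (Q.objPreimage s.pt)
        (fun j => s.inj j ≫ (Q.objObjPreimageIso s.pt).inv)).choose_spec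
      rw [← cancel_mono (Q.objObjPreimageIso s.pt).inv, Category.assoc, Iso.hom_inv_id,
        Category.comp_id, ← sub_eq_zero]
      apply eq_zero_of_comp_ι K (Q.objPreimage s.pt)
      intro j
      rw [Preadditive.comp_sub, spec j, sub_eq_zero]
      have := hm j
      dsimp only [Cofan.mk_pt, Cofan.mk_ι_app, Cofan.inj] at this ⊢
      rw [← this, Category.assoc])

instance hasColimitsOfShape_discrete : HasColimitsOfShape (Discrete J) (DerivedCategory A) where
  has_colimit F := by
    let K : J → CochainComplex A ℤ := fun j => Q.objPreimage (F.obj ⟨j⟩)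
    haveI : HasColimit (Discrete.functor (fun j => Q.obj (K j))) := ⟨⟨⟨_, isColimitCofanQ K⟩⟩⟩
    exact hasColimit_of_iso (Discrete.natIso (fun ⟨j⟩ => (Q.objObjPreimageIso (F.obj ⟨j⟩)).symm) :
      F ≅ Discrete.functor (fun j => Q.obj (K j)))

end Main

end Groth.Agent.Lib.Helper2.DCoprod
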