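import Groth.Agent.Lib.Helper2.LocalResolutions
import Mathlib.Algebra.Homology.DerivedCategory.KInjective
import Mathlib.CategoryTheory.Triangulated.Orthogonal

/-!
# Right derived functors from K-injective resolutions
-/

namespace Groth.Agent.Lib.Helper2

open CategoryTheory

universe w v v' u u'

variable {A : Type u} [Category.{v} A] [Abelian A]

instance hasTwoOutOfThree_homotopyCategory_quasiIso :
    (HomotopyCategory.quasiIso A (ComplexShape.up ℤ)).HasTwoOutOfThreeProperty where
  of_postcomp f g hg hfg := by
    rw [HomotopyCategory.mem_quasiIso_iff] at hg hfg ⊢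
    intro n
    have := hg n
    have h2 := hfg n
    rw [Functor.map_comp] at h2
    exact IsIso.of_isIso_comp_right _ ((HomotopyCategory.homologyFunctor A _ n).map g)
  of_precomp f g hf hfg := by
    rw [HomotopyCategory.mem_quasiIso_iff] at hf hfg ⊢
    intro n
    have := hf n
    have h2 := hfg n
    rw [Functor.map_comp] at h2
    exact IsIso.of_isIso_comp_left ((HomotopyCategory.homologyFunctor A _ n).map f) _

lemma isLocal_quotient_obj_of_isKInjective (I : CochainComplex A ℤ) (hI : I.IsKInjective) :
    (HomotopyCategory.quasiIso A (ComplexShape.up ℤ)).isLocal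
      ((HomotopyCategory.quotient A (ComplexShape.up ℤ)).obj I) := by
  rw [HomotopyCategory.quasiIso_eq_trW_subcategoryAcyclic, ObjectProperty.isLocal_trW]
  exact CochainComplex.IsKInjective.rightOrthogonal I

lemma exists_local_resolution
    (hKinj : ∀ K : CochainComplex A ℤ, ∃ (I : CochainComplex A ℤ) (f : K ⟶ I),
      I.IsKInjective ∧ QuasiIso f)
    (X : HomotopyCategory A (ComplexShape.up ℤ)) :
    ∃ (Y : HomotopyCategory A (ComplexShape.up ℤ)) (f : X ⟶ Y),
      (HomotopyCategory.quasiIso A (ComplexShape.up ℤ)).isLocal Y ∧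
      HomotopyCategory.quasiIso A (ComplexShape.up ℤ) f := by
  obtain ⟨K, rfl⟩ := HomotopyCategory.quotient_obj_surjective X
  obtain ⟨I, f, hI, hf⟩ := hKinj K
  refine ⟨_, (HomotopyCategory.quotient A (ComplexShape.up ℤ)).map f,
    isLocal_quotient_obj_of_isKInjective I hI, ?_⟩
  rw [HomotopyCategory.quotient_map_mem_quasiIso_iff, HomologicalComplex.mem_quasiIso_iff]
  exact hf

end Groth.Agent.Lib.Helper2
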