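import Groth.Agent.Lib.Helper2.ExtUnitH
import Groth.Agent.Lib.Helper13.OverRestrAcyclic
import Groth.Agent.Lib.Helper13.ModSiteProj
import Groth.Agent.Lib.Helper13.ModShriekGen

/-!
# Restriction of modules to a localised site is exact (no `HasPushOver` needed) (helper2)
-/

set_option autoImplicit false
universe u

namespace Groth.Agent.Lib.Helper2.RestrExact

open CategoryTheory CategoryTheory.Limits Opposite
open Groth.Agent.Lib.Helper2 Groth.Agent.Lib.Helper2.ModHomAcyclic
  Groth.Agent.Lib.Helper13.OverRestrAcyclic

variable {C : Type u} [SmallCategory C] {J : GrothendieckTopology C}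
  (O : Sheaf J CommRingCat.{u}) (U : C)

instance restr_additive : (ModSite.restr O U).Additive :=
  Functor.additive_of_preserves_binary_products _

lemma epi_restr_map {M N : ModSite.Mod O} (f : M ⟶ N) [Epi f] :
    Epi ((ModSite.restr O U).map f) := by
  haveI : Epi ((toAbF O).map f) := inferInstance
  haveI h : Epi ((restrAb J U).map ((toAbF O).map f)) := inferInstance
  have h' : Epi ((toAbF (O.over U)).map ((ModSite.restr O U).map f)) := h
  exact Functor.epi_of_epi_map (toAbF (O.over U)) h'

instance restr_preservesFiniteColimits : PreservesFiniteColimits (ModSite.restr O U) := by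
  rw [Functor.preservesFiniteColimits_iff_forall_exact_map_and_epi]
  intro S hS
  haveI := hS.epi_g
  exact ⟨(((ModSite.restr O U).preservesFiniteLimits_iff_forall_exact_map_and_mono).1
    inferInstance S hS).1, epi_restr_map O U S.g⟩

instance extZero_preservesFiniteLimits : PreservesFiniteLimits (ModSite.extZero O U) :=
  Groth.Agent.Lib.Helper13.ModShriekGen.extZero_preservesFiniteLimits (ModSite.ringSh O) U

end Groth.Agent.Lib.Helper2.RestrExact
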