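import Groth.Prelude.Def_Coh
import Groth.Agent.Lib.Helper2.GSS.CompExactAcyclic
import Groth.Agent.Lib.Helper2.ModAcyclicGen
import Groth.Agent.Lib.Helper13.DerivedCommute
import Groth.Agent.Lib.Helper13.LocallyZero
import Groth.Agent.Lib.Helper13.FlasqueBasic
import Groth.Agent.Lib.Helper13.ModGrothendieck
import Groth.Agent.Lib.Helper13.ModSheafBasic

/-!
# `toAb (Rⁿ f_* M) ≅ Rⁿ f_* (toAb M)` for schemes (helper2)

Module-level higher direct images agree with those of the underlying abelian sheaves.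
-/

set_option autoImplicit false
universe u
open CategoryTheory AlgebraicGeometry

namespace Groth.Agent.Lib.Helper2.RpushCompare

open CategoryTheory.Limits TopologicalSpace Groth.Agent.Lib.Helper2 Groth.Agent.Lib.Helper13

/-- the forgetful functor to abelian sheaves. -/
noncomputable abbrev TT (X : Scheme.{u}) :
    X.Modules ⥤ Sheaf (Opens.grothendieckTopology X) AddCommGrpCat.{u} :=
  SheafOfModules.toSheaf.{u} X.ringCatSheaf

instance (X : Scheme.{u}) : (TT X).Additive where

theorem toSheaf_pfc {C : Type u} [SmallCategory C] {J : GrothendieckTopology C}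
    (R : Sheaf J RingCat.{u}) : PreservesFiniteColimits (SheafOfModules.toSheaf.{u} R) :=
  ⟨fun _ _ _ => ModSheafBasic.toSheaf_preservesColimitsOfShape _ _⟩

theorem toSheaf_pfl {C : Type u} [SmallCategory C] {J : GrothendieckTopology C}
    (R : Sheaf J RingCat.{u}) : PreservesFiniteLimits (SheafOfModules.toSheaf.{u} R) :=
  inferInstance

instance (X : Scheme.{u}) : PreservesFiniteColimits (TT X) := toSheaf_pfc X.ringCatSheaf

instance (X : Scheme.{u}) : PreservesFiniteLimits (TT X) := toSheaf_pfl X.ringCatSheaf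

instance (X : Scheme.{u}) : (TT X).Faithful :=
  inferInstanceAs (SheafOfModules.toSheaf.{u} X.ringCatSheaf).Faithful

/-- `f_*` commutes with the forgetful functors to abelian sheaves. -/
noncomputable def pushToAbIso {X Y : Scheme.{u}} (f : X ⟶ Y) :
    Scheme.Modules.pushforward f ⋙ TT Y ≅ TT X ⋙ Coh.pushAb f :=
  NatIso.ofComponents (fun _ => Iso.refl _)

theorem isBasis_univ (Y : TopCat.{u}) : Opens.IsBasis (Set.univ : Set (Opens Y)) :=
  Opens.isBasis_iff_nbhd.2 (fun {U} {x} hx => ⟨U, trivial, hx, le_rfl⟩)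


theorem nonempty_toAb_Rpush_iso {X Y : Scheme.{u}} (f : X ⟶ Y)
    [HasInjectiveResolutions X.Modules] (M : X.Modules) (n : ℕ) :
    Nonempty (Coh.toAb ((Coh.Rpush f n).obj M) ≅ (Coh.RpushAb f n).obj (Coh.toAb M)) := by
  haveI : EnoughInjectives X.Modules := ModGrothendieck.enoughInjectives X.ringCatSheaf
  haveI : PreservesFiniteLimits (Coh.pushAb f) := by
    have : PreservesLimitsOfSize.{0, 0} (Coh.pushAb f) :=
      (TopCat.Sheaf.pullbackPushforwardAdjunction AddCommGrpCat.{u} f.base).rightAdjoint_preservesLimits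
    exact PreservesLimitsOfSize.preservesFiniteLimits _
  have hI : ∀ (I : X.Modules), Injective I → ∀ q : ℕ,
      IsZero (((Coh.pushAb f).rightDerived (q + 1)).obj
        ((SheafOfModules.toSheaf X.ringCatSheaf).obj I)) := by
    intro I hI q
    refine LocallyZero.isZero_Rpush_of_basis f.base _ (q + 1) Set.univ (isBasis_univ _) ?_
    intro V _
    exact FlasqueBasic.subsingleton_HU_of_totallyAcyclic _
      (@ModAcyclicGen.isTotallyAcyclic_of_injective _ _ _ X.ringCatSheaf I hI) _ q
  obtain ⟨e3⟩ := GSS.nonempty_rightDerived_comp_iso (TT X) (Coh.pushAb f) hI n M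
  exact ⟨(DerivedCommute.rightDerivedCompExactObjIso (Scheme.Modules.pushforward f)
      (TT Y) n M).symm ≪≫
    DerivedCommute.rightDerivedObjIsoOfNatIso (pushToAbIso f) n M ≪≫ e3⟩

theorem isZero_of_isZero_toAb {X : Scheme.{u}} (N : X.Modules) (h : IsZero (Coh.toAb N)) :
    IsZero N := by
  rw [IsZero.iff_id_eq_zero]
  exact (TT X).map_injective (h.eq_of_src _ _)

theorem isZero_toAb_of_isZero {X : Scheme.{u}} (N : X.Modules) (h : IsZero N) :
    IsZero (Coh.toAb N) := (TT X).map_isZero h

theorem isZero_Rpush_iff {X Y : Scheme.{u}} (f : X ⟶ Y)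
    [HasInjectiveResolutions X.Modules] (M : X.Modules) (n : ℕ) :
    IsZero ((Coh.Rpush f n).obj M) ↔ IsZero ((Coh.RpushAb f n).obj (Coh.toAb M)) := by
  obtain ⟨e⟩ := nonempty_toAb_Rpush_iso f M n
  constructor
  · intro h
    exact IsZero.of_iso (isZero_toAb_of_isZero _ h) e.symm
  · intro h
    exact isZero_of_isZero_toAb _ (IsZero.of_iso h e)

end Groth.Agent.Lib.Helper2.RpushCompare
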