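import Mathlib
import Groth.Prelude.Def_ModSite
import Groth.Prelude.Def_CohCx
import Groth.Agent.Lib.Helper5.CechFlasque
import Groth.Agent.Lib.Helper13.ModSiteUnitor
import Groth.Agent.Lib.Helper13.ModGrothendieck
import Groth.Agent.Lib.Helper2.GSS.CechTransfer
import Groth.Prelude.Def_ModSite2

set_option autoImplicit false
universe u
open CategoryTheory CategoryTheory.Limits Opposite MonoidalCategory AlgebraicTopology Simplicial
open Groth.Agent.Lib.Helper5 Groth.Agent.Lib.Helper13.ModSiteTensor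

/-!
# The internal hom into an injective module is totally acyclic (helper2)

For a small ringed site `(C, J, O)`, an `O`-module `F` and an injective `O`-module `G`, the abelian
sheaf underlying `Hom_O(F, G)` is totally acyclic.  The proof uses helper5's criterion (totally
acyclic iff Čech-acyclic for all epimorphisms `K' ⟶ K` of sheaves of sets): the Čech complex
`Hom_ℤ(ℤ[N_•], Hom_O(F, G))` is `Hom_O(O[N_•] ⊗ F, G)`, and `O[N_•] ⊗ F` is the sheafification of
the presheaf complex `U ↦ O(U)[N_•(U)] ⊗ F(U)`, which is exact in positive degrees by the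
objectwise extra degeneracy of the Čech nerve.

* `quasiIso_ε_augXi`, `cechXi_exact`: exactness of `a(O[N_•] ⊗ F)`.
* `LO`, `adjLO`: the (abstract) left adjoint `O ⊗_ℤ -` of the forgetful functor to abelian sheaves.
* `Psi`, `adjPsi`: the free `O`-module on a sheaf of sets; `freeLOIso`, `tensIso`.
* `cechAcyclic_sheafHom`, `isTotallyAcyclic_sheafHom`.
-/

noncomputable section

namespace Groth.Agent.Lib.Helper2.ModHomAcyclic

variable {C : Type u} [SmallCategory C] {J : GrothendieckTopology C} (O : Sheaf J CommRingCat.{u})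

/-- free presheaf of modules on a presheaf of sets. -/
abbrev FrP : (Cᵒᵖ ⥤ Type u) ⥤ PMod O :=
  PresheafOfModules.free (O.obj ⋙ forget₂ CommRingCat.{u} RingCat.{u})

/-- `P ↦ O[P] ⊗ F` on presheaves. -/
abbrev Xi (Fp : PMod O) : (Cᵒᵖ ⥤ Type u) ⥤ PMod O := FrP O ⋙ tensorRight Fp

/-- evaluation of presheaves of modules, as abelian groups. -/
abbrev EU (U : Cᵒᵖ) : PMod O ⥤ AddCommGrpCat.{u} :=
  PresheafOfModules.toPresheaf (O.obj ⋙ forget₂ CommRingCat.{u} RingCat.{u}) ⋙
    (evaluation Cᵒᵖ AddCommGrpCat.{u}).obj U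

/-- the objectwise functor `S ↦ O(U)[S] ⊗ F(U)`. -/
abbrev ThetaU (Fp : PMod O) (U : Cᵒᵖ) : Type u ⥤ AddCommGrpCat.{u} :=
  ModuleCat.free ((O.obj ⋙ forget₂ CommRingCat.{u} RingCat.{u}).obj U) ⋙
    tensorRight (Fp.obj U) ⋙
    forget₂ (ModuleCat.{u} ((O.obj ⋙ forget₂ CommRingCat.{u} RingCat.{u}).obj U)) AddCommGrpCat.{u}

/-- `Xi` is computed objectwise. -/
def evalIso (Fp : PMod O) (U : Cᵒᵖ) :
    Xi O Fp ⋙ EU O U ≅ (evaluation Cᵒᵖ (Type u)).obj U ⋙ ThetaU O Fp U :=
  NatIso.ofComponents (fun P => Iso.refl _) (by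
    intro P Q φ
    rfl)

section Res

variable {K' K : Sheaf J (Type u)} (f : K' ⟶ K) (Fp : PMod O)

/-- the augmented simplicial presheaf of modules `O[N_•] ⊗ F → O[im] ⊗ F`. -/
def augXi : SimplicialObject.Augmented (PMod O) :=
  ((SimplicialObject.Augmented.whiskering _ _).obj (Xi O Fp)).obj (CechRes.augP J f)

def augXiEvalIso (U : Cᵒᵖ) :
    ((SimplicialObject.Augmented.whiskering _ _).obj (ThetaU O Fp U)).obj (CechRes.augU J f U) ≅
    ((SimplicialObject.Augmented.whiskering _ _).obj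
      ((evaluation Cᵒᵖ AddCommGrpCat.{u}).obj U)).obj
      (((SimplicialObject.Augmented.whiskering _ _).obj
        (PresheafOfModules.toPresheaf (O.obj ⋙ forget₂ CommRingCat.{u} RingCat.{u}))).obj
        (augXi O f Fp)) :=
  Iso.refl _

lemma quasiIso_ε_augXi : QuasiIso (AlternatingFaceMapComplex.ε.app (augXi O f Fp)) := by
  rw [← HomologicalComplex.quasiIso_map_iff_of_preservesHomology _
    (PresheafOfModules.toPresheaf (O.obj ⋙ forget₂ CommRingCat.{u} RingCat.{u})),
    ← CechRes.quasiIso_ε_whiskering_iff, HomologicalComplex.quasiIso_iff_evaluation]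
  intro U
  rw [← CechRes.quasiIso_ε_whiskering_iff]
  exact CechRes.quasiIso_ε_of_extraDegeneracy
    (SimplicialObject.Augmented.ExtraDegeneracy.ofIso (augXiEvalIso O f Fp U)
      ((CechRes.augUED J f U).map (ThetaU O Fp U)))

instance : PreservesFiniteLimits (shf O) :=
  inferInstanceAs (PreservesFiniteLimits
    (PresheafOfModules.sheafification.{u} (𝟙 (ModSite.ringSh O).obj)))

instance : PreservesFiniteColimits (shf O) := by
  haveI : PreservesColimitsOfSize.{0, 0} (shf O) := (shfAdj O).leftAdjoint_preservesColimits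
  exact PreservesColimitsOfSize.preservesFiniteColimits _

instance : (shf O).Additive := Functor.additive_of_preserves_binary_products _

lemma quasiIso_ε_shf_augXi : QuasiIso (AlternatingFaceMapComplex.ε.app
    (((SimplicialObject.Augmented.whiskering _ _).obj (shf O)).obj (augXi O f Fp))) := by
  rw [CechRes.quasiIso_ε_whiskering_iff]
  have := quasiIso_ε_augXi O f Fp
  infer_instance

/-- the Čech chain complex `a(O[N_•] ⊗ F)`. -/
abbrev cechXi : ChainComplex (ModSite.Mod O) ℕ :=
  (alternatingFaceMapComplex _).obj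
    ((((Arrow.mk f).cechNerve ⋙ sheafToPresheaf J (Type u)) ⋙ Xi O Fp) ⋙ shf O)

lemma cechXi_exact (n : ℕ) :
    (ShortComplex.mk _ _ ((cechXi O f Fp).d_comp_d (n + 2) (n + 1) n)).Exact :=
  @CechFlasque.exact_succ _ _ _ (cechXi O f Fp) _ (AlternatingFaceMapComplex.ε.app
    (((SimplicialObject.Augmented.whiskering _ _).obj (shf O)).obj (augXi O f Fp)))
    (quasiIso_ε_shf_augXi O f Fp) n

lemma acyclicAt_cechXi (G : ModSite.Mod O) [Injective G] (q : ℕ) :
    CechFlasque.AcyclicAt (cechXi O f Fp) G q := fun φ hφ =>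
  ⟨(cechXi_exact O f Fp q).descToInjective φ hφ, (cechXi_exact O f Fp q).comp_descToInjective φ hφ⟩

end Res

section Adj

/-- the underlying abelian sheaf functor. -/
abbrev toAbF : ModSite.Mod O ⥤ Sheaf J AddCommGrpCat.{u} :=
  SheafOfModules.toSheaf (ModSite.ringSh O)

instance : PreservesLimitsOfSize.{u, u} (toAbF O) := by
  constructor
  intro K _
  haveI : PreservesLimitsOfShape K (toAbF O ⋙ sheafToPresheaf J AddCommGrpCat.{u}) :=
    inferInstanceAs (PreservesLimitsOfShape K
      (SheafOfModules.forget (ModSite.ringSh O) ⋙ PresheafOfModules.toPresheaf _))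
  exact preservesLimitsOfShape_of_reflects_of_preserves (toAbF O)
    (sheafToPresheaf J AddCommGrpCat.{u})

instance : IsGrothendieckAbelian.{u} (ModSite.Mod O) :=
  Groth.Agent.Lib.Helper13.ModGrothendieck.isGrothendieckAbelian (ModSite.ringSh O)

instance toAbF_isRightAdjoint : (toAbF O).IsRightAdjoint :=
  isRightAdjoint_of_preservesLimits_of_isCoseparating.{u} (isCoseparator_coseparator _) _

/-- extension of scalars `O ⊗_ℤ -`, as the abstract left adjoint of the forgetful functor. -/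
def LO : Sheaf J AddCommGrpCat.{u} ⥤ ModSite.Mod O := (toAbF O).leftAdjoint

def adjLO : LO O ⊣ toAbF O := Adjunction.ofIsRightAdjoint _

instance : (LO O).Additive := (adjLO O).left_adjoint_additive

/-- the free `O`-module on a sheaf of sets. -/
abbrev Psi : Sheaf J (Type u) ⥤ ModSite.Mod O :=
  sheafToPresheaf J (Type u) ⋙ FrP O ⋙ shf O

/-- the underlying sheaf of sets of a module. -/
abbrev Um : ModSite.Mod O ⥤ Sheaf J (Type u) := toAbF O ⋙ CechFlasque.Uf J

/-- the free-forgetful adjunction between sheaves of sets and `O`-modules. -/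
def adjPsi : Psi O ⊣ Um O :=
  ((PresheafOfModules.freeAdjunction (O.obj ⋙ forget₂ CommRingCat.{u} RingCat.{u})).comp
    (shfAdj O)).restrictFullyFaithful
    (fullyFaithfulSheafToPresheaf J (Type u)) (Functor.FullyFaithful.id _)
    (Iso.refl _) (NatIso.ofComponents (fun _ => Iso.refl _))

/-- `O ⊗_ℤ ℤ[N] ≅ O[N]`. -/
def freeLOIso : CechFlasque.Φ J ⋙ LO O ≅ Psi O :=
  Adjunction.leftAdjointUniq ((CechFlasque.adjΦ J).comp (adjLO O)) (adjPsi O)

/-- the unit of sheafification, whiskered: `a(O[P] ⊗ F) ⟶ a(a(O[P]) ⊗ F)`. -/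
def tauNat (Fp : PMod O) :
    (sheafToPresheaf J (Type u) ⋙ FrP O) ⋙ (tensorRight Fp ⋙ shf O) ⟶
      (sheafToPresheaf J (Type u) ⋙ FrP O) ⋙ (shf O ⋙ fgt O) ⋙ (tensorRight Fp ⋙ shf O) :=
  Functor.whiskerLeft (sheafToPresheaf J (Type u) ⋙ FrP O)
    (Functor.whiskerRight (shfAdj O).unit (tensorRight Fp ⋙ shf O))

instance (Fp : PMod O) : IsIso (tauNat O Fp) := by
  apply (config := { allowSynthFailures := true }) NatIso.isIso_of_isIso_app
  intro N
  exact isIso_shf_map_unit_whiskerRight O _ Fp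

/-- `O[N] ⊗_O F ≅ a(O[N]^{pre} ⊗ F)`, naturally in the sheaf of sets `N`. -/
def tensIso (F : ModSite.Mod O) :
    Psi O ⋙ (ModSite.tensorBi O).flip.obj F ≅
      (sheafToPresheaf J (Type u) ⋙ Xi O ((fgt O).obj F)) ⋙ shf O :=
  Functor.isoWhiskerLeft (Psi O) (flipObjIso O F) ≪≫
    (show Psi O ⋙ fgt O ⋙ tensorRight ((fgt O).obj F) ⋙ shf O ≅
        (sheafToPresheaf J (Type u) ⋙ Xi O ((fgt O).obj F)) ⋙ shf O from
      (asIso (tauNat O ((fgt O).obj F))).symm)

end Adj

section Main
open CechFlasque Groth.Agent.Lib.Helper2.CechTransfer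

variable (F G : ModSite.Mod O) [ModSite.HasSheafHom F]

instance : ((ModSite.tensorBi O).flip.obj F).Additive :=
  (ModSite.sheafHomAdj F).left_adjoint_additive

/-- the simplicial comparison. -/
def simpIso {K' K : Sheaf J (Type u)} (f : K' ⟶ K) :
    (((Arrow.mk f).cechNerve ⋙ sheafToPresheaf J (Type u)) ⋙ Xi O ((fgt O).obj F)) ⋙ shf O ≅
      (((Arrow.mk f).cechNerve ⋙ Φ J) ⋙ LO O) ⋙ (ModSite.tensorBi O).flip.obj F :=
  (Functor.isoWhiskerLeft (Arrow.mk f).cechNerve
    ((tensIso O F).symm ≪≫ Functor.isoWhiskerRight (freeLOIso O).symm _) :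
    (Arrow.mk f).cechNerve ⋙ ((sheafToPresheaf J (Type u) ⋙ Xi O ((fgt O).obj F)) ⋙ shf O) ≅
      (Arrow.mk f).cechNerve ⋙ ((Φ J ⋙ LO O) ⋙ (ModSite.tensorBi O).flip.obj F))

/-- the comparison of chain complexes. -/
def cechXiIso {K' K : Sheaf J (Type u)} (f : K' ⟶ K) :
    cechXi O f ((fgt O).obj F) ≅
      (((ModSite.tensorBi O).flip.obj F).mapHomologicalComplex _).obj
        (((LO O).mapHomologicalComplex _).obj (cechP J f)) :=
  (alternatingFaceMapComplex _).mapIso (simpIso O F f) ≪≫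
    CechRes.altIso ((ModSite.tensorBi O).flip.obj F) (((Arrow.mk f).cechNerve ⋙ Φ J) ⋙ LO O) ≪≫
    (((ModSite.tensorBi O).flip.obj F).mapHomologicalComplex _).mapIso
      (CechRes.altIso (LO O) ((Arrow.mk f).cechNerve ⋙ Φ J))

/-- **The internal hom into an injective module is Čech-acyclic.** -/
theorem cechAcyclic_sheafHom [Injective G] :
    CechAcyclic J (ModSite.toAb ((ModSite.sheafHom F).obj G)) := by
  intro K' K f _ q
  refine CechTransfer.acyclicAt_of_adj (adjLO O) (cechP J f) ((ModSite.sheafHom F).obj G) q ?_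
  refine CechTransfer.acyclicAt_of_adj (ModSite.sheafHomAdj F) _ G q ?_
  exact CechTransfer.acyclicAt_of_iso (cechXiIso O F f) G q
    (acyclicAt_cechXi O f ((fgt O).obj F) G q)

/-- **The internal hom into an injective module is totally acyclic.** -/
theorem isTotallyAcyclic_sheafHom [Injective G] :
    CohCx.IsTotallyAcyclic (ModSite.toAb ((ModSite.sheafHom F).obj G)) :=
  isTotallyAcyclic_of_cechAcyclic J _ (cechAcyclic_sheafHom O F G)

end Main

end Groth.Agent.Lib.Helper2.ModHomAcyclic
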