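import Mathlib
import Groth.Prelude.Def_ModSite
import Groth.Agent.Lib.Helper13.ModSiteFreeOn
import Groth.Agent.Lib.Helper2.ModHomAcyclic

/-!
# Direct sums of the modules `j_{U!} O_U` on a ringed site (helper2)

The class of modules isomorphic to a coproduct of modules `freeOn O U` is closed under
isomorphisms and binary direct sums, contains a zero object, and every module is a quotient of a
module in the class.
-/

set_option autoImplicit false
universe u
open CategoryTheory CategoryTheory.Limits Opposite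

namespace Groth.Agent.Lib.Helper2.FreeSum

variable {C : Type u} [SmallCategory C] {J : GrothendieckTopology C} (O : Sheaf J CommRingCat.{u})

/-- Modules isomorphic to a coproduct of modules `freeOn O U`. -/
def freeSum : ObjectProperty (ModSite.Mod O) := fun M =>
  ∃ (ι : Type u) (U : ι → C), Nonempty (M ≅ ∐ fun j => ModSite.freeOn O (U j))

instance : (freeSum O).IsClosedUnderIsomorphisms where
  of_iso := fun e ⟨ι, U, ⟨i⟩⟩ => ⟨ι, U, ⟨e.symm ≪≫ i⟩⟩

lemma freeSum_zero : ∃ Z : ModSite.Mod O, IsZero Z ∧ freeSum O Z := by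
  refine ⟨∐ fun j : PEmpty.{u + 1} => ModSite.freeOn O (PEmpty.elim j : C), ?_,
    ⟨PEmpty.{u + 1}, fun j => PEmpty.elim j, ⟨Iso.refl _⟩⟩⟩
  rw [IsZero.iff_id_eq_zero]
  apply Sigma.hom_ext
  intro j
  exact j.elim

lemma freeSum_biprod (X Y : ModSite.Mod O) (hX : freeSum O X) (hY : freeSum O Y) :
    freeSum O (X ⊞ Y) := by
  obtain ⟨ι₁, U₁, ⟨e₁⟩⟩ := hX
  obtain ⟨ι₂, U₂, ⟨e₂⟩⟩ := hY
  let f₁ : ι₁ → ModSite.Mod O := fun j => ModSite.freeOn O (U₁ j)
  let f₂ : ι₂ → ModSite.Mod O := fun j => ModSite.freeOn O (U₂ j)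
  let bc : BinaryCofan (∐ f₁) (∐ f₂) := (BinaryBiproduct.bicone (∐ f₁) (∐ f₂)).toCocone
  have hbc : IsColimit bc := BinaryBiproduct.isColimit _ _
  have h := Cofan.combPairIsColimit (coproductIsCoproduct f₁) (coproductIsCoproduct f₂) hbc
  let e₃ : (∐ f₁) ⊞ (∐ f₂) ≅ ∐ (Sum.elim f₁ f₂) :=
    h.coconePointUniqueUpToIso (coproductIsCoproduct (Sum.elim f₁ f₂))
  let e₄ : ∐ (Sum.elim f₁ f₂) ≅ ∐ fun j => ModSite.freeOn O (Sum.elim U₁ U₂ j) :=
    Sigma.mapIso (fun j => match j with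
      | .inl _ => Iso.refl _
      | .inr _ => Iso.refl _)
  exact ⟨ι₁ ⊕ ι₂, Sum.elim U₁ U₂, ⟨biprod.mapIso e₁ e₂ ≪≫ e₃ ≪≫ e₄⟩⟩

lemma freeSum_epi (M : ModSite.Mod O) :
    ∃ (Y : ModSite.Mod O) (π : Y ⟶ M), freeSum O Y ∧ Epi π := by
  let ι := Σ X : C, (ModSite.freeOn O X ⟶ M)
  refine ⟨∐ fun j : ι => ModSite.freeOn O j.1, Sigma.desc (fun j => j.2),
    ⟨ι, fun j => j.1, ⟨Iso.refl _⟩⟩, ⟨fun {N} u v huv => ?_⟩⟩
  have hsep := Groth.Agent.Lib.Helper13.ModSiteFreeOn.freeOn_isSeparating O Set.univ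
    (fun X => ⟨PUnit.{u + 1}, fun _ => X, fun _ => 𝟙 X, by
      have : Sieve.ofArrows (fun _ : PUnit.{u + 1} => X) (fun _ => 𝟙 X) = ⊤ := by
        rw [← Sieve.id_mem_iff_eq_top]
        exact (Sieve.mem_ofArrows_iff _ _ _).2 ⟨PUnit.unit, 𝟙 X, (Category.id_comp _).symm⟩
      rw [this]
      exact J.top_mem X, fun _ => Set.mem_univ _⟩)
  apply hsep
  rintro G ⟨⟨X, _⟩⟩ h
  have := Sigma.ι (fun j : ι => ModSite.freeOn O j.1) ⟨X, h⟩ ≫= huv
  simpa using this

end Groth.Agent.Lib.Helper2.FreeSum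

namespace Groth.Agent.Lib.Helper2.FreeSum

universe v' u'

/-- Sequential colimits are exact in a Grothendieck abelian category. -/
theorem hasExactColimitsOfShape_nat {A : Type u'} [Category.{v'} A] [Abelian A]
    [IsGrothendieckAbelian.{v'} A] : HasExactColimitsOfShape ℕ A := by
  haveI : HasFilteredColimitsOfSize.{0, 0} A :=
    hasFilteredColimitsOfSize_of_univLE.{0, 0, v', v'}
  haveI : AB5OfSize.{0, 0} A := AB5OfSize_of_univLE.{0, 0, _, v', v'} A
  infer_instance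

end Groth.Agent.Lib.Helper2.FreeSum
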