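import Mathlib.Algebra.Homology.Embedding.CochainComplex
import Mathlib.Algebra.Homology.QuasiIso
import Mathlib.Algebra.Homology.CommSq
import Mathlib.CategoryTheory.Abelian.CommSq
import Mathlib.CategoryTheory.Abelian.Refinements
import Mathlib.Algebra.Homology.ShortComplex.ExactFunctor

/-!
# Right resolutions of bounded below complexes by objects of a class `I` (helper2)

Inductive ("stage") construction of a termwise-mono quasi-isomorphism `K ⟶ L` where `K` is an
`ℕ`-indexed cochain complex in an abelian category, and every `L.X n` is of the form `J _` for a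
chosen embedding `j X : X ⟶ J X`.
-/

set_option autoImplicit false
universe v u
open CategoryTheory CategoryTheory.Limits

namespace Groth.Agent.Lib.Helper2.IRes

variable {A : Type u} [Category.{v} A] [Abelian A]

lemma pushout_exact_up_to_refinements {Q C Y P : A} {c : Q ⟶ C} {f : Q ⟶ Y} {inl : C ⟶ P}
    {inr : Y ⟶ P} (h : IsPushout c f inl inr) {T : A} (w : T ⟶ C) (y : T ⟶ Y)
    (hwy : w ≫ inl = y ≫ inr) :
    ∃ (T' : A) (π : T' ⟶ T) (_ : Epi π) (q : T' ⟶ Q), π ≫ w = q ≫ c ∧ π ≫ y = q ≫ f := by
  obtain ⟨T', π, hπ, q₀, hq₀⟩ := h.exact_shortComplex.exact_up_to_refinements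
    (biprod.lift w (-y)) (by
      change biprod.lift w (-y) ≫ biprod.desc inl inr = 0
      rw [biprod.lift_desc, Preadditive.neg_comp, hwy, add_neg_cancel])
  let q : T' ⟶ Q := q₀
  have hq : π ≫ biprod.lift w (-y) = q ≫ biprod.lift c (-f) := hq₀
  refine ⟨T', π, hπ, q, ?_, ?_⟩
  · have := hq =≫ biprod.fst
    simp only [Category.assoc, biprod.lift_fst] at this
    exact this
  · have := hq =≫ biprod.snd
    simp only [Category.assoc, biprod.lift_snd, Preadditive.comp_neg, neg_inj] at this
    exact this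

section NatConstruction

variable (K : CochainComplex A ℕ) (J : A → A) (j : ∀ X, X ⟶ J X)

/-- The data at stage `n` of the construction. -/
structure Stage (n : ℕ) where
  X : A
  C : A
  p : X ⟶ C
  α : K.X n ⟶ X
  c : K.opcycles n ⟶ C
  hc : K.pOpcycles n ≫ c = α ≫ p

namespace Stage

variable {K} {n : ℕ} (s : Stage K n)

/-- The differential out of stage `n`. -/
noncomputable def d : s.X ⟶ J (pushout s.c (K.fromOpcycles n (n + 1))) :=
  s.p ≫ pushout.inl _ _ ≫ j _

lemma d_comm : s.α ≫ s.d J j =
    K.d n (n + 1) ≫ pushout.inr s.c (K.fromOpcycles n (n + 1)) ≫ j _ := by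
  dsimp only [d]
  rw [← reassoc_of% s.hc, pushout.condition_assoc, K.p_fromOpcycles_assoc]

/-- The next stage. -/
noncomputable def next : Stage K (n + 1) where
  X := J (pushout s.c (K.fromOpcycles n (n + 1)))
  C := cokernel (s.d J j)
  p := cokernel.π _
  α := pushout.inr _ _ ≫ j _
  c := K.descOpcycles (pushout.inr _ _ ≫ j _ ≫ cokernel.π (s.d J j)) n (by simp) (by
    have h := s.d_comm J j =≫ cokernel.π (s.d J j)
    simp only [Category.assoc, cokernel.condition, comp_zero] at h
    exact h.symm)
  hc := by rw [K.p_descOpcycles, Category.assoc]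

end Stage

/-- The initial stage. -/
noncomputable def stage0 : Stage K 0 where
  X := J (K.X 0)
  C := J (K.X 0)
  p := 𝟙 _
  α := j _
  c := K.descOpcycles (j (K.X 0)) 0 (by simp) (by rw [K.shape 0 0 (by simp), zero_comp])
  hc := by simp

lemma p_stage0_c : K.pOpcycles 0 ≫ (stage0 K J j).c = j (K.X 0) := by
  unfold stage0
  dsimp only
  rw [K.p_descOpcycles]

/-- All the stages. -/
noncomputable def stage : ∀ n, Stage K n :=
  fun n => Nat.rec (stage0 K J j) (fun _ s => s.next J j) n

/-- The resolving complex. -/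
noncomputable def L : CochainComplex A ℕ :=
  CochainComplex.of (fun n => (stage K J j n).X) (fun n => (stage K J j n).d J j) (fun n => by
    change (stage K J j n).d J j ≫ (cokernel.π ((stage K J j n).d J j) ≫ _) = 0
    rw [cokernel.condition_assoc, zero_comp])

lemma L_d (n : ℕ) : (L K J j).d n (n + 1) = (stage K J j n).d J j := by
  dsimp only [L]
  rw [CochainComplex.of_d]

/-- The comparison map. -/
noncomputable def αHom : K ⟶ L K J j where
  f n := (stage K J j n).α
  comm' i k hik := by
    obtain rfl : i + 1 = k := hik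
    rw [L_d]
    exact (stage K J j i).d_comm J j

lemma L_X (n : ℕ) : (L K J j).X n = (stage K J j n).X := rfl

lemma αHom_f (n : ℕ) : (αHom K J j).f n = (stage K J j n).α := rfl

lemma stage_succ (n : ℕ) : stage K J j (n + 1) = (stage K J j n).next J j := rfl

instance epi_p (n : ℕ) : Epi (stage K J j n).p := by
  cases n with
  | zero => change Epi (𝟙 _); infer_instance
  | succ n => change Epi (cokernel.π _); infer_instance

lemma fromOpcycles_pOpcycles (n : ℕ) : K.fromOpcycles n (n + 1) ≫ K.pOpcycles (n + 1) = 0 := by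
  rw [← cancel_epi (K.pOpcycles n), K.p_fromOpcycles_assoc, K.d_pOpcycles, comp_zero]

namespace Stage

variable {K} {n : ℕ} (s : Stage K n)

lemma p_next_c : K.pOpcycles (n + 1) ≫ (s.next J j).c =
    pushout.inr s.c (K.fromOpcycles n (n + 1)) ≫ j _ ≫ cokernel.π (s.d J j) := by
  unfold Stage.next
  dsimp only
  rw [K.p_descOpcycles]

lemma mono_next_c [∀ X, Mono (j X)] : Mono (s.next J j).c := by
  rw [Preadditive.mono_iff_cancel_zero]
  intro T z hz
  obtain ⟨T₁, π₁, _, y, hy⟩ := surjective_up_to_refinements_of_epi (K.pOpcycles (n + 1)) z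
  have hpc := s.p_next_c J j
  have h1 : (y ≫ pushout.inr s.c (K.fromOpcycles n (n + 1)) ≫ j _) ≫
      cokernel.π (s.d J j) = 0 := by
    have e1 : (y ≫ pushout.inr s.c (K.fromOpcycles n (n + 1)) ≫ j _) ≫
        cokernel.π (s.d J j) = y ≫ K.pOpcycles (n + 1) ≫ (s.next J j).c := by
      rw [Category.assoc, Category.assoc]
      exact congrArg (fun t => y ≫ t) hpc.symm
    rw [e1, ← reassoc_of% hy]
    exact (congrArg (fun t => π₁ ≫ t) hz).trans comp_zero
  have hex : (ShortComplex.mk (s.d J j) (cokernel.π (s.d J j))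
      (cokernel.condition _)).Exact := ShortComplex.exact_cokernel _
  obtain ⟨T₂, π₂, _, x, hx⟩ := hex.exact_up_to_refinements _ h1
  have hx' : π₂ ≫ y ≫ pushout.inr s.c (K.fromOpcycles n (n + 1)) ≫ j _ =
      x ≫ s.d J j := hx
  have h2 : (x ≫ s.p) ≫ pushout.inl s.c (K.fromOpcycles n (n + 1)) =
      (π₂ ≫ y) ≫ pushout.inr _ _ := by
    rw [← cancel_mono (j _)]
    simp only [Category.assoc]
    exact hx'.symm
  obtain ⟨T₃, π₃, _, q, _, hq2⟩ := pushout_exact_up_to_refinements
    (IsPushout.of_hasPushout s.c (K.fromOpcycles n (n + 1))) _ _ h2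
  have h3 : π₃ ≫ π₂ ≫ π₁ ≫ z = 0 := by
    rw [hy, reassoc_of% hq2, fromOpcycles_pOpcycles, comp_zero]
  rw [← cancel_epi π₁, ← cancel_epi π₂, ← cancel_epi π₃, h3, comp_zero, comp_zero, comp_zero]

lemma mono_next_α [∀ X, Mono (j X)] [Mono s.c] : Mono (s.next J j).α := by
  change Mono (pushout.inr s.c (K.fromOpcycles n (n + 1)) ≫ j _)
  infer_instance

end Stage

section Mono

variable [∀ X, Mono (j X)]

lemma mono_c_zero : Mono (stage K J j 0).c := by
  haveI : IsIso (K.pOpcycles 0) := K.isIso_pOpcycles 0 0 (by simp) (K.shape _ _ (by simp))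
  have h : K.pOpcycles 0 ≫ (stage K J j 0).c = j (K.X 0) := p_stage0_c K J j
  haveI hm : Mono (K.pOpcycles 0 ≫ (stage K J j 0).c) := by
    rw [h]; exact (inferInstance : Mono (j (K.X 0)))
  have e : (stage K J j 0).c = inv (K.pOpcycles 0) ≫ (K.pOpcycles 0 ≫ (stage K J j 0).c) := by
    rw [IsIso.inv_hom_id_assoc]
  rw [e]
  infer_instance

lemma mono_c (n : ℕ) : Mono (stage K J j n).c := by
  cases n with
  | zero => exact mono_c_zero K J j
  | succ n => exact (stage K J j n).mono_next_c J j

lemma mono_α (n : ℕ) : Mono (stage K J j n).α := by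
  cases n with
  | zero => exact (inferInstance : Mono (j (K.X 0)))
  | succ n =>
    haveI := mono_c K J j n
    exact (stage K J j n).mono_next_α J j

end Mono

lemma exists_e (n : ℕ) : ∃ e : (L K J j).opcycles n ≅ (stage K J j n).C,
    (L K J j).pOpcycles n ≫ e.hom = (stage K J j n).p := by
  cases n with
  | zero =>
    haveI : IsIso ((L K J j).pOpcycles 0) :=
      (L K J j).isIso_pOpcycles 0 0 (by simp) ((L K J j).shape _ _ (by simp))
    exact ⟨(asIso ((L K J j).pOpcycles 0)).symm, IsIso.hom_inv_id _⟩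
  | succ n =>
    have w1 : (L K J j).d n (n + 1) ≫ (stage K J j (n + 1)).p = 0 := by
      rw [L_d]; exact cokernel.condition _
    have w2 : (stage K J j n).d J j ≫ (L K J j).pOpcycles (n + 1) = 0 := by
      rw [← L_d]; exact (L K J j).d_pOpcycles n (n + 1)
    have h1 : (L K J j).pOpcycles (n + 1) ≫
        (L K J j).descOpcycles (stage K J j (n + 1)).p n (by simp) w1 =
          (stage K J j (n + 1)).p := (L K J j).p_descOpcycles _ _ _ _
    have h2 : (stage K J j (n + 1)).p ≫
        cokernel.desc ((stage K J j n).d J j) ((L K J j).pOpcycles (n + 1)) w2 =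
          (L K J j).pOpcycles (n + 1) := cokernel.π_desc _ _ _
    refine ⟨⟨(L K J j).descOpcycles (stage K J j (n + 1)).p n (by simp) w1,
      cokernel.desc ((stage K J j n).d J j) ((L K J j).pOpcycles (n + 1)) w2, ?_, ?_⟩, h1⟩
    · rw [← cancel_epi ((L K J j).pOpcycles (n + 1))]
      exact ((reassoc_of% h1) _).trans (h2.trans (Category.comp_id _).symm)
    · rw [← cancel_epi (stage K J j (n + 1)).p]
      exact ((reassoc_of% h2) _).trans (h1.trans (Category.comp_id _).symm)

section QuasiIso

variable [∀ X, Mono (j X)]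

lemma fromOpcycles_eq (n : ℕ) (e : (L K J j).opcycles n ≅ (stage K J j n).C)
    (he : (L K J j).pOpcycles n ≫ e.hom = (stage K J j n).p) :
    (L K J j).fromOpcycles n (n + 1) =
      e.hom ≫ pushout.inl (stage K J j n).c (K.fromOpcycles n (n + 1)) ≫ j _ := by
  rw [← cancel_epi ((L K J j).pOpcycles n), (L K J j).p_fromOpcycles, L_d]
  exact ((reassoc_of% he) _).symm

lemma opcyclesMap_eq (n : ℕ) (e : (L K J j).opcycles n ≅ (stage K J j n).C)
    (he : (L K J j).pOpcycles n ≫ e.hom = (stage K J j n).p) :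
    HomologicalComplex.opcyclesMap (αHom K J j) n ≫ e.hom = (stage K J j n).c := by
  rw [← cancel_epi (K.pOpcycles n), HomologicalComplex.p_opcyclesMap_assoc, he]
  exact (stage K J j n).hc.symm

lemma quasiIsoAt (n : ℕ) : QuasiIsoAt (αHom K J j) n := by
  rw [quasiIsoAt_iff_isIso_homologyMap]
  obtain ⟨e, he⟩ := exists_e K J j n
  have hu := opcyclesMap_eq K J j n e he
  have hf := fromOpcycles_eq K J j n e he
  haveI := mono_c K J j n
  haveI : Mono (HomologicalComplex.opcyclesMap (αHom K J j) n) := mono_of_mono_fac hu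
  have hnat : HomologicalComplex.homologyMap (αHom K J j) n ≫ (L K J j).homologyι n =
      K.homologyι n ≫ HomologicalComplex.opcyclesMap (αHom K J j) n :=
    HomologicalComplex.homologyι_naturality _ _
  haveI : Mono (HomologicalComplex.homologyMap (αHom K J j) n) := mono_of_mono_fac hnat
  haveI : Epi (HomologicalComplex.homologyMap (αHom K J j) n) := by
    rw [epi_iff_surjective_up_to_refinements]
    intro T z
    have hy : (z ≫ (L K J j).homologyι n ≫ e.hom) ≫
        pushout.inl (stage K J j n).c (K.fromOpcycles n (n + 1)) =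
          (0 : T ⟶ K.X (n + 1)) ≫ pushout.inr _ _ := by
      have h0 : (L K J j).homologyι n ≫ e.hom ≫
          pushout.inl (stage K J j n).c (K.fromOpcycles n (n + 1)) ≫ j _ = 0 := by
        have := (L K J j).homologyι_comp_fromOpcycles n (n + 1)
        rw [hf] at this
        exact this
      rw [zero_comp, ← cancel_mono (j _), zero_comp]
      simp only [Category.assoc]
      exact (congrArg (fun t => z ≫ t) h0).trans comp_zero
    obtain ⟨T', π, hπ, q, hq1, hq2⟩ := pushout_exact_up_to_refinements
      (IsPushout.of_hasPushout _ _) _ _ hy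
    rw [comp_zero] at hq2
    obtain ⟨x, hx⟩ := KernelFork.IsLimit.lift' (K.homologyIsKernel n (n + 1) (by simp)) q
      hq2.symm
    have hx' : x ≫ K.homologyι n = q := hx
    refine ⟨T', π, hπ, x, ?_⟩
    rw [← cancel_mono ((L K J j).homologyι n ≫ e.hom)]
    have e1 : (π ≫ z) ≫ (L K J j).homologyι n ≫ e.hom = q ≫ (stage K J j n).c := by
      rw [Category.assoc]; exact hq1
    have e2 : (x ≫ HomologicalComplex.homologyMap (αHom K J j) n) ≫
        (L K J j).homologyι n ≫ e.hom = q ≫ (stage K J j n).c := by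
      rw [Category.assoc, reassoc_of% hnat, hu, ← hx', Category.assoc]
    exact e1.trans e2.symm
  exact isIso_of_mono_of_epi _

end QuasiIso

end NatConstruction

/-- Resolution of an `ℕ`-indexed cochain complex by objects of a class `I` into which every
object embeds. -/
theorem exists_resolution_nat (I : A → Prop)
    (hI : ∀ X : A, ∃ (Y : A) (ι : X ⟶ Y), I Y ∧ Mono ι) (K : CochainComplex A ℕ) :
    ∃ (L : CochainComplex A ℕ) (α : K ⟶ L), (∀ n, I (L.X n)) ∧ (∀ n, Mono (α.f n)) ∧
      QuasiIso α := by
  choose J j hJ hj using hI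
  haveI : ∀ X, Mono (j X) := hj
  refine ⟨L K J j, αHom K J j, ?_, ?_, ?_⟩
  · intro n
    cases n with
    | zero => exact hJ (K.X 0)
    | succ n => exact hJ (pushout (stage K J j n).c (K.fromOpcycles n (n + 1)))
  · intro n
    exact mono_α K J j n
  · exact ⟨fun n => quasiIsoAt K J j n⟩

section IntTransfer

/-- Transport a homological complex along isomorphisms of its objects. -/
noncomputable def transport {ι : Type*} {c : ComplexShape ι} (L' : HomologicalComplex A c)
    (Y : ι → A) (e : ∀ n, L'.X n ≅ Y n) : HomologicalComplex A c where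
  X := Y
  d i k := (e i).inv ≫ L'.d i k ≫ (e k).hom
  shape i k h := by rw [L'.shape i k h, zero_comp, comp_zero]
  d_comp_d' i k l _ _ := by simp

/-- The transported complex is isomorphic to the original one. -/
noncomputable def transportIso {ι : Type*} {c : ComplexShape ι} (L' : HomologicalComplex A c)
    (Y : ι → A) (e : ∀ n, L'.X n ≅ Y n) : L' ≅ transport L' Y e :=
  HomologicalComplex.Hom.isoOfComponents e (by intro i k _; simp [transport])

/-- Resolution of a cohomologically bounded below `ℤ`-indexed cochain complex by objects of a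
class `I` (containing a zero object) into which every object embeds. -/
theorem exists_resolution_int (I : A → Prop) (hI0 : ∃ Z : A, IsZero Z ∧ I Z)
    (hI : ∀ X : A, ∃ (Y : A) (ι : X ⟶ Y), I Y ∧ Mono ι) (K : CochainComplex A ℤ) (a : ℤ)
    [K.IsGE a] :
    ∃ (L : CochainComplex A ℤ) (α : K ⟶ L), L.IsStrictlyGE a ∧ (∀ n, I (L.X n)) ∧ QuasiIso α ∧
      (K.IsStrictlyGE a → ∀ n, Mono (α.f n)) := by
  classical
  obtain ⟨Z₀, hZ₀, hIZ₀⟩ := hI0
  let e := ComplexShape.embeddingUpIntGE a
  let K₀ : CochainComplex A ℕ := HomologicalComplex.truncGE' K e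
  obtain ⟨L₀, α₀, hL₀, hα₀mono, hα₀⟩ := exists_resolution_nat I hI K₀
  let L' : CochainComplex A ℤ := L₀.extend e
  let α' : K.truncGE a ⟶ L' := HomologicalComplex.extendMap α₀ e
  let Y : ℤ → A := fun i => if h : ∃ n : ℕ, e.f n = i then L₀.X h.choose else Z₀
  have eY : ∀ i, L'.X i ≅ Y i := fun i =>
    if h : ∃ n : ℕ, e.f n = i then
      (L₀.extendXIso e h.choose_spec) ≪≫ eqToIso (by simp only [Y, dif_pos h])
    else (IsZero.iso (L₀.isZero_extend_X e i (fun n hn => h ⟨n, hn⟩)) hZ₀) ≪≫
      eqToIso (by simp only [Y, dif_neg h])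
  haveI : QuasiIso α' := (HomologicalComplex.quasiIso_extendMap_iff α₀ e).2 hα₀
  haveI : L'.IsStrictlyGE a := inferInstanceAs ((L₀.extend e).IsStrictlySupported e)
  refine ⟨transport L' Y eY, K.πTruncGE a ≫ α' ≫ (transportIso L' Y eY).hom, ?_, ?_, ?_, ?_⟩
  · exact CochainComplex.isStrictlyGE_of_iso (transportIso L' Y eY) a
  · intro i
    change I (Y i)
    by_cases h : ∃ n : ℕ, e.f n = i
    · simp only [Y, dif_pos h]; exact hL₀ _
    · simp only [Y, dif_neg h]; exact hIZ₀
  · infer_instance
  · intro hK n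
    haveI := hK
    haveI : Mono (α'.f n) := by
      by_cases h : ∃ m : ℕ, e.f m = n
      · obtain ⟨m, hm⟩ := h
        haveI := hα₀mono m
        have := HomologicalComplex.extendMap_f α₀ e hm
        change Mono ((HomologicalComplex.extendMap α₀ e).f n)
        rw [this]
        infer_instance
      · exact (K₀.isZero_extend_X e n (fun m hm => h ⟨m, hm⟩)).mono _
    haveI : IsIso (K.πTruncGE a) := inferInstance
    rw [HomologicalComplex.comp_f, HomologicalComplex.comp_f]
    infer_instance

end IntTransfer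

end Groth.Agent.Lib.Helper2.IRes
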