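import Mathlib
import Groth.Agent.Lib.Helper2.IRes

/-!
# Left resolutions of bounded above complexes by objects of a class `P` (helper2)

Dual of `IRes`: if every object of an abelian category is a quotient of an object of a class `P`,
then every bounded above cochain complex receives a termwise epimorphic quasi-isomorphism from a
bounded above complex with terms in `P`.
-/

set_option autoImplicit false
universe v u
open CategoryTheory CategoryTheory.Limits Opposite

namespace Groth.Agent.Lib.Helper2.PRes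

variable {A : Type u} [Category.{v} A] [Abelian A]

/-- Left resolution of an `ℕ`-indexed chain complex by objects of a class `P` of which every object
is a quotient. -/
theorem exists_resolution_nat (P : A → Prop)
    (hP : ∀ X : A, ∃ (Y : A) (π : Y ⟶ X), P Y ∧ Epi π) (K : ChainComplex A ℕ) :
    ∃ (Q : ChainComplex A ℕ) (α : Q ⟶ K), (∀ n, P (Q.X n)) ∧ (∀ n, Epi (α.f n)) ∧
      QuasiIso α := by
  have hI : ∀ X : Aᵒᵖ, ∃ (Y : Aᵒᵖ) (ι : X ⟶ Y), (fun Z : Aᵒᵖ => P Z.unop) Y ∧ Mono ι := by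
    intro X
    obtain ⟨Y, π, hY, hπ⟩ := hP X.unop
    exact ⟨op Y, π.op, hY, inferInstance⟩
  let K' : CochainComplex Aᵒᵖ ℕ := K.op
  obtain ⟨L, α, hL, hα, hq⟩ := IRes.exists_resolution_nat (fun Z : Aᵒᵖ => P Z.unop) hI K'
  let Q : ChainComplex A ℕ := L.unop
  let β : Q ⟶ K := (HomologicalComplex.unopFunctor A (ComplexShape.up ℕ)).map α.op
  refine ⟨Q, β, fun n => hL n, fun n => ?_, ?_⟩
  · haveI := hα n
    change Epi (α.f n).unop
    infer_instance
  · exact (HomologicalComplex.quasiIso_unopFunctor_map_iff α).2 hq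

/-- Left resolution of a strictly bounded above `ℤ`-indexed cochain complex by objects of a
class `P` (containing a zero object) of which every object is a quotient. -/
theorem exists_resolution_int (P : A → Prop) (hP0 : ∃ Z : A, IsZero Z ∧ P Z)
    (hP : ∀ X : A, ∃ (Y : A) (π : Y ⟶ X), P Y ∧ Epi π) (K : CochainComplex A ℤ) (a : ℤ)
    [K.IsStrictlyLE a] :
    ∃ (Q : CochainComplex A ℤ) (α : Q ⟶ K), Q.IsStrictlyLE a ∧ (∀ n, P (Q.X n)) ∧
      (∀ n, Epi (α.f n)) ∧ QuasiIso α := by
  classical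
  obtain ⟨Z₀, hZ₀, hPZ₀⟩ := hP0
  let e := ComplexShape.embeddingUpIntLE a
  let K₀ : ChainComplex A ℕ := HomologicalComplex.truncLE' K e
  obtain ⟨Q₀, α₀, hQ₀, hα₀epi, hα₀⟩ := exists_resolution_nat P hP K₀
  let Q' : CochainComplex A ℤ := Q₀.extend e
  let α' : Q' ⟶ K₀.extend e := HomologicalComplex.extendMap α₀ e
  let Y : ℤ → A := fun i => if h : ∃ n : ℕ, e.f n = i then Q₀.X h.choose else Z₀
  have eY : ∀ i, Q'.X i ≅ Y i := fun i =>
    if h : ∃ n : ℕ, e.f n = i then
      (Q₀.extendXIso e h.choose_spec) ≪≫ eqToIso (by simp only [Y, dif_pos h])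
    else (IsZero.iso (Q₀.isZero_extend_X e i (fun n hn => h ⟨n, hn⟩)) hZ₀) ≪≫
      eqToIso (by simp only [Y, dif_neg h])
  haveI : QuasiIso α' := (HomologicalComplex.quasiIso_extendMap_iff α₀ e).2 hα₀
  haveI : Q'.IsStrictlyLE a := inferInstanceAs ((Q₀.extend e).IsStrictlySupported e)
  haveI : IsIso (K.ιTruncLE a) := inferInstance
  refine ⟨IRes.transport Q' Y eY,
    (IRes.transportIso Q' Y eY).inv ≫ α' ≫ (K.truncLEIso e).inv ≫ K.ιTruncLE a, ?_, ?_, ?_, ?_⟩
  · exact CochainComplex.isStrictlyLE_of_iso (IRes.transportIso Q' Y eY) a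
  · intro i
    change P (Y i)
    by_cases h : ∃ n : ℕ, e.f n = i
    · simp only [Y, dif_pos h]; exact hQ₀ _
    · simp only [Y, dif_neg h]; exact hPZ₀
  · intro n
    haveI : Epi (α'.f n) := by
      by_cases h : ∃ m : ℕ, e.f m = n
      · obtain ⟨m, hm⟩ := h
        haveI := hα₀epi m
        have := HomologicalComplex.extendMap_f α₀ e hm
        change Epi ((HomologicalComplex.extendMap α₀ e).f n)
        rw [this]
        infer_instance
      · exact (K₀.isZero_extend_X e n (fun m hm => h ⟨m, hm⟩)).epi _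
    rw [HomologicalComplex.comp_f, HomologicalComplex.comp_f, HomologicalComplex.comp_f]
    infer_instance
  · infer_instance

/-- Left resolution of a cohomologically bounded above complex. -/
theorem exists_resolution_of_isLE (P : A → Prop) (hP0 : ∃ Z : A, IsZero Z ∧ P Z)
    (hP : ∀ X : A, ∃ (Y : A) (π : Y ⟶ X), P Y ∧ Epi π) (K : CochainComplex A ℤ) (a : ℤ)
    [K.IsLE a] :
    ∃ (Q : CochainComplex A ℤ) (α : Q ⟶ K), Q.IsStrictlyLE a ∧ (∀ n, P (Q.X n)) ∧
      QuasiIso α := by
  obtain ⟨Q, α, hQ, hQP, _, hα⟩ := exists_resolution_int P hP0 hP (K.truncLE a) a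
  haveI := hα
  exact ⟨Q, α ≫ K.ιTruncLE a, hQ, hQP, inferInstance⟩

end Groth.Agent.Lib.Helper2.PRes
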