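import Mathlib
import Groth.Agent.Lib.Helper2.PRes

/-!
# Relative left resolutions (helper2)

Given a class `P` of objects of an abelian category (closed under isomorphisms and binary direct
sums, containing a zero object, every object being a quotient of an object of `P`), any morphism
`g : R ⟶ K'` of bounded above complexes with `R` termwise in `P` factors as `R ⟶ R' ⟶ K'` where
`R ⟶ R'` is a termwise split monomorphism with cokernel termwise in `P` and `R' ⟶ K'` is a
termwise epimorphic quasi-isomorphism, `R'` bounded above with terms in `P`.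
-/

set_option autoImplicit false
universe v u
open CategoryTheory CategoryTheory.Limits HomologicalComplex

namespace Groth.Agent.Lib.Helper2.PRes

section Five

variable {A : Type u} [Category.{v} A] [Abelian A]
  {S₁ S₂ : ShortComplex (CochainComplex A ℤ)} (φ : S₁ ⟶ S₂)
  (hS₁ : S₁.ShortExact) (hS₂ : S₂.ShortExact)

open HomologicalComplex.HomologySequence ComposableArrows

include hS₁ hS₂ in
lemma quasiIso_τ₂ (h₁ : QuasiIso φ.τ₁) (h₃ : QuasiIso φ.τ₃) : QuasiIso φ.τ₂ := by
  rw [quasiIso_iff]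
  intro i
  rw [quasiIsoAt_iff_isIso_homologyMap]
  have hij : (ComplexShape.up ℤ).Rel (i - 1) i := by simp
  have hij' : (ComplexShape.up ℤ).Rel i (i + 1) := by simp
  have m : Mono (homologyMap φ.τ₂ i) := by
    apply Abelian.mono_of_epi_of_mono_of_mono
      ((δ₀Functor ⋙ δ₀Functor).map (mapComposableArrows₅ φ hS₁ hS₂ (i - 1) i hij))
    · exact (composableArrows₅_exact hS₁ (i - 1) i hij).δ₀.δ₀
    · exact (composableArrows₅_exact hS₂ (i - 1) i hij).δ₀.δ₀
    · change Epi (homologyMap φ.τ₃ (i - 1)); infer_instance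
    · change Mono (homologyMap φ.τ₁ i); infer_instance
    · change Mono (homologyMap φ.τ₃ i); infer_instance
  have e : Epi (homologyMap φ.τ₂ i) := by
    apply Abelian.epi_of_epi_of_epi_of_mono
      ((δlastFunctor ⋙ δlastFunctor).map (mapComposableArrows₅ φ hS₁ hS₂ i (i + 1) hij'))
    · exact (composableArrows₅_exact hS₁ i (i + 1) hij').δlast.δlast
    · exact (composableArrows₅_exact hS₂ i (i + 1) hij').δlast.δlast
    · change Epi (homologyMap φ.τ₁ i); infer_instance
    · change Epi (homologyMap φ.τ₃ i); infer_instance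
    · change Mono (homologyMap φ.τ₁ (i + 1)); infer_instance
  exact isIso_of_mono_of_epi _

end Five

section Cyl

variable {A : Type u} [Category.{v} A] [Abelian A] {R K' : CochainComplex A ℤ} (g : R ⟶ K')

open CochainComplex

/-- The "mapping cylinder" `Cone(𝟙 R) ⊞ K'`. -/
noncomputable abbrev cyl : CochainComplex A ℤ := mappingCone (𝟙 R) ⊞ K'

/-- The inclusion `R ⟶ Cone(𝟙 R) ⊞ K'`. -/
noncomputable def cylι : R ⟶ cyl (R := R) (K' := K') :=
  biprod.lift (mappingCone.inr (𝟙 R)) g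

/-- The projection `Cone(𝟙 R) ⊞ K' ⟶ K'`. -/
noncomputable abbrev cylπ : cyl (R := R) (K' := K') ⟶ K' := biprod.snd

@[reassoc (attr := simp)]
lemma cylι_π : cylι g ≫ cylπ = g := by simp [cylι]

set_option backward.isDefEq.respectTransparency false in
lemma cylι_f_retraction (n : ℤ) :
    (cylι g).f n ≫ (biprod.fst : cyl (R := R) (K' := K') ⟶ _).f n ≫
      (mappingCone.snd (𝟙 R)).v n n (add_zero n) = 𝟙 _ := by
  simp [cylι, ← HomologicalComplex.comp_f_assoc]

/-- The projection is a homotopy equivalence. -/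
noncomputable def cylHomotopyEquiv : HomotopyEquiv (cyl (R := R) (K' := K')) K' where
  hom := cylπ
  inv := biprod.inr
  homotopyHomInvId :=
    let h₀ : Homotopy (𝟙 (mappingCone (𝟙 R))) 0 :=
      mappingCone.liftHomotopy _ _ _ (mappingCone.snd _) 0 (by simp) (by simp)
    let h₁ := (h₀.compRight
      (biprod.inl : _ ⟶ mappingCone (𝟙 R) ⊞ K')).compLeft
        (biprod.fst : mappingCone (𝟙 R) ⊞ K' ⟶ _)
    let h₂ := Homotopy.add h₁ (Homotopy.refl (biprod.snd ≫ biprod.inr))
    (Homotopy.ofEq (by simp)).trans (h₂.symm.trans (Homotopy.ofEq (by simp)))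
  homotopyInvHomId := Homotopy.ofEq (by simp)

instance : QuasiIso (cylπ : cyl (R := R) (K' := K') ⟶ K') :=
  (cylHomotopyEquiv (R := R) (K' := K')).quasiIso_hom

lemma isStrictlyLE_cyl (b : ℤ) [R.IsStrictlyLE b] [K'.IsStrictlyLE b] :
    (cyl (R := R) (K' := K')).IsStrictlyLE b := by
  rw [isStrictlyLE_iff]
  intro i hi
  refine IsZero.of_iso ?_ ((HomologicalComplex.eval A (ComplexShape.up ℤ) i).mapBiprod _ _)
  simp only [HomologicalComplex.eval_obj, biprod_isZero_iff, mappingCone.isZero_X_iff]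
  exact ⟨⟨R.isZero_of_isStrictlyLE b _ (by lia), R.isZero_of_isStrictlyLE b _ hi⟩,
    K'.isZero_of_isStrictlyLE b i hi⟩

end Cyl

section Pullback

variable {C : Type*} [Category C] [Abelian C] {X Z Cc Q : C} (i : X ⟶ Z) [Mono i] (c : Z ⟶ Cc)
  (hic : i ≫ c = 0) (hS : (ShortComplex.mk i c hic).Exact) (r : Q ⟶ Cc)

include hS in
/-- Pulling back an exact sequence `0 → X → Z → Cc` along `r : Q ⟶ Cc` gives an exact sequence
`0 → X → Z ×_{Cc} Q → Q`. -/
lemma exact_pullback :
    (ShortComplex.mk (pullback.lift i 0 (by simp [hic]) : X ⟶ pullback c r) (pullback.snd c r)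
      (pullback.lift_snd _ _ _)).Exact := by
  haveI : Mono (pullback.lift i 0 (by simp [hic]) : X ⟶ pullback c r) :=
    mono_of_mono_fac (pullback.lift_fst _ _ _)
  apply ShortComplex.exact_of_f_is_kernel
  refine KernelFork.IsLimit.ofι' _ _ (fun {T} t ht => ?_)
  have ht' : t ≫ pullback.snd c r = 0 := ht
  have h1 : (t ≫ pullback.fst c r) ≫ (ShortComplex.mk i c hic).g = 0 := by
    change (t ≫ pullback.fst c r) ≫ c = 0
    rw [Category.assoc, pullback.condition, ← Category.assoc, ht', zero_comp]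
  haveI : Mono (ShortComplex.mk i c hic).f := ‹Mono i›
  refine ⟨hS.lift (t ≫ pullback.fst c r) h1, ?_⟩
  have h2 : hS.lift (t ≫ pullback.fst c r) h1 ≫ i = t ≫ pullback.fst c r := hS.lift_f _ _
  apply pullback.hom_ext
  · change (_ ≫ pullback.lift i 0 _) ≫ pullback.fst c r = t ≫ pullback.fst c r
    rw [Category.assoc, pullback.lift_fst, h2]
  · change (_ ≫ pullback.lift i 0 _) ≫ pullback.snd c r = t ≫ pullback.snd c r
    rw [Category.assoc, pullback.lift_snd, comp_zero, ht']

end Pullback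

section Rel

variable {A : Type u} [Category.{v} A] [Abelian A]
  (P : ObjectProperty A) [P.IsClosedUnderIsomorphisms]

open CochainComplex

theorem exists_relative_resolution (hP0 : ∃ Z : A, IsZero Z ∧ P Z)
    (hPsum : ∀ X Y : A, P X → P Y → P (X ⊞ Y))
    (hP : ∀ X : A, ∃ (Y : A) (π : Y ⟶ X), P Y ∧ Epi π)
    {R K' : CochainComplex A ℤ} (g : R ⟶ K') (b : ℤ) [R.IsStrictlyLE b] [K'.IsStrictlyLE b]
    (hR : ∀ i, P (R.X i)) :
    ∃ (R' : CochainComplex A ℤ) (ι : R ⟶ R') (f : R' ⟶ K'), ι ≫ f = g ∧ QuasiIso f ∧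
      (∀ i, Epi (f.f i)) ∧ R'.IsStrictlyLE b ∧ (∀ i, P (R'.X i)) ∧
      ∀ i, (∃ r : R'.X i ⟶ R.X i, ι.f i ≫ r = 𝟙 _) ∧ P (cokernel (ι.f i)) := by
  let Z : CochainComplex A ℤ := cyl (R := R) (K' := K')
  let i : R ⟶ Z := cylι g
  haveI : Mono i := mono_of_mono_f _ (fun n => mono_of_mono_fac (cylι_f_retraction g n))
  let c : Z ⟶ cokernel i := cokernel.π i
  haveI : Z.IsStrictlyLE b := isStrictlyLE_cyl b
  haveI : (cokernel i).IsStrictlyLE b := by
    rw [isStrictlyLE_iff]
    intro n hn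
    exact IsZero.of_epi (c.f n) (Z.isZero_of_isStrictlyLE b n hn)
  obtain ⟨Q', r, hQ'b, hQ'P, hrepi, hrqi⟩ := exists_resolution_int P hP0 hP (cokernel i) b
  haveI : Epi r := epi_of_epi_f _ hrepi
  let R' : CochainComplex A ℤ := pullback c r
  let p₁ : R' ⟶ Z := pullback.fst c r
  let p₂ : R' ⟶ Q' := pullback.snd c r
  let ι : R ⟶ R' := pullback.lift i 0 (by simp [c])
  have hι₁ : ι ≫ p₁ = i := pullback.lift_fst _ _ _
  have hι₂ : ι ≫ p₂ = 0 := pullback.lift_snd _ _ _
  haveI : Mono ι := mono_of_mono_fac hι₁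
  have hS : (ShortComplex.mk i c (cokernel.condition i)).ShortExact :=
    ShortComplex.ShortExact.mk' (ShortComplex.cokernelSequence_exact i) ‹Mono i›
      (inferInstanceAs (Epi (cokernel.π i)))
  let S' : ShortComplex (CochainComplex A ℤ) := ShortComplex.mk ι p₂ hι₂
  have hS' : S'.ShortExact :=
    ShortComplex.ShortExact.mk' (exact_pullback i c (cokernel.condition i) hS.exact r) ‹Mono ι›
      (inferInstanceAs (Epi (pullback.snd c r)))
  let φ : S' ⟶ ShortComplex.mk i c (cokernel.condition i) :=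
    { τ₁ := 𝟙 R, τ₂ := p₁, τ₃ := r
      comm₁₂ := by
        change 𝟙 R ≫ i = ι ≫ p₁
        rw [hι₁, Category.id_comp]
      comm₂₃ := pullback.condition }
  have hp₁ : QuasiIso p₁ := quasiIso_τ₂ φ hS' hS (inferInstanceAs (QuasiIso (𝟙 R))) hrqi
  haveI : Epi p₁ := inferInstanceAs (Epi (pullback.fst c r))
  -- degreewise splittings
  have hSn : ∀ n, (S'.map (eval A _ n)).ShortExact := fun n => hS'.map_of_exact (eval A _ n)
  let ρ : ∀ n, R'.X n ⟶ R.X n := fun n => p₁.f n ≫
    (biprod.fst : cyl (R := R) (K' := K') ⟶ _).f n ≫ (mappingCone.snd (𝟙 R)).v n n (add_zero n)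
  have hρ : ∀ n, ι.f n ≫ ρ n = 𝟙 _ := fun n => by
    dsimp only [ρ]
    rw [← Category.assoc, ← HomologicalComplex.comp_f, hι₁]
    exact cylι_f_retraction g n
  let σ : ∀ n, (S'.map (eval A _ n)).Splitting := fun n =>
    ShortComplex.Splitting.ofExactOfRetraction _ (hSn n).exact (ρ n) (hρ n) (hSn n).epi_g
  have hcok : ∀ n, P (cokernel (ι.f n)) := fun n => by
    haveI := (hSn n).epi_g
    let e : cokernel (ι.f n) ≅ Q'.X n :=
      (colimit.isColimit _).coconePointUniqueUpToIso (hSn n).exact.gIsCokernel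
    exact P.prop_of_iso e.symm (hQ'P n)
  have hR' : ∀ n, P (R'.X n) := fun n =>
    P.prop_of_iso (σ n).isoBinaryBiproduct.symm (hPsum _ _ (hR n) (hQ'P n))
  refine ⟨R', ι, p₁ ≫ cylπ, ?_, ?_, ?_, ?_, hR', fun n => ⟨⟨ρ n, hρ n⟩, hcok n⟩⟩
  · rw [← Category.assoc, hι₁]
    exact cylι_π g
  · haveI := hp₁
    infer_instance
  · intro n
    rw [HomologicalComplex.comp_f]
    haveI : Epi ((cylπ : cyl (R := R) (K' := K') ⟶ K').f n) :=
      (IsSplitEpi.mk' ⟨(biprod.inr : K' ⟶ cyl (R := R) (K' := K')).f n, by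
        rw [← HomologicalComplex.comp_f, biprod.inr_snd, HomologicalComplex.id_f]⟩ :
        IsSplitEpi ((cylπ : cyl (R := R) (K' := K') ⟶ K').f n)).epi
    infer_instance
  · rw [isStrictlyLE_iff]
    intro n hn
    refine IsZero.of_iso ?_ (σ n).isoBinaryBiproduct
    rw [biprod_isZero_iff]
    exact ⟨R.isZero_of_isStrictlyLE b n hn, Q'.isZero_of_isStrictlyLE b n hn⟩

end Rel

end Groth.Agent.Lib.Helper2.PRes
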