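import Mathlib
import Groth.Agent.Lib.Helper2.PResRel

/-!
# Direct systems of left resolutions of the truncations of a complex (helper2)
-/

set_option autoImplicit false
universe v u
open CategoryTheory CategoryTheory.Limits HomologicalComplex

namespace Groth.Agent.Lib.Helper2.PRes

variable {A : Type u} [Category.{v} A] [Abelian A]

section Trans

variable (K : CochainComplex A ℤ)

instance (m : ℤ) : (K.truncLE m).IsStrictlyLE m :=
  inferInstanceAs ((HomologicalComplex.truncLE K (ComplexShape.embeddingUpIntLE m)).IsStrictlySupported _)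

/-- The transition map `τ≤m K ⟶ τ≤m' K` for `m ≤ m'`. -/
noncomputable def truncLETrans (m m' : ℤ) (h : m ≤ m') : K.truncLE m ⟶ K.truncLE m' :=
  haveI : (K.truncLE m).IsStrictlyLE m' := CochainComplex.isStrictlyLE_of_le _ m m' h
  inv ((K.truncLE m).ιTruncLE m') ≫ CochainComplex.truncLEMap (K.ιTruncLE m) m'

@[reassoc (attr := simp)]
lemma truncLETrans_ι (m m' : ℤ) (h : m ≤ m') :
    truncLETrans K m m' h ≫ K.ιTruncLE m' = K.ιTruncLE m := by
  haveI : (K.truncLE m).IsStrictlyLE m' := CochainComplex.isStrictlyLE_of_le _ m m' h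
  dsimp only [truncLETrans]
  rw [Category.assoc, CochainComplex.ιTruncLE_naturality, IsIso.inv_hom_id_assoc]

end Trans

section System

variable (P : ObjectProperty A) [P.IsClosedUnderIsomorphisms] (K : CochainComplex A ℤ)

/-- A left resolution of `τ≤m K` by a bounded above complex with terms in `P`. -/
structure Stage (m : ℤ) where
  Q : CochainComplex A ℤ
  π : Q ⟶ K.truncLE m
  qi : QuasiIso π
  epi : ∀ i, Epi (π.f i)
  b : ℤ
  le : Q.IsStrictlyLE b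
  mem : ∀ i, P (Q.X i)

variable (hP0 : ∃ Z : A, IsZero Z ∧ P Z)
  (hPsum : ∀ X Y : A, P X → P Y → P (X ⊞ Y))
  (hP : ∀ X : A, ∃ (Y : A) (π : Y ⟶ X), P Y ∧ Epi π)

include hP0 hP in
lemma nonempty_stage (m : ℤ) : Nonempty (Stage P K m) := by
  obtain ⟨Q, α, hQ, hQP, hepi, hqi⟩ := exists_resolution_int P hP0 hP (K.truncLE m) m
  exact ⟨⟨Q, α, hqi, hepi, m, hQ, hQP⟩⟩

include hP0 hPsum hP in
lemma exists_stage_succ {m : ℤ} (s : Stage P K m) (m' : ℤ) (h : m ≤ m') :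
    ∃ (s' : Stage P K m') (ι : s.Q ⟶ s'.Q), ι ≫ s'.π = s.π ≫ truncLETrans K m m' h ∧
      ∀ i, (∃ r : s'.Q.X i ⟶ s.Q.X i, ι.f i ≫ r = 𝟙 _) ∧ P (cokernel (ι.f i)) := by
  let b := max s.b m'
  haveI : s.Q.IsStrictlyLE b :=
    haveI := s.le
    CochainComplex.isStrictlyLE_of_le _ s.b b (le_max_left _ _)
  haveI : (K.truncLE m').IsStrictlyLE b :=
    CochainComplex.isStrictlyLE_of_le _ m' b (le_max_right _ _)
  obtain ⟨R', ι, f, hf, hqi, hepi, hle, hmem, hsplit⟩ :=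
    exists_relative_resolution P hP0 hPsum hP (s.π ≫ truncLETrans K m m' h) b s.mem
  exact ⟨⟨R', f, hqi, hepi, b, hle, hmem⟩, ι, hf, hsplit⟩

/-- The sequence of stages. -/
noncomputable def seq (m : ℕ → ℤ) (hm : ∀ n, m n ≤ m (n + 1)) : ∀ n, Stage P K (m n)
  | 0 => (nonempty_stage P K hP0 hP (m 0)).some
  | n + 1 => (exists_stage_succ P K hP0 hPsum hP (seq m hm n) (m (n + 1)) (hm n)).choose

include hP0 hPsum hP in
theorem exists_system (m : ℕ → ℤ) (hm : ∀ n, m n ≤ m (n + 1)) :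
    ∃ (Q : ℕ → CochainComplex A ℤ) (ι : ∀ n, Q n ⟶ Q (n + 1))
      (π : ∀ n : ℕ, Q n ⟶ K.truncLE (m n)),
      (∀ n, QuasiIso (π n) ∧ ∀ i, Epi ((π n).f i)) ∧
      (∀ n, ∃ b : ℤ, (Q n).IsStrictlyLE b) ∧ (∀ n i, P ((Q n).X i)) ∧
      (∀ n i, (∃ r : (Q (n + 1)).X i ⟶ (Q n).X i, (ι n).f i ≫ r = 𝟙 _) ∧
        P (cokernel ((ι n).f i))) ∧
      (∀ n : ℕ, ι n ≫ π (n + 1) = π n ≫ truncLETrans K (m n) (m (n + 1)) (hm n)) := by
  let S := seq P K hP0 hPsum hP m hm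
  have hS : ∀ n, ∃ (ι : (S n).Q ⟶ (S (n + 1)).Q),
      ι ≫ (S (n + 1)).π = (S n).π ≫ truncLETrans K (m n) (m (n + 1)) (hm n) ∧
      ∀ i, (∃ r : (S (n + 1)).Q.X i ⟶ (S n).Q.X i, ι.f i ≫ r = 𝟙 _) ∧ P (cokernel (ι.f i)) :=
    fun n => (exists_stage_succ P K hP0 hPsum hP (S n) (m (n + 1)) (hm n)).choose_spec
  choose ι hι hsplit using hS
  exact ⟨fun n => (S n).Q, ι, fun n => (S n).π, fun n => ⟨(S n).qi, (S n).epi⟩,
    fun n => ⟨(S n).b, (S n).le⟩, fun n => (S n).mem, hsplit, hι⟩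

end System

end Groth.Agent.Lib.Helper2.PRes
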