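import Mathlib
import Groth.Agent.Lib.Helper2.PResSystem
import Groth.Agent.Lib.Helper2.KInj.FilteredQuasiIso

/-!
# The colimit of a direct system of left resolutions of the truncations (helper2)
-/

set_option autoImplicit false
universe v u
open CategoryTheory CategoryTheory.Limits HomologicalComplex

namespace Groth.Agent.Lib.Helper2.PRes

section EventuallyConstant

variable {C : Type*} [Category C]

/-- A cocone over `ℕ ⥤ C` whose legs are eventually isomorphisms is a colimit cocone. -/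
noncomputable def isColimitOfEventuallyIso (F : ℕ ⥤ C) (s : Cocone F) (N : ℕ)
    (h : ∀ n, N ≤ n → IsIso (s.ι.app n)) : IsColimit s where
  desc t := haveI := h N le_rfl; inv (s.ι.app N) ≫ t.ι.app N
  fac t n := by
    haveI := h N le_rfl
    by_cases hn : n ≤ N
    · have h1 := s.w (homOfLE hn)
      have h2 := t.w (homOfLE hn)
      rw [← h1, Category.assoc, IsIso.hom_inv_id_assoc, h2]
    · have hn' : N ≤ n := by omega
      haveI := h n hn'
      have h1 := s.w (homOfLE hn')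
      have h2 := t.w (homOfLE hn')
      have hφ : F.map (homOfLE hn') = s.ι.app N ≫ inv (s.ι.app n) := by
        rw [IsIso.eq_comp_inv]
        exact h1
      rw [← h2, hφ]
      simp
  uniq t m hm := by
    haveI := h N le_rfl
    rw [IsIso.eq_inv_comp]
    exact hm N

end EventuallyConstant

section TruncColim

variable {A : Type u} [Category.{v} A] [Abelian A] (K : CochainComplex A ℤ)

set_option backward.isDefEq.respectTransparency false in
lemma isIso_ιTruncLE_f (n i : ℤ) (hi : i < n) : IsIso ((K.ιTruncLE n).f i) := by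
  let e := ComplexShape.embeddingUpIntLE n
  obtain ⟨k, hk, hk0⟩ : ∃ k : ℕ, e.f k = i ∧ k ≠ 0 := by
    refine ⟨(n - i).toNat, ?_, ?_⟩
    · change n - (((n - i).toNat : ℕ) : ℤ) = i
      omega
    · omega
  have hb : ¬ e.BoundaryLE k := by
    rw [ComplexShape.boundaryLE_embeddingUpIntLE_iff]
    exact hk0
  have : IsIso ((K.op.πTruncGE e.op).f i) := by
    dsimp [HomologicalComplex.πTruncGE]
    rw [e.op.isIso_liftExtend_f_iff _ _ hk]
    exact K.op.isIso_restrictionToTruncGE' e.op k (by simpa using hb)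
  change IsIso ((K.op.πTruncGE e.op).f i).unop
  infer_instance

variable (m : ℕ → ℤ) (hm : ∀ n, m n ≤ m (n + 1))

/-- The direct system of truncations. -/
noncomputable def truncSystem : ℕ ⥤ CochainComplex A ℤ :=
  Functor.ofSequence (fun n => truncLETrans K (m n) (m (n + 1)) (hm n))

/-- The cocone of the truncations with point `K`. -/
noncomputable def truncCocone : Cocone (truncSystem K m hm) where
  pt := K
  ι := NatTrans.ofSequence (fun n => K.ιTruncLE (m n)) (fun n => by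
    dsimp only [truncSystem, Functor.const_obj_obj, Functor.const_obj_map]
    rw [Functor.ofSequence_map_homOfLE_succ]
    exact (truncLETrans_ι K _ _ _).trans (Category.comp_id _).symm)

/-- The truncation cocone is a colimit cocone. -/
noncomputable def isColimitTruncCocone (hm' : ∀ i : ℤ, ∃ N : ℕ, ∀ n, N ≤ n → i < m n) :
    IsColimit (truncCocone K m hm) :=
  isColimitOfEval _ _ (fun i =>
    isColimitOfEventuallyIso _ _ (hm' i).choose (fun n hn =>
      isIso_ιTruncLE_f K (m n) i ((hm' i).choose_spec n hn)))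

end TruncColim

section Main

variable {A : Type u} [Category.{v} A] [Abelian A]
  (P : ObjectProperty A) [P.IsClosedUnderIsomorphisms] (K : CochainComplex A ℤ)
  (hP0 : ∃ Z : A, IsZero Z ∧ P Z)
  (hPsum : ∀ X Y : A, P X → P Y → P (X ⊞ Y))
  (hP : ∀ X : A, ∃ (Y : A) (π : Y ⟶ X), P Y ∧ Epi π)
  [HasColimitsOfShape ℕ A] [HasExactColimitsOfShape ℕ A]

include hP0 hPsum hP in
theorem exists_system_colimit (m : ℕ → ℤ) (hm : ∀ n, m n ≤ m (n + 1))
    (hm' : ∀ i : ℤ, ∃ N : ℕ, ∀ n, N ≤ n → i < m n) :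
    ∃ (Kc : ℕ ⥤ CochainComplex A ℤ) (π : ∀ n : ℕ, Kc.obj n ⟶ K.truncLE (m n)),
      (∀ n : ℕ, Kc.map (homOfLE (Nat.le_succ n)) ≫ π (n + 1) ≫ K.ιTruncLE (m (n + 1)) =
        π n ≫ K.ιTruncLE (m n)) ∧
      (∀ n : ℕ, QuasiIso (π n) ∧ ∀ i : ℤ, Epi ((π n).f i)) ∧
      (∀ n : ℕ, ∃ b : ℤ, (Kc.obj n).IsStrictlyLE b) ∧
      (∀ (n : ℕ) (i : ℤ), P ((Kc.obj n).X i)) ∧
      (∀ (n : ℕ) (i : ℤ), ∃ r : (Kc.obj (n + 1)).X i ⟶ (Kc.obj n).X i,
        (Kc.map (homOfLE (Nat.le_succ n))).f i ≫ r = 𝟙 _ ∧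
        P (cokernel ((Kc.map (homOfLE (Nat.le_succ n))).f i))) ∧
      ∃ c : colimit Kc ⟶ K, (∀ n : ℕ, colimit.ι Kc n ≫ c = π n ≫ K.ιTruncLE (m n)) ∧
        QuasiIso c := by
  obtain ⟨Q, ι, π, h1, h2, h3, h4, h5⟩ := exists_system P K hP0 hPsum hP m hm
  let Kc : ℕ ⥤ CochainComplex A ℤ := Functor.ofSequence ι
  have hKc : ∀ n, Kc.map (homOfLE (Nat.le_succ n)) = ι n :=
    fun n => Functor.ofSequence_map_homOfLE_succ ι n
  let T := truncSystem K m hm
  let f : Kc ⟶ T := NatTrans.ofSequence π (fun n => by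
    dsimp only [Kc, T, truncSystem]
    rw [Functor.ofSequence_map_homOfLE_succ, Functor.ofSequence_map_homOfLE_succ]
    exact h5 n)
  let s : Cocone Kc := { pt := K, ι := f ≫ (truncCocone K m hm).ι }
  have hs : ∀ n, s.ι.app n = π n ≫ K.ιTruncLE (m n) := fun n => rfl
  let c : colimit Kc ⟶ K := colimit.desc Kc s
  have hc : ∀ n, colimit.ι Kc n ≫ c = π n ≫ K.ιTruncLE (m n) := fun n =>
    (colimit.ι_desc s n).trans (hs n)
  refine ⟨Kc, π, fun n => ?_, h1, h2, h3, fun n i => ?_, c, hc, ?_⟩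
  · rw [hKc]
    calc ι n ≫ π (n + 1) ≫ K.ιTruncLE (m (n + 1))
        = (ι n ≫ π (n + 1)) ≫ K.ιTruncLE (m (n + 1)) := (Category.assoc _ _ _).symm
      _ = (π n ≫ truncLETrans K (m n) (m (n + 1)) (hm n)) ≫ K.ιTruncLE (m (n + 1)) := by
          rw [h5 n]
      _ = π n ≫ K.ιTruncLE (m n) := by rw [Category.assoc, truncLETrans_ι]
  · obtain ⟨⟨r, hr⟩, hcok⟩ := h4 n i
    rw [hKc]
    exact ⟨r, hr, hcok⟩
  · exact KInj.quasiIso_colimMap f (fun n => (h1 n).1) (colimit.isColimit Kc)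
      (isColimitTruncCocone K m hm hm') c (fun n => hc n)

end Main

end Groth.Agent.Lib.Helper2.PRes
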