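import Groth.Prelude.Def_ClSub2
import Mathlib.AlgebraicGeometry.Morphisms.Proper
import Mathlib.AlgebraicGeometry.IdealSheaf.Functorial

/-!
# Closed subsets proper over a base (helper2)

Independence of `ClSub.IsProperOver` of the scheme structure, and the master lemma
`isProperOver_of_universallyClosed`.
-/

universe u

open CategoryTheory CategoryTheory.Limits AlgebraicGeometry

namespace Groth.Agent.Lib.Helper2

variable {W V X S : Scheme.{u}}

/-- If `φ : W ⟶ V` is surjective and universally closed and `φ ≫ g` is separated, then `g` is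
separated. -/
theorem isSeparated_of_comp_surjective (φ : W ⟶ V) (g : V ⟶ S) [Surjective φ]
    [UniversallyClosed φ] [IsSeparated (φ ≫ g)] : IsSeparated g := by
  constructor
  apply IsClosedImmersion.of_isPreimmersion
  have hmap : UniversallyClosed
      (pullback.map (φ ≫ g) (φ ≫ g) g g φ φ (𝟙 S) (by simp) (by simp)) :=
    MorphismProperty.pullbackMap (P := @UniversallyClosed) ‹_› ‹_› rfl rfl
  have hcomm := pullback.comp_diagonal φ g
  have hrange : Set.range (pullback.diagonal g) =
      (pullback.map (φ ≫ g) (φ ≫ g) g g φ φ (𝟙 S) (by simp) (by simp)) ''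
        Set.range (pullback.diagonal (φ ≫ g)) := by
    have h1 : Set.range (pullback.diagonal g) = Set.range (φ ≫ pullback.diagonal g) := by
      rw [Scheme.Hom.comp_base, TopCat.coe_comp, Set.range_comp,
        Set.range_eq_univ.2 (Scheme.Hom.surjective φ), Set.image_univ]
    rw [h1, hcomm, Scheme.Hom.comp_base, TopCat.coe_comp, Set.range_comp]
  rw [hrange]
  exact (Scheme.Hom.isClosedMap _) _ (pullback.diagonal (φ ≫ g)).isClosedEmbedding.isClosed_range

/-- If `φ : W ⟶ V` is surjective and universally closed, `g` is locally of finite type and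
`φ ≫ g` is proper, then `g` is proper. -/
theorem isProper_of_comp_surjective (φ : W ⟶ V) (g : V ⟶ S) [Surjective φ]
    [UniversallyClosed φ] [LocallyOfFiniteType g] [IsProper (φ ≫ g)] : IsProper g := by
  have h1 : IsSeparated g := isSeparated_of_comp_surjective φ g
  have h2 : UniversallyClosed g := UniversallyClosed.of_comp_surjective φ g
  exact { }

/-- The range of the reduced induced closed subscheme on a closed set `Z` is `Z`. -/
theorem range_vanishingIdeal_subschemeι (Z : TopologicalSpace.Closeds X) :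
    Set.range (Scheme.IdealSheafData.vanishingIdeal Z).subschemeι = (Z : Set X) := by
  rw [Scheme.IdealSheafData.range_subschemeι, Scheme.IdealSheafData.coe_support_vanishingIdeal]

/-- Master lemma: if `g : W ⟶ X` is universally closed with range `Z`, `f : X ⟶ S` is locally of
finite type and `g ≫ f` is proper, then `Z` is proper over `S`. -/
theorem isProperOver_of_universallyClosed (f : X ⟶ S) [LocallyOfFiniteType f] (g : W ⟶ X)
    [UniversallyClosed g] [IsProper (g ≫ f)] (Z : Set X) (hZ : Set.range g = Z) :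
    ClSub.IsProperOver f Z := by
  have hcl : IsClosed Z := hZ ▸ (Scheme.Hom.isClosedMap g).isClosed_range
  refine ⟨hcl, ?_⟩
  set I := Scheme.IdealSheafData.vanishingIdeal (⊤ : TopologicalSpace.Closeds W) with hI
  set J := Scheme.IdealSheafData.vanishingIdeal (⟨Z, hcl⟩ : TopologicalSpace.Closeds X) with hJ
  have hIJ : J ≤ I.map g := by
    rw [hI, Scheme.IdealSheafData.map_vanishingIdeal]
    apply Scheme.IdealSheafData.vanishingIdeal_antimono
    rw [TopologicalSpace.Closeds.closure_le]
    intro x hx
    obtain ⟨w, -, rfl⟩ := hx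
    exact hZ ▸ Set.mem_range_self w
  let φ := Scheme.IdealSheafData.subschemeMap I J g hIJ
  have hφ : φ ≫ J.subschemeι = I.subschemeι ≫ g :=
    Scheme.IdealSheafData.subschemeMap_subschemeι I J g hIJ
  have hIsurj : Function.Surjective I.subschemeι := by
    rw [← Set.range_eq_univ]
    exact range_vanishingIdeal_subschemeι (⊤ : TopologicalSpace.Closeds W)
  have hsurj : Surjective φ := by
    constructor
    intro z
    have hJr : Set.range J.subschemeι = Z :=
      range_vanishingIdeal_subschemeι (⟨Z, hcl⟩ : TopologicalSpace.Closeds X)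
    have hz : J.subschemeι z ∈ Z := hJr ▸ Set.mem_range_self (f := J.subschemeι) z
    rw [← hZ] at hz
    obtain ⟨w, hw⟩ := hz
    obtain ⟨w', rfl⟩ := hIsurj w
    refine ⟨w', ?_⟩
    apply J.subschemeι.isClosedEmbedding.injective
    rw [← Scheme.Hom.comp_apply, hφ, Scheme.Hom.comp_apply, hw]
  have huc : UniversallyClosed φ := by
    have : UniversallyClosed (φ ≫ J.subschemeι) := by rw [hφ]; infer_instance
    exact UniversallyClosed.of_comp_of_isSeparated φ J.subschemeι
  have hprop : IsProper (φ ≫ (J.subschemeι ≫ f)) := by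
    rw [← Category.assoc, hφ, Category.assoc]
    infer_instance
  exact isProper_of_comp_surjective φ (J.subschemeι ≫ f)

/-- The reduced induced structure on a closed set proper over `S` is proper. -/
theorem isProper_of_isProperOver (f : X ⟶ S) (Z : Set X) (h : ClSub.IsProperOver f Z)
    (hcl : IsClosed Z) :
    IsProper ((Scheme.IdealSheafData.vanishingIdeal ⟨Z, hcl⟩).subschemeι ≫ f) := by
  obtain ⟨_, h'⟩ := h
  exact h'

/-- If `Z` is proper over `S`, then every closed subscheme of `X` with underlying set `Z` is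
proper over `S`. -/
theorem isProper_comp_of_isProperOver (f : X ⟶ S) [LocallyOfFiniteType f] {T : Scheme.{u}}
    (i : T ⟶ X) [IsClosedImmersion i] (Z : Set X) (hZ : Set.range i = Z)
    (h : ClSub.IsProperOver f Z) : IsProper (i ≫ f) := by
  obtain ⟨hcl, hprop⟩ := h
  set J := Scheme.IdealSheafData.vanishingIdeal (⟨Z, hcl⟩ : TopologicalSpace.Closeds X) with hJ
  have hJr : Set.range J.subschemeι = Z :=
    range_vanishingIdeal_subschemeι (⟨Z, hcl⟩ : TopologicalSpace.Closeds X)
  have hker : i.ker ≤ J.subschemeι.ker := by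
    rw [Scheme.IdealSheafData.ker_subschemeι, hJ,
      ← Scheme.IdealSheafData.le_support_iff_le_vanishingIdeal]
    intro z hz
    exact i.range_subset_ker_support (hZ ▸ hz)
  let j := IsClosedImmersion.lift i J.subschemeι hker
  have hj : j ≫ i = J.subschemeι := IsClosedImmersion.lift_fac i J.subschemeι hker
  have hjc : IsClosedImmersion j := by
    have : IsClosedImmersion (j ≫ i) := by rw [hj]; infer_instance
    exact IsClosedImmersion.of_comp j i
  have hsurj : Surjective j := by
    constructor
    intro t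
    have ht : i t ∈ Set.range J.subschemeι := hJr ▸ hZ ▸ Set.mem_range_self t
    obtain ⟨z, hz⟩ := ht
    refine ⟨z, ?_⟩
    apply i.isClosedEmbedding.injective
    rw [← Scheme.Hom.comp_apply, hj, hz]
  have hprop' : IsProper (j ≫ (i ≫ f)) := by
    rw [← Category.assoc, hj]
    exact hprop
  exact isProper_of_comp_surjective j (i ≫ f)

/-- A closed subset of a set proper over `S` is proper over `S`. -/
theorem isProperOver_of_subset (f : X ⟶ S) {Z Z' : Set X} (h : ClSub.IsProperOver f Z)
    (hZ' : IsClosed Z') (hsub : Z' ⊆ Z) : ClSub.IsProperOver f Z' := by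
  obtain ⟨hcl, hprop⟩ := h
  refine ⟨hZ', ?_⟩
  have hle : Scheme.IdealSheafData.vanishingIdeal (⟨Z, hcl⟩ : TopologicalSpace.Closeds X) ≤
      Scheme.IdealSheafData.vanishingIdeal (⟨Z', hZ'⟩ : TopologicalSpace.Closeds X) :=
    Scheme.IdealSheafData.vanishingIdeal_antimono hsub
  rw [← Scheme.IdealSheafData.inclusion_subschemeι hle, Category.assoc]
  infer_instance

section Family

variable {ι : Type*} [Finite ι] {Wf : ι → Scheme.{u}}

/-- Family version: if `φ i : Wf i ⟶ V` is a finite jointly surjective family of universally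
closed morphisms and each `φ i ≫ g` is separated, then `g` is separated. -/
theorem isSeparated_of_comp_jointly_surjective (φ : ∀ i, Wf i ⟶ V) (g : V ⟶ S)
    (hsurj : ∀ v : V, ∃ (i : ι) (w : Wf i), φ i w = v)
    [∀ i, UniversallyClosed (φ i)] [∀ i, IsSeparated (φ i ≫ g)] : IsSeparated g := by
  constructor
  apply IsClosedImmersion.of_isPreimmersion
  have hmap : ∀ i, UniversallyClosed
      (pullback.map (φ i ≫ g) (φ i ≫ g) g g (φ i) (φ i) (𝟙 S) (by simp) (by simp)) := fun i =>
    MorphismProperty.pullbackMap (P := @UniversallyClosed) inferInstance inferInstance rfl rfl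
  have hrange : Set.range (pullback.diagonal g) =
      ⋃ i, (pullback.map (φ i ≫ g) (φ i ≫ g) g g (φ i) (φ i) (𝟙 S) (by simp) (by simp)) ''
        Set.range (pullback.diagonal (φ i ≫ g)) := by
    have h1 : ∀ i, (pullback.map (φ i ≫ g) (φ i ≫ g) g g (φ i) (φ i) (𝟙 S) (by simp) (by simp)) ''
        Set.range (pullback.diagonal (φ i ≫ g)) = Set.range (φ i ≫ pullback.diagonal g) := by
      intro i
      rw [pullback.comp_diagonal (φ i) g, Scheme.Hom.comp_base, TopCat.coe_comp, Set.range_comp]
    simp_rw [h1]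
    ext x
    simp only [Set.mem_range, Set.mem_iUnion]
    constructor
    · rintro ⟨v, rfl⟩
      obtain ⟨i, w, rfl⟩ := hsurj v
      exact ⟨i, w, by rw [Scheme.Hom.comp_apply]⟩
    · rintro ⟨i, w, rfl⟩
      exact ⟨φ i w, by rw [Scheme.Hom.comp_apply]⟩
  rw [hrange]
  exact isClosed_iUnion_of_finite fun i =>
    (Scheme.Hom.isClosedMap _) _ (pullback.diagonal (φ i ≫ g)).isClosedEmbedding.isClosed_range

/-- Family version: if `φ i : Wf i ⟶ V` is a finite jointly surjective family and each `φ i ≫ g`
is universally closed, then `g` is universally closed. -/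
theorem universallyClosed_of_comp_jointly_surjective (φ : ∀ i, Wf i ⟶ V) (g : V ⟶ S)
    (hsurj : ∀ v : V, ∃ (i : ι) (w : Wf i), φ i w = v)
    [∀ i, UniversallyClosed (φ i ≫ g)] : UniversallyClosed g := by
  constructor
  intro X' Y' i₁ i₂ f' H
  have hcl : ∀ i, IsClosedMap (pullback.fst i₁ (φ i) ≫ f') := fun i =>
    UniversallyClosed.universally_isClosedMap _ _ _
      ((IsPullback.of_hasPullback i₁ (φ i)).paste_horiz H)
  intro C hC
  have himg : f' '' C = ⋃ i, (pullback.fst i₁ (φ i) ≫ f') '' ((pullback.fst i₁ (φ i)) ⁻¹' C) := by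
    ext y
    simp only [Set.mem_image, Set.mem_iUnion, Set.mem_preimage]
    constructor
    · rintro ⟨x, hx, rfl⟩
      obtain ⟨i, w, hw⟩ := hsurj (i₁ x)
      obtain ⟨z, hz1, -⟩ := Scheme.Pullback.exists_preimage_pullback (f := i₁) (g := φ i) x w hw.symm
      exact ⟨i, z, hz1 ▸ hx, by rw [Scheme.Hom.comp_apply, hz1]⟩
    · rintro ⟨i, z, hz, rfl⟩
      exact ⟨_, hz, by rw [Scheme.Hom.comp_apply]⟩
  rw [himg]
  exact isClosed_iUnion_of_finite fun i =>
    hcl i _ (hC.preimage (pullback.fst i₁ (φ i)).continuous)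

/-- Family version of `isProper_of_comp_surjective`. -/
theorem isProper_of_comp_jointly_surjective (φ : ∀ i, Wf i ⟶ V) (g : V ⟶ S)
    (hsurj : ∀ v : V, ∃ (i : ι) (w : Wf i), φ i w = v)
    [∀ i, UniversallyClosed (φ i)] [LocallyOfFiniteType g] [∀ i, IsProper (φ i ≫ g)] :
    IsProper g := by
  have h1 : IsSeparated g := isSeparated_of_comp_jointly_surjective φ g hsurj
  have h2 : UniversallyClosed g := universallyClosed_of_comp_jointly_surjective φ g hsurj
  exact { }

/-- A finite union of closed subsets proper over `S` is proper over `S`. -/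
theorem isProperOver_iUnion (f : X ⟶ S) [LocallyOfFiniteType f] (Z : ι → Set X)
    (hZ : ∀ i, ClSub.IsProperOver f (Z i)) : ClSub.IsProperOver f (⋃ i, Z i) := by
  have hcl : ∀ i, IsClosed (Z i) := fun i => (hZ i).1
  have hclU : IsClosed (⋃ i, Z i) := isClosed_iUnion_of_finite hcl
  refine ⟨hclU, ?_⟩
  set J := Scheme.IdealSheafData.vanishingIdeal (⟨⋃ i, Z i, hclU⟩ : TopologicalSpace.Closeds X)
    with hJ
  let Ji : ι → X.IdealSheafData := fun i =>
    Scheme.IdealSheafData.vanishingIdeal (⟨Z i, hcl i⟩ : TopologicalSpace.Closeds X)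
  have hle : ∀ i, J ≤ Ji i := fun i =>
    Scheme.IdealSheafData.vanishingIdeal_antimono
      (show (⟨Z i, hcl i⟩ : TopologicalSpace.Closeds X) ≤ ⟨⋃ i, Z i, hclU⟩ from
        Set.subset_iUnion Z i)
  let φ : ∀ i, (Ji i).subscheme ⟶ J.subscheme := fun i => Scheme.IdealSheafData.inclusion (hle i)
  have hφ : ∀ i, φ i ≫ J.subschemeι = (Ji i).subschemeι := fun i =>
    Scheme.IdealSheafData.inclusion_subschemeι (hle i)
  have hJr : Set.range J.subschemeι = ⋃ i, Z i :=
    range_vanishingIdeal_subschemeι (⟨⋃ i, Z i, hclU⟩ : TopologicalSpace.Closeds X)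
  have hJir : ∀ i, Set.range (Ji i).subschemeι = Z i := fun i =>
    range_vanishingIdeal_subschemeι (⟨Z i, hcl i⟩ : TopologicalSpace.Closeds X)
  have hsurj : ∀ v : J.subscheme, ∃ (i : ι) (w : (Ji i).subscheme), φ i w = v := by
    intro v
    have hv : J.subschemeι v ∈ ⋃ i, Z i := hJr ▸ Set.mem_range_self v
    obtain ⟨i, hi⟩ := Set.mem_iUnion.1 hv
    rw [← hJir i] at hi
    obtain ⟨w, hw⟩ := hi
    refine ⟨i, w, ?_⟩
    apply J.subschemeι.isClosedEmbedding.injective
    rw [← Scheme.Hom.comp_apply, hφ i, hw]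
  have hprop : ∀ i, IsProper (φ i ≫ (J.subschemeι ≫ f)) := by
    intro i
    rw [← Category.assoc, hφ i]
    exact isProper_of_isProperOver f (Z i) (hZ i) (hcl i)
  exact isProper_of_comp_jointly_surjective φ (J.subschemeι ≫ f) hsurj

end Family

end Groth.Agent.Lib.Helper2
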