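import Mathlib
import Groth.Agent.Lib.Helper2.ModHomAcyclic
import Groth.Agent.Lib.Helper13.DeltaFun
import Groth.Agent.Lib.Helper13.ModSheafBasic

set_option autoImplicit false
universe w v u
open CategoryTheory CategoryTheory.Limits Opposite
open Groth.Agent.Lib.Helper5 Groth.Agent.Lib.Helper13.DeltaFun

noncomputable section
namespace Groth.Agent.Lib.Helper2.ExtUnitH

section Generic
variable {𝒜 : Type u} [Category.{v} 𝒜] [Abelian 𝒜] [EnoughInjectives 𝒜]

theorem bijective_of_zero {T S : DFun.{w} 𝒜} (hT : Effaceable T) (hS : Effaceable S)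
    (e0 : ∀ P : 𝒜, T.obj P 0 →+ S.obj P 0)
    (h0 : ∀ {P Q : 𝒜} (φ : P ⟶ Q) (x : T.obj P 0), e0 Q (T.map φ 0 x) = S.map φ 0 (e0 P x))
    (hb : ∀ P, Function.Bijective (e0 P)) :
    ∃ e : ∀ (P : 𝒜) (n : ℕ), T.obj P n →+ S.obj P n, IsHom T S e ∧ (∀ P, e P 0 = e0 P) ∧
      ∀ P n, Function.Bijective (e P n) := by
  obtain ⟨e, he, h⟩ := exists_of_zero hT e0 h0
  refine ⟨e, he, h, ?_⟩
  intro P n
  induction n generalizing P with
  | zero => rw [h]; exact hb P
  | succ n ih =>
    exact bijective_step he (ses P) (ses_shortExact P) n (ih _) (ih _).2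
      (fun x => hT (Injective.under P) n x) (fun x => hS (Injective.under P) n x)
end Generic

variable {C : Type u} [SmallCategory C] (J : GrothendieckTopology C)

abbrev constZ : Sheaf J AddCommGrpCat.{u} :=
  (constantSheaf J AddCommGrpCat.{u}).obj (AddCommGrpCat.of (ULift.{u} ℤ))

def termSh : Sheaf J (Type u) := Sheaf.terminal J Types.isTerminalPUnit

def freePUnitIso : AddCommGrpCat.free.obj PUnit.{u+1} ≅ AddCommGrpCat.of (ULift.{u} ℤ) :=
  AddEquiv.toAddCommGrpIso ((FreeAbelianGroup.uniqueEquiv PUnit).trans AddEquiv.ulift.symm)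

def constZIso : constZ J ≅ (CechFlasque.Φ J).obj (termSh J) :=
  (presheafToSheaf J AddCommGrpCat.{u}).mapIso
    ((Functor.const Cᵒᵖ).mapIso freePUnitIso.symm ≪≫ (Functor.constComp _ _ _).symm)

lemma subsingleton_H_of_isTotallyAcyclic (F : Sheaf J AddCommGrpCat.{u})
    (hF : CohCx.IsTotallyAcyclic F) (n : ℕ) : Subsingleton (Sheaf.H F (n+1)) := by
  have hsub : Subsingleton (Abelian.Ext ((CechFlasque.Φ J).obj (termSh J)) F (n + 1)) := hF (termSh J) n
  have key : ∀ z : Sheaf.H F (n+1), z = 0 := by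
    intro z
    have h1 : (Abelian.Ext.mk₀ (constZIso J).inv).comp z (zero_add _) = 0 := Subsingleton.elim _ _
    have h2 := congrArg (fun t => (Abelian.Ext.mk₀ (constZIso J).hom).comp t (zero_add (n+1))) h1
    simp only [Abelian.Ext.comp_zero] at h2
    rw [← Abelian.Ext.comp_assoc_of_second_deg_zero, Abelian.Ext.mk₀_comp_mk₀, Iso.hom_inv_id,
      Abelian.Ext.mk₀_id_comp] at h2
    exact h2
  exact ⟨fun x y => (key x).trans (key y).symm⟩


lemma isTotallyAcyclic_of_iso {F F' : Sheaf J AddCommGrpCat.{u}} (e : F ≅ F')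
    (hF : CohCx.IsTotallyAcyclic F) : CohCx.IsTotallyAcyclic F' := by
  intro K p
  have hsub : Subsingleton (CohCx.HK K F (p + 1)) := hF K p
  have key : ∀ z : CohCx.HK K F' (p + 1), z = 0 := by
    intro z
    have h1 : z.comp (Abelian.Ext.mk₀ e.inv) (add_zero _) = 0 := Subsingleton.elim _ _
    have h2 := congrArg (fun t => t.comp (Abelian.Ext.mk₀ e.hom) (add_zero (p + 1))) h1
    simp only [Abelian.Ext.zero_comp] at h2
    rw [Abelian.Ext.comp_assoc_of_third_deg_zero, Abelian.Ext.mk₀_comp_mk₀, Iso.inv_hom_id,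
      Abelian.Ext.comp_mk₀_id] at h2
    exact h2
  exact ⟨fun x y => (key x).trans (key y).symm⟩

section Mod
open Groth.Agent.Lib.Helper13.ModSiteUnitor Groth.Agent.Lib.Helper2.ModHomAcyclic

variable {J} (O : Sheaf J CommRingCat.{u})

/-- `𝟭 ⊣ 𝟭`, seen as `(- ⊗ O) ⊣ 𝟭`. -/
def adjUnit : (ModSite.tensorBi O).flip.obj (ModSite.unit O) ⊣ 𝟭 (ModSite.Mod O) :=
  Adjunction.id.ofNatIsoLeft (rightUnitorIso O).symm

instance hasSheafHom_unit : ModSite.HasSheafHom (ModSite.unit O) := (adjUnit O).isLeftAdjoint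

/-- `Hom_O(O, -) ≅ 𝟭`. -/
def sheafHomUnitIso : ModSite.sheafHom (ModSite.unit O) ≅ 𝟭 (ModSite.Mod O) :=
  Adjunction.rightAdjointUniq (ModSite.sheafHomAdj (ModSite.unit O)) (adjUnit O)

/-- **An injective `O`-module has a totally acyclic underlying abelian sheaf.** -/
theorem isTotallyAcyclic_of_injective (G : ModSite.Mod O) [Injective G] :
    CohCx.IsTotallyAcyclic (ModSite.toAb G) :=
  isTotallyAcyclic_of_iso J ((toAbF O).mapIso ((sheafHomUnitIso O).app G))
    (isTotallyAcyclic_sheafHom O (ModSite.unit O) G)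

end Mod

section Zero
open Groth.Agent.Lib.Helper13.ModSiteUnitor Groth.Agent.Lib.Helper2.ModHomAcyclic
variable {J} (O : Sheaf J CommRingCat.{u})

/-- the presheaf map `ℤ ⟶ O`, `n ↦ n • 1`. -/
def eta₀ : (Functor.const Cᵒᵖ).obj (AddCommGrpCat.of (ULift.{u} ℤ)) ⟶
    (ModSite.toAb (ModSite.unit O)).obj where
  app U := AddCommGrpCat.ofHom
    (uliftZMultiplesHom ((ModSite.ringSh O).obj.obj U) (1 : (ModSite.ringSh O).obj.obj U))
  naturality U V f := by
    ext n
    change n.down • (1 : (ModSite.ringSh O).obj.obj V) =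
      ((ModSite.ringSh O).obj.map f).hom (n.down • (1 : (ModSite.ringSh O).obj.obj U))
    rw [map_zsmul, map_one]


/-- the canonical map `ℤ_C ⟶ O`. -/
def eta : constZ J ⟶ ModSite.toAb (ModSite.unit O) :=
  ((sheafificationAdjunction J AddCommGrpCat.{u}).homEquiv _ _).symm (eta₀ O)

lemma homEquiv_eta_comp {P : ModSite.Mod O} (f : ModSite.unit O ⟶ P) :
    (sheafificationAdjunction J AddCommGrpCat.{u}).homEquiv _ _ (eta O ≫ (toAbF O).map f) =
      eta₀ O ≫ ((toAbF O).map f).hom := by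
  rw [Adjunction.homEquiv_naturality_right]
  unfold eta
  rw [Equiv.apply_symm_apply]
  rfl

lemma eta₀_comp_apply {P : ModSite.Mod O} (f : ModSite.unit O ⟶ P) (U : Cᵒᵖ) (n : ULift.{u} ℤ) :
    ((eta₀ O ≫ ((toAbF O).map f).hom).app U).hom n = n.down • (f.val.app U).hom (1 : (ModSite.ringSh O).obj.obj U) := by
  exact map_zsmul (f.val.app U).hom n.down _

/-- `f ↦ η ≫ toAb f` -/
def zeroMap (P : ModSite.Mod O) : (ModSite.unit O ⟶ P) →+ (constZ J ⟶ ModSite.toAb P) where
  toFun f := eta O ≫ (toAbF O).map f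
  map_zero' := by rw [Functor.map_zero, comp_zero]
  map_add' f g := by rw [Functor.map_add, Preadditive.comp_add]

lemma zeroMap_injective (P : ModSite.Mod O) : Function.Injective (zeroMap O P) := by
  intro f g h
  have h' : eta₀ O ≫ ((toAbF O).map f).hom = eta₀ O ≫ ((toAbF O).map g).hom := by
    rw [← homEquiv_eta_comp, ← homEquiv_eta_comp]
    exact congrArg _ h
  apply (SheafOfModules.unitHomEquiv P).injective
  apply PresheafOfModules.sections_ext
  intro U
  have h1 := eta₀_comp_apply O f U ⟨1⟩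
  have h2 := eta₀_comp_apply O g U ⟨1⟩
  rw [h'] at h1
  rw [one_zsmul] at h1 h2
  exact h1.symm.trans h2


lemma zeroMap_surjective (P : ModSite.Mod O) : Function.Surjective (zeroMap O P) := by
  intro ψ
  let φ := (sheafificationAdjunction J AddCommGrpCat.{u}).homEquiv _ _ ψ
  have hφ : ∀ ⦃U V : Cᵒᵖ⦄ (f : U ⟶ V),
      ((ModSite.toAb P).obj.map f).hom ((φ.app U).hom ⟨1⟩) = (φ.app V).hom ⟨1⟩ := by
    intro U V f
    have := congrArg (fun t => t.hom (⟨1⟩ : ULift.{u} ℤ)) (φ.naturality f)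
    exact this.symm
  let s : P.sections := PresheafOfModules.sectionsMk (M := P.val) (fun U => (φ.app U).hom ⟨1⟩) hφ
  refine ⟨(SheafOfModules.unitHomEquiv P).symm s, ?_⟩
  apply ((sheafificationAdjunction J AddCommGrpCat.{u}).homEquiv _ _).injective
  refine (homEquiv_eta_comp O _).trans ?_
  ext U n
  refine (eta₀_comp_apply O _ U n).trans ?_
  have h1 : (((SheafOfModules.unitHomEquiv P).symm s).val.app U).hom
      (1 : (ModSite.ringSh O).obj.obj U) = (φ.app U).hom ⟨1⟩ := by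
    have := SheafOfModules.unitHomEquiv_apply_coe P ((SheafOfModules.unitHomEquiv P).symm s) U
    rw [Equiv.apply_symm_apply] at this
    exact this.symm
  rw [h1]
  have h2 := map_zsmul (φ.app U).hom n.down (⟨1⟩ : ULift.{u} ℤ)
  refine Eq.trans ?_ (Eq.trans h2.symm ?_)
  · rfl
  · congr 1
    ext
    simp


open Abelian

instance : PreservesFiniteColimits (toAbF O) :=
  ⟨fun _ _ _ => Groth.Agent.Lib.Helper13.ModSheafBasic.toSheaf_preservesColimitsOfShape _ _⟩

variable [HasExt.{u} (ModSite.Mod O)]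

/-- the δ-functor `P ↦ Ext^n_O(O, P)`. -/
abbrev TT : DFun.{u} (ModSite.Mod O) := ofExt (𝟭 (ModSite.Mod O)) (ModSite.unit O)

/-- the δ-functor `P ↦ H^n(C, P)`. -/
abbrev SS : DFun.{u} (ModSite.Mod O) := ofExt (toAbF O) (constZ J)

/-- the comparison in degree `0`. -/
def e0 (P : ModSite.Mod O) : (TT O).obj P 0 →+ (SS O).obj P 0 :=
  ((Ext.addEquiv₀ (X := constZ J) (Y := ModSite.toAb P)).symm.toAddMonoidHom.comp
    (zeroMap O P)).comp (Ext.addEquiv₀ (X := ModSite.unit O) (Y := P)).toAddMonoidHom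

lemma e0_mk₀ (P : ModSite.Mod O) (f : ModSite.unit O ⟶ P) :
    e0 O P (Ext.mk₀ f) = Ext.mk₀ (eta O ≫ (toAbF O).map f) := by
  change Ext.addEquiv₀.symm (zeroMap O P (Ext.addEquiv₀ (Ext.mk₀ f))) = _
  rw [Ext.addEquiv₀_symm_apply]
  congr 1
  have : Ext.addEquiv₀ (Ext.mk₀ f) = f := Ext.addEquiv₀.apply_symm_apply f
  rw [this]
  rfl

lemma e0_bijective (P : ModSite.Mod O) : Function.Bijective (e0 O P) := by
  have h1 : Function.Bijective (zeroMap O P) := ⟨zeroMap_injective O P, zeroMap_surjective O P⟩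
  exact (Ext.addEquiv₀.symm.bijective.comp h1).comp Ext.addEquiv₀.bijective

lemma e0_natural {P Q : ModSite.Mod O} (φ : P ⟶ Q) (x : (TT O).obj P 0) :
    e0 O Q ((TT O).map φ 0 x) = (SS O).map φ 0 (e0 O P x) := by
  obtain ⟨f, rfl⟩ := (Ext.mk₀_bijective _ _).2 x
  rw [ofExt_map_apply, e0_mk₀, ofExt_map_apply, Ext.mk₀_comp_mk₀, Ext.mk₀_comp_mk₀]
  change e0 O Q (Ext.mk₀ (f ≫ φ)) = _
  rw [e0_mk₀, Functor.map_comp, Category.assoc]

lemma effaceable_TT : Effaceable (TT O) := by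
  intro I _ n x
  exact Ext.eq_zero_of_injective x

lemma effaceable_SS : Effaceable (SS O) := by
  intro I _ n x
  have h : Subsingleton ((SS O).obj I (n + 1)) :=
    subsingleton_H_of_isTotallyAcyclic J (ModSite.toAb I) (isTotallyAcyclic_of_injective O I) n
  exact Subsingleton.elim _ _

/-- **Cohomology of an `O`-module computed in `Mod(O)` and on the underlying abelian sheaf agree**:
a morphism of δ-functors `Ext^n_O(O, -) ⟶ H^n(C, -)`, bijective in every degree. -/
theorem exists_comparison :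
    ∃ e : ∀ (P : ModSite.Mod O) (n : ℕ), Ext (ModSite.unit O) P n →+ ModSite.HC O P n,
      IsHom (TT O) (SS O) e ∧ (∀ P, e P 0 = e0 O P) ∧ ∀ P n, Function.Bijective (e P n) :=
  bijective_of_zero (effaceable_TT O) (effaceable_SS O) (e0 O) (e0_natural O) (e0_bijective O)

/-- the objectwise form. -/
theorem nonempty_iso (P : ModSite.Mod O) (n : ℕ) :
    Nonempty (AddCommGrpCat.of (Ext (ModSite.unit O) P n) ≅ AddCommGrpCat.of (ModSite.HC O P n)) := by
  obtain ⟨e, -, -, hb⟩ := exists_comparison O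
  exact ⟨AddEquiv.toAddCommGrpIso (AddEquiv.ofBijective (e P n) (hb P n))⟩

end Zero

end Groth.Agent.Lib.Helper2.ExtUnitH
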