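import Mathlib

/-!
# Adjunctions between exact functors induce adjunctions on derived categories

* `mapHomologicalComplexAdj adj c : G.mapHomologicalComplex c ⊣ F.mapHomologicalComplex c`
* `derivedAdj adj : G.mapDerivedCategory ⊣ F.mapDerivedCategory` for an adjoint pair of exact
  functors between abelian categories.
* `addEquivOfIsoLeft`, `addEquivOfIsoRight`: (pre/post)composition with an isomorphism as an
  additive equivalence.
-/

set_option autoImplicit false
universe w₁ w₂ v₁ v₂ u₁ u₂
open CategoryTheory CategoryTheory.Limits

namespace Groth.Agent.Lib.Helper2.DerivedAdj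

section Complexes

variable {C₁ : Type u₁} [Category.{v₁} C₁] [Preadditive C₁]
  {C₂ : Type u₂} [Category.{v₂} C₂] [Preadditive C₂]
  {G : C₁ ⥤ C₂} {F : C₂ ⥤ C₁} [G.Additive] [F.Additive] (adj : G ⊣ F)
  {ι : Type*} (c : ComplexShape ι)

/-- the unit of the adjunction on complexes -/
def unitHC : 𝟭 (HomologicalComplex C₁ c) ⟶
    G.mapHomologicalComplex c ⋙ F.mapHomologicalComplex c where
  app K :=
    { f := fun i => adj.unit.app (K.X i)
      comm' := fun i j _ => (adj.unit.naturality (K.d i j)).symm }
  naturality K L f := by
    ext i
    exact adj.unit.naturality (f.f i)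

/-- the counit of the adjunction on complexes -/
def counitHC : F.mapHomologicalComplex c ⋙ G.mapHomologicalComplex c ⟶
    𝟭 (HomologicalComplex C₂ c) where
  app K :=
    { f := fun i => adj.counit.app (K.X i)
      comm' := fun i j _ => (adj.counit.naturality (K.d i j)).symm }
  naturality K L f := by
    ext i
    exact adj.counit.naturality (f.f i)

/-- an adjunction between additive functors induces an adjunction on homological complexes -/
def mapHomologicalComplexAdj : G.mapHomologicalComplex c ⊣ F.mapHomologicalComplex c where
  unit := unitHC adj c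
  counit := counitHC adj c
  left_triangle_components K := by
    ext i
    exact adj.left_triangle_components (K.X i)
  right_triangle_components K := by
    ext i
    exact adj.right_triangle_components (K.X i)

end Complexes

section Derived

variable {C₁ : Type u₁} [Category.{v₁} C₁] [Abelian C₁] [HasDerivedCategory.{w₁} C₁]
  {C₂ : Type u₂} [Category.{v₂} C₂] [Abelian C₂] [HasDerivedCategory.{w₂} C₂]
  {G : C₁ ⥤ C₂} {F : C₂ ⥤ C₁} [G.Additive] [F.Additive]
  [PreservesFiniteLimits G] [PreservesFiniteColimits G]
  [PreservesFiniteLimits F] [PreservesFiniteColimits F]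
  (adj : G ⊣ F)

/-- an adjunction between exact functors induces an adjunction on derived categories -/
noncomputable def derivedAdj : G.mapDerivedCategory ⊣ F.mapDerivedCategory :=
  letI : CatCommSq (G.mapHomologicalComplex (ComplexShape.up ℤ)) DerivedCategory.Q
      DerivedCategory.Q G.mapDerivedCategory := ⟨G.mapDerivedCategoryFactors.symm⟩
  letI : CatCommSq (F.mapHomologicalComplex (ComplexShape.up ℤ)) DerivedCategory.Q
      DerivedCategory.Q F.mapDerivedCategory := ⟨F.mapDerivedCategoryFactors.symm⟩
  (mapHomologicalComplexAdj adj (ComplexShape.up ℤ)).localization DerivedCategory.Q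
    (HomologicalComplex.quasiIso C₁ (ComplexShape.up ℤ)) DerivedCategory.Q
    (HomologicalComplex.quasiIso C₂ (ComplexShape.up ℤ)) G.mapDerivedCategory
    F.mapDerivedCategory

end Derived

section Preadd

variable {D : Type*} [Category D] [Preadditive D]

/-- precomposition with an isomorphism, as an additive equivalence -/
def addEquivOfIsoLeft {A B : D} (e : A ≅ B) (Z : D) : (B ⟶ Z) ≃+ (A ⟶ Z) where
  toFun f := e.hom ≫ f
  invFun g := e.inv ≫ g
  left_inv f := by simp
  right_inv g := by simp
  map_add' f g := by simp

/-- postcomposition with an isomorphism, as an additive equivalence -/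
def addEquivOfIsoRight {A B : D} (e : A ≅ B) (Z : D) : (Z ⟶ A) ≃+ (Z ⟶ B) where
  toFun f := f ≫ e.hom
  invFun g := g ≫ e.inv
  left_inv f := by simp
  right_inv g := by simp
  map_add' f g := by simp

end Preadd

end Groth.Agent.Lib.Helper2.DerivedAdj
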