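import Groth.Agent.Lib.Helper2.RDPlus
import Mathlib.CategoryTheory.Abelian.RightDerived
import Mathlib.CategoryTheory.Abelian.Injective.Extend
import Mathlib.Algebra.Homology.Embedding.ExtendHomology
import Mathlib.Algebra.Homology.HomologicalComplexLimits

/-!
# Bridge between the classical right derived functors and `F.rightDerivedFunctorPlus`

For an additive functor `F : C ⥤ D` between abelian categories (`C` with enough injectives) we
construct natural isomorphisms `Hᵏ(RF(X[0])) ≅ (F.rightDerived k).obj X` and deduce the classical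
long exact sequence of right derived functors.
-/

namespace Groth.Agent.Lib.Helper2.RDBridge

open CategoryTheory CategoryTheory.Limits HomologicalComplex

universe w w' v v' u u'

section MapExtend

variable {ι ι' : Type*} {c : ComplexShape ι} {c' : ComplexShape ι'}
  {C : Type*} [Category C] [Preadditive C] [HasZeroObject C]
  {D : Type*} [Category D] [Preadditive D] [HasZeroObject D]
  (F : C ⥤ D) [F.Additive]

/-- Auxiliary isomorphism for `mapExtendIso`. -/
noncomputable def mapExtendXIso (K : HomologicalComplex C c) : ∀ (o : Option ι),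
    F.obj (extend.X K o) ≅ extend.X ((F.mapHomologicalComplex c).obj K) o
  | none => F.mapZeroObject
  | some _ => Iso.refl _

lemma mapExtendXIso_d (K : HomologicalComplex C c) : ∀ (o₁ o₂ : Option ι),
    (mapExtendXIso F K o₁).hom ≫ extend.d ((F.mapHomologicalComplex c).obj K) o₁ o₂ =
      F.map (extend.d K o₁ o₂) ≫ (mapExtendXIso F K o₂).hom
  | none, _ => by
      rw [extend.d_none_eq_zero _ _ _ rfl, extend.d_none_eq_zero _ _ _ rfl, F.map_zero,
        zero_comp, comp_zero]
  | some i, some j => by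
      change 𝟙 _ ≫ F.map (K.d i j) = F.map (K.d i j) ≫ 𝟙 _
      rw [Category.id_comp, Category.comp_id]
  | some _, none => by
      rw [extend.d_none_eq_zero' _ _ _ rfl, extend.d_none_eq_zero' _ _ _ rfl, F.map_zero,
        zero_comp, comp_zero]

lemma mapExtendXIso_mapX {K L : HomologicalComplex C c} (φ : K ⟶ L) : ∀ (o : Option ι),
    F.map (extend.mapX φ o) ≫ (mapExtendXIso F L o).hom =
      (mapExtendXIso F K o).hom ≫ extend.mapX ((F.mapHomologicalComplex c).map φ) o
  | none => by
      rw [extend.mapX_none _ rfl, extend.mapX_none _ rfl, F.map_zero, zero_comp, comp_zero]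
  | some i => by
      change F.map (φ.f i) ≫ 𝟙 _ = 𝟙 _ ≫ F.map (φ.f i)
      rw [Category.id_comp, Category.comp_id]

/-- An additive functor commutes with the extension of homological complexes along an
embedding of complex shapes. -/
noncomputable def mapExtendIso (K : HomologicalComplex C c) (e : c.Embedding c') :
    (F.mapHomologicalComplex c').obj (K.extend e) ≅
      ((F.mapHomologicalComplex c).obj K).extend e :=
  Hom.isoOfComponents (fun i' => mapExtendXIso F K (e.r i'))
    (fun i' j' _ => mapExtendXIso_d F K (e.r i') (e.r j'))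

lemma mapExtendIso_naturality {K L : HomologicalComplex C c} (φ : K ⟶ L) (e : c.Embedding c') :
    (F.mapHomologicalComplex c').map (extendMap φ e) ≫ (mapExtendIso F L e).hom =
      (mapExtendIso F K e).hom ≫ extendMap ((F.mapHomologicalComplex c).map φ) e := by
  ext i'
  exact mapExtendXIso_mapX F φ (e.r i')

end MapExtend

lemma five_squares {A : Type*} [Category A] {X₀ X₁ X₂ X₃ X₄ X₅ Y₀ Y₁ Y₂ Y₃ Y₄ Y₅ : A}
    (x₀ : X₀ ⟶ X₁) (x₁ : X₁ ⟶ X₂) (x₂ : X₂ ⟶ X₃) (x₃ : X₃ ⟶ X₄) (x₄ : X₄ ⟶ X₅)
    (y₀ : Y₀ ⟶ Y₁) (y₁ : Y₁ ⟶ Y₂) (y₂ : Y₂ ⟶ Y₃) (y₃ : Y₃ ⟶ Y₄) (y₄ : Y₄ ⟶ Y₅)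
    (m₀ : X₀ ⟶ Y₀) (m₁ : X₁ ⟶ Y₁) (m₂ : X₂ ⟶ Y₂) (m₃ : X₃ ⟶ Y₃) (m₄ : X₄ ⟶ Y₄) (m₅ : X₅ ⟶ Y₅)
    (h₀ : m₀ ≫ y₀ = x₀ ≫ m₁) (h₁ : m₁ ≫ y₁ = x₁ ≫ m₂) (h₂ : m₂ ≫ y₂ = x₂ ≫ m₃)
    (h₃ : m₃ ≫ y₃ = x₃ ≫ m₄) (h₄ : m₄ ≫ y₄ = x₄ ≫ m₅) :
    m₀ ≫ y₀ ≫ y₁ ≫ y₂ ≫ y₃ ≫ y₄ = (x₀ ≫ x₁ ≫ x₂ ≫ x₃ ≫ x₄) ≫ m₅ := by
  rw [reassoc_of% h₀, reassoc_of% h₁, reassoc_of% h₂, reassoc_of% h₃, h₄]
  simp only [Category.assoc]

section Bridge

variable {C : Type u} [Category.{v} C] [Abelian C] [HasDerivedCategory.{w} C] [EnoughInjectives C]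
  {D : Type u'} [Category.{v'} D] [Abelian D] [HasDerivedCategory.{w'} D]
  (F : C ⥤ D) [F.Additive]

variable (C) in
/-- The functor sending an object to the corresponding complex concentrated in degree `0`, as a
bounded below complex. -/
noncomputable def sP : C ⥤ CochainComplex.Plus C :=
  (CochainComplex.plus C).lift (CochainComplex.singleFunctor C 0) (fun _ => ⟨0, inferInstance⟩)

/-- The bounded below complex of injectives attached to an injective resolution. -/
noncomputable def JI {X : C} (I : InjectiveResolution X) : CochainComplex.Plus C :=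
  ⟨I.cochainComplex, ⟨0, inferInstance⟩⟩

instance {X : C} (I : InjectiveResolution X) (n : ℤ) : Injective ((JI I).obj.X n) :=
  inferInstanceAs (Injective (I.cochainComplex.X n))

/-- The quasi-isomorphism `X[0] ⟶ I` as a morphism of bounded below complexes. -/
noncomputable def ιP {X : C} (I : InjectiveResolution X) : (sP C).obj X ⟶ JI I :=
  ObjectProperty.homMk I.ι'

instance {X : C} (I : InjectiveResolution X) : QuasiIso (ιP I).hom :=
  inferInstanceAs (QuasiIso I.ι')

/-- The isomorphism `X[0] ≅ I` in `D⁺(C)`. -/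
noncomputable def eI {X : C} (I : InjectiveResolution X) :
    DerivedCategory.Plus.Q.obj ((sP C).obj X) ≅ DerivedCategory.Plus.Q.obj (JI I) :=
  haveI := RDPlus.isIso_PlusQ_map (ιP I)
  asIso (DerivedCategory.Plus.Q.map (ιP I))

/-- The functor `K(C)⁺ ⥤ D⁺(D)` induced by `F`. -/
noncomputable abbrev FQ : HomotopyCategory.Plus C ⥤ DerivedCategory.Plus D :=
  F.mapHomotopyCategoryPlus ⋙ DerivedCategory.Plus.Qh

/-- The homology functor on `D⁺(D)`. -/
noncomputable abbrev HD (n : ℤ) : DerivedCategory.Plus D ⥤ D :=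
  DerivedCategory.Plus.ι ⋙ DerivedCategory.homologyFunctor D n

/-- The cohomology of the image of `F(J)` in `D⁺(D)` is the cohomology of the complex `F(J)`. -/
noncomputable def hIso (n : ℤ) (J : CochainComplex.Plus C) :
    (HD n).obj ((FQ F).obj ((HomotopyCategory.Plus.quotient C).obj J)) ≅
      ((F.mapHomologicalComplex (ComplexShape.up ℤ)).obj J.obj).homology n :=
  (DerivedCategory.homologyFunctorFactors D n).app
    ((F.mapHomologicalComplex (ComplexShape.up ℤ)).obj J.obj)

lemma hIso_naturality (n : ℤ) {J J' : CochainComplex.Plus C} (μ : J ⟶ J') :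
    (HD n).map ((FQ F).map ((HomotopyCategory.Plus.quotient C).map μ)) ≫ (hIso F n J').hom =
      (hIso F n J).hom ≫
        homologyMap ((F.mapHomologicalComplex (ComplexShape.up ℤ)).map μ.hom) n :=
  (DerivedCategory.homologyFunctorFactors D n).hom.naturality
    ((F.mapHomologicalComplex (ComplexShape.up ℤ)).map μ.hom)

/-- The bridge isomorphism `Hᵏ(RF(X[0])) ≅ RᵏF(X)`, computed with an injective resolution. -/
noncomputable def wIso {X : C} (I : InjectiveResolution X) (k : ℕ) :
    (RDPlus.RH F (k : ℤ)).obj ((sP C).obj X) ≅ (F.rightDerived k).obj X :=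
  (HD (k : ℤ)).mapIso (RDPlus.vIso F ((sP C).obj X) (JI I) (eI I)) ≪≫
    hIso F k (JI I) ≪≫
    (HomologicalComplex.homologyFunctor D _ (k : ℤ)).mapIso
      (mapExtendIso F I.cocomplex ComplexShape.embeddingUpNat) ≪≫
    HomologicalComplex.extendHomologyIso ((F.mapHomologicalComplex _).obj I.cocomplex)
      ComplexShape.embeddingUpNat (j := k) (j' := (k : ℤ)) rfl ≪≫
    (I.isoRightDerivedObj F k).symm

lemma wIso_naturality {X Y : C} (f : X ⟶ Y) (I : InjectiveResolution X)
    (J : InjectiveResolution Y) (φ : InjectiveResolution.Hom I J f) (k : ℕ) :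
    (RDPlus.RH F (k : ℤ)).map ((sP C).map f) ≫ (wIso F J k).hom =
      (wIso F I k).hom ≫ (F.rightDerived k).map f := by
  let μ : JI I ⟶ JI J := ObjectProperty.homMk φ.hom'
  have comm : DerivedCategory.Plus.Q.map ((sP C).map f) ≫ (eI J).hom =
      (eI I).hom ≫ DerivedCategory.Plus.Q.map μ := by
    dsimp only [eI, asIso_hom]
    rw [← Functor.map_comp, ← Functor.map_comp]
    congr 1
    apply (CochainComplex.Plus.ι C).map_injective
    exact (InjectiveResolution.Hom.ι'_comp_hom' φ).symm
  have s5 := congrArg (HD (k : ℤ)).map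
    (RDPlus.vIso_comm F (eI I) (eI J) ((sP C).map f) μ comm)
  rw [Functor.map_comp, Functor.map_comp] at s5
  have s4 := hIso_naturality F (k : ℤ) μ
  have s3 := congrArg (fun m => homologyMap m (k : ℤ))
    (mapExtendIso_naturality F φ.hom ComplexShape.embeddingUpNat)
  simp only [homologyMap_comp] at s3
  have s2 := HomologicalComplex.extendHomologyIso_hom_naturality
    ((F.mapHomologicalComplex _).map φ.hom) ComplexShape.embeddingUpNat
    (j := k) (j' := (k : ℤ)) rfl
  have s1 := InjectiveResolution.isoRightDerivedObj_inv_naturality f I J φ.hom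
    (by simpa using φ.ι_f_zero_comp_hom_f_zero) F k
  exact five_squares _ _ _ _ _ _ _ _ _ _ _ _ _ _ _ _ s5 s4 s3 s2 s1.symm

/-- A chosen morphism of injective resolutions lifting a morphism. -/
noncomputable def descHom {X Y : C} (f : X ⟶ Y) (I : InjectiveResolution X)
    (J : InjectiveResolution Y) : InjectiveResolution.Hom I J f where
  hom := InjectiveResolution.desc f J I
  ι_f_zero_comp_hom_f_zero := by
    simp only [CochainComplex.single₀_map_f_zero]
    exact InjectiveResolution.desc_commutes_zero f J I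

lemma wIso_inv_naturality {X Y : C} (f : X ⟶ Y) (I : InjectiveResolution X)
    (J : InjectiveResolution Y) (k : ℕ) :
    (F.rightDerived k).map f ≫ (wIso F J k).inv =
      (wIso F I k).inv ≫ (RDPlus.RH F (k : ℤ)).map ((sP C).map f) := by
  rw [Iso.comp_inv_eq, Category.assoc, Iso.eq_inv_comp]
  exact (wIso_naturality F f I J (descHom f I J) k).symm

lemma isZero_RH_neg (X : C) (n : ℤ) (hn : n < 0) :
    IsZero ((RDPlus.RH F n).obj ((sP C).obj X)) := by
  let I := injectiveResolution X
  refine IsZero.of_iso ?_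
    ((HD n).mapIso (RDPlus.vIso F ((sP C).obj X) (JI I) (eI I)) ≪≫ hIso F n (JI I))
  refine (HomologicalComplex.exactAt_iff_isZero_homology _ _).1 ?_
  exact ShortComplex.exact_of_isZero_X₂ _
    (F.map_isZero (CochainComplex.isZero_of_isStrictlyGE I.cochainComplex 0 n hn))

lemma isZero_HD_FQ_single (X : C) (n : ℤ) (hn : n ≠ 0) :
    IsZero ((HD n).obj ((FQ F).obj ((HomotopyCategory.Plus.quotient C).obj ((sP C).obj X)))) := by
  refine IsZero.of_iso ?_ (hIso F n ((sP C).obj X))
  refine (HomologicalComplex.exactAt_iff_isZero_homology _ _).1 ?_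
  exact ShortComplex.exact_of_isZero_X₂ _
    (F.map_isZero (HomologicalComplex.isZero_single_obj_X (ComplexShape.up ℤ) 0 X n hn))

omit [HasDerivedCategory.{w} C] [EnoughInjectives C] in
lemma single_comp_zero (S : ShortComplex C) :
    ((sP C).map S.f).hom ≫ ((sP C).map S.g).hom = 0 := by
  change (CochainComplex.singleFunctor C 0).map S.f ≫ (CochainComplex.singleFunctor C 0).map S.g = 0
  rw [← Functor.map_comp, S.zero, Functor.map_zero]

omit [HasDerivedCategory.{w} C] [EnoughInjectives C] in
lemma shortExact_single (S : ShortComplex C) (hS : S.ShortExact) :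
    (ShortComplex.mk ((sP C).map S.f).hom ((sP C).map S.g).hom (single_comp_zero S)).ShortExact := by
  haveI : PreservesFiniteLimits (CochainComplex.singleFunctor C 0) :=
    inferInstanceAs (PreservesFiniteLimits (HomologicalComplex.single C (ComplexShape.up ℤ) 0))
  haveI : PreservesFiniteColimits (CochainComplex.singleFunctor C 0) :=
    inferInstanceAs (PreservesFiniteColimits (HomologicalComplex.single C (ComplexShape.up ℤ) 0))
  exact hS.map_of_exact (CochainComplex.singleFunctor C 0)

/-- The classical long exact sequence of right derived functors (five terms). -/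
theorem rightDerived_les (S : ShortComplex C) (hS : S.ShortExact) (k : ℕ) :
    ∃ (δ : (F.rightDerived k).obj S.X₃ ⟶ (F.rightDerived (k + 1)).obj S.X₁)
      (h1 : (F.rightDerived k).map S.f ≫ (F.rightDerived k).map S.g = 0)
      (h2 : (F.rightDerived k).map S.g ≫ δ = 0)
      (h3 : δ ≫ (F.rightDerived (k + 1)).map S.f = 0),
      (ShortComplex.mk _ _ h1).Exact ∧ (ShortComplex.mk _ _ h2).Exact ∧
        (ShortComplex.mk _ _ h3).Exact := by
  obtain ⟨δ', z1, z2, z3, e1, e2, e3⟩ := RDPlus.les F ((sP C).map S.f) ((sP C).map S.g)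
    (single_comp_zero S) (shortExact_single S hS) (k : ℤ) ((k + 1 : ℕ) : ℤ) (by push_cast; rfl)
  exact RDPlus.exists_connecting _ _ _ _ _ δ' _
    (wIso F (injectiveResolution S.X₁) k).symm (wIso F (injectiveResolution S.X₂) k).symm
    (wIso F (injectiveResolution S.X₃) k).symm
    (wIso F (injectiveResolution S.X₁) (k + 1)).symm
    (wIso F (injectiveResolution S.X₂) (k + 1)).symm
    (wIso_inv_naturality F S.f _ _ k) (wIso_inv_naturality F S.g _ _ k)
    (wIso_inv_naturality F S.f _ _ (k + 1)) z1 z2 z3 e1 e2 e3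

/-- `R⁰F` preserves monomorphisms (in short exact sequences). -/
theorem rightDerived_zero_map_mono (S : ShortComplex C) (hS : S.ShortExact) :
    Mono ((F.rightDerived 0).map S.f) := by
  obtain ⟨δ', z1, z2, z3, e1, e2, e3⟩ := RDPlus.les F ((sP C).map S.f) ((sP C).map S.g)
    (single_comp_zero S) (shortExact_single S hS) (-1) ((0 : ℕ) : ℤ) (by simp)
  have hz := isZero_RH_neg F S.X₃ (-1) (by omega)
  have hm : Mono ((RDPlus.RH F ((0 : ℕ) : ℤ)).map ((sP C).map S.f)) :=
    e3.mono_g (hz.eq_of_src _ _)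
  have h := wIso_inv_naturality F S.f (injectiveResolution S.X₁) (injectiveResolution S.X₂) 0
  have h' : (F.rightDerived 0).map S.f = (wIso F (injectiveResolution S.X₁) 0).inv ≫
      (RDPlus.RH F ((0 : ℕ) : ℤ)).map ((sP C).map S.f) ≫
        (wIso F (injectiveResolution S.X₂) 0).hom := by
    rw [← Category.assoc, ← h, Category.assoc, Iso.inv_hom_id, Category.comp_id]
  rw [h']
  infer_instance

lemma isIso_iff_of_sq {A : Type*} [Category A] {P Q R S : A} {f : P ⟶ Q} {g : R ⟶ S}
    {a : P ⟶ R} {b : Q ⟶ S} (h : f ≫ b = a ≫ g) (ha : IsIso a) (hb : IsIso b) :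
    IsIso f ↔ IsIso g := by
  constructor
  · intro _
    have : g = inv a ≫ f ≫ b := by rw [h, IsIso.inv_hom_id_assoc]
    rw [this]; infer_instance
  · intro _
    have : f = a ≫ g ≫ inv b := by
      rw [← Category.assoc, ← h, Category.assoc, IsIso.hom_inv_id, Category.comp_id]
    rw [this]; infer_instance

lemma unit_comp_vIso {X J : CochainComplex.Plus C} [∀ n, Injective (J.obj.X n)] (i : X ⟶ J)
    (e : DerivedCategory.Plus.Q.obj X ≅ DerivedCategory.Plus.Q.obj J)
    (he : e.hom = DerivedCategory.Plus.Q.map i) :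
    F.rightDerivedFunctorPlusUnit.app ((HomotopyCategory.Plus.quotient C).obj X) ≫
        (RDPlus.vIso F X J e).hom =
      (FQ F).map ((HomotopyCategory.Plus.quotient C).map i) := by
  have nat := F.rightDerivedFunctorPlusUnit.naturality ((HomotopyCategory.Plus.quotient C).map i)
  dsimp only [RDPlus.vIso, Iso.trans_hom, Functor.mapIso_hom, Iso.symm_hom]
  rw [he]
  refine (Category.assoc _ _ _).symm.trans ?_
  exact (Iso.comp_inv_eq _).2 nat.symm

lemma isIso_HD_zero_unit_iff {X : C} (I : InjectiveResolution X) :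
    IsIso ((HD 0).map (F.rightDerivedFunctorPlusUnit.app
      ((HomotopyCategory.Plus.quotient C).obj ((sP C).obj X)))) ↔
      IsIso (I.toRightDerivedZero' F) := by
  let e := ComplexShape.embeddingUpNat
  let K₀ := (F.mapHomologicalComplex (ComplexShape.up ℕ)).obj ((CochainComplex.single₀ C).obj X)
  let L₀ := (F.mapHomologicalComplex (ComplexShape.up ℕ)).obj I.cocomplex
  let g₀ : K₀ ⟶ L₀ := (F.mapHomologicalComplex (ComplexShape.up ℕ)).map I.ι
  have hA : (HD 0).map (F.rightDerivedFunctorPlusUnit.app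
      ((HomotopyCategory.Plus.quotient C).obj ((sP C).obj X))) ≫
      (HD 0).map (RDPlus.vIso F ((sP C).obj X) (JI I) (eI I)).hom =
      𝟙 _ ≫ (HD 0).map ((FQ F).map ((HomotopyCategory.Plus.quotient C).map (ιP I))) := by
    rw [Category.id_comp, ← Functor.map_comp]
    congr 1
    exact unit_comp_vIso F (ιP I) (eI I) rfl
  let σ := HomologicalComplex.extendSingleIso (c := ComplexShape.up ℕ) (c' := ComplexShape.up ℤ)
    e X (i := 0) (i' := 0) (by simp [e])
  have hC : (HomologicalComplex.homologyFunctor D _ (0 : ℤ)).map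
        ((F.mapHomologicalComplex (ComplexShape.up ℤ)).map I.ι') ≫ 𝟙 _ =
      (HomologicalComplex.homologyFunctor D _ (0 : ℤ)).map
        ((F.mapHomologicalComplex (ComplexShape.up ℤ)).map σ.inv) ≫
      (HomologicalComplex.homologyFunctor D _ (0 : ℤ)).map
        ((F.mapHomologicalComplex (ComplexShape.up ℤ)).map (extendMap I.ι e)) := by
    rw [Category.comp_id, ← Functor.map_comp, ← Functor.map_comp]
    rfl
  have hD : (HomologicalComplex.homologyFunctor D _ (0 : ℤ)).map
        ((F.mapHomologicalComplex (ComplexShape.up ℤ)).map (extendMap I.ι e)) ≫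
      (HomologicalComplex.homologyFunctor D _ (0 : ℤ)).map (mapExtendIso F I.cocomplex e).hom =
      (HomologicalComplex.homologyFunctor D _ (0 : ℤ)).map
        (mapExtendIso F ((CochainComplex.single₀ C).obj X) e).hom ≫
      (HomologicalComplex.homologyFunctor D _ (0 : ℤ)).map (extendMap g₀ e) := by
    rw [← Functor.map_comp, ← Functor.map_comp, mapExtendIso_naturality]
  have hE := HomologicalComplex.extendHomologyIso_hom_naturality g₀ e (j := 0) (j' := (0 : ℤ))
    (by simp [e])
  have hF := HomologicalComplex.homologyπ_naturality g₀ 0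
  haveI : IsIso (K₀.homologyπ 0) := K₀.isIso_homologyπ _ 0 rfl (by simp)
  haveI : IsIso (L₀.homologyπ 0) := L₀.isIso_homologyπ _ 0 rfl (by simp)
  haveI : IsIso (K₀.iCycles 0) := K₀.isIso_iCycles 0 1 (by simp) (by
    simp only [K₀, Functor.mapHomologicalComplex_obj_d]
    refine Eq.trans ?_ (F.map_zero _ _)
    congr 1)
  have hG : HomologicalComplex.cyclesMap g₀ 0 = K₀.iCycles 0 ≫ I.toRightDerivedZero' F := by
    apply (cancel_mono (L₀.iCycles 0)).1
    refine (HomologicalComplex.cyclesMap_i g₀ 0).trans ?_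
    refine Eq.trans ?_ (Category.assoc _ _ _).symm
    exact congrArg (fun t => K₀.iCycles 0 ≫ t)
      (InjectiveResolution.toRightDerivedZero'_comp_iCycles I F).symm
  have iA : IsIso ((HD 0).map (RDPlus.vIso F ((sP C).obj X) (JI I) (eI I)).hom) := inferInstance
  have i1 : IsIso (𝟙 ((HD 0).obj ((FQ F).obj
      ((HomotopyCategory.Plus.quotient C).obj ((sP C).obj X))))) := inferInstance
  refine (isIso_iff_of_sq hA i1 iA).trans ?_
  refine (isIso_iff_of_sq (hIso_naturality F 0 (ιP I)) (Iso.isIso_hom _) (Iso.isIso_hom _)).trans ?_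
  have iC1 : IsIso ((HomologicalComplex.homologyFunctor D _ (0 : ℤ)).map
      ((F.mapHomologicalComplex (ComplexShape.up ℤ)).map σ.inv)) := inferInstance
  have iC2 : IsIso (𝟙 ((HomologicalComplex.homologyFunctor D _ (0 : ℤ)).obj
      ((F.mapHomologicalComplex (ComplexShape.up ℤ)).obj I.cochainComplex))) := inferInstance
  refine (isIso_iff_of_sq hC iC1 iC2).trans ?_
  have iD1 : IsIso ((HomologicalComplex.homologyFunctor D _ (0 : ℤ)).map
      (mapExtendIso F ((CochainComplex.single₀ C).obj X) e).hom) := inferInstance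
  have iD2 : IsIso ((HomologicalComplex.homologyFunctor D _ (0 : ℤ)).map
      (mapExtendIso F I.cocomplex e).hom) := inferInstance
  refine (isIso_iff_of_sq hD iD1 iD2).trans ?_
  refine (isIso_iff_of_sq hE (Iso.isIso_hom _) (Iso.isIso_hom _)).trans ?_
  have iF1 : IsIso (K₀.homologyπ 0) := inferInstance
  have iF2 : IsIso (L₀.homologyπ 0) := inferInstance
  refine (isIso_iff_of_sq hF.symm iF1 iF2).symm.trans ?_
  have hG' : HomologicalComplex.cyclesMap g₀ 0 ≫ 𝟙 _ =
      K₀.iCycles 0 ≫ I.toRightDerivedZero' F := by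
    rw [Category.comp_id]
    exact hG
  have iG1 : IsIso (K₀.iCycles 0) := inferInstance
  have iG2 : IsIso (𝟙 (L₀.cycles 0)) := inferInstance
  exact isIso_iff_of_sq hG' iG1 iG2

/-- Characterization of right acyclic objects: the unit `F(X)[0] ⟶ RF(X[0])` is an isomorphism iff
`F X ⟶ R⁰F X` is an isomorphism and the higher derived functors vanish on `X`. -/
theorem isIso_unit_single_iff (X : C) :
    IsIso (F.rightDerivedFunctorPlusUnit.app
      ((HomotopyCategory.Plus.quotient C).obj ((sP C).obj X))) ↔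
      (IsIso (F.toRightDerivedZero.app X) ∧
        ∀ i : ℕ, 0 < i → IsZero ((F.rightDerived i).obj X)) := by
  let I := injectiveResolution X
  have h0 := isIso_HD_zero_unit_iff F I
  have h0' : IsIso (F.toRightDerivedZero.app X) ↔ IsIso (I.toRightDerivedZero' F) := by
    rw [I.toRightDerivedZero_eq F]
    constructor
    · intro _
      exact IsIso.of_isIso_comp_right _
        ((CochainComplex.isoHomologyπ₀ _).hom ≫ (I.isoRightDerivedObj F 0).inv)
    · intro _
      infer_instance
  rw [DerivedCategory.Plus.isIso_iff]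
  constructor
  · intro h
    refine ⟨h0'.2 (h0.1 (h 0)), fun i hi => ?_⟩
    have hz := isZero_HD_FQ_single F X (i : ℤ) (by omega)
    haveI : IsIso ((HD (i : ℤ)).map (F.rightDerivedFunctorPlusUnit.app
      ((HomotopyCategory.Plus.quotient C).obj ((sP C).obj X)))) := h (i : ℤ)
    exact (hz.of_iso (asIso ((HD (i : ℤ)).map (F.rightDerivedFunctorPlusUnit.app
      ((HomotopyCategory.Plus.quotient C).obj ((sP C).obj X))))).symm).of_iso (wIso F I i).symm
  · rintro ⟨h1, h2⟩ n
    rcases lt_trichotomy n 0 with hn | rfl | hn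
    · exact ⟨⟨0, (isZero_HD_FQ_single F X n (by omega)).eq_of_src _ _,
        (isZero_RH_neg F X n hn).eq_of_src _ _⟩⟩
    · exact h0.2 (h0'.1 h1)
    · obtain ⟨i, rfl⟩ := Int.eq_ofNat_of_zero_le hn.le
      exact ⟨⟨0, (isZero_HD_FQ_single F X (i : ℤ) (by omega)).eq_of_src _ _,
        ((h2 i (by omega)).of_iso (wIso F I i)).eq_of_src _ _⟩⟩

end Bridge

section NoDerived

variable {C : Type u} [Category.{v} C] [Abelian C] [EnoughInjectives C]
  {D : Type u'} [Category.{v'} D] [Abelian D] (F : C ⥤ D) [F.Additive]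

/-- The classical long exact sequence of right derived functors (no derived category needed in the
statement). -/
theorem rightDerived_les' (S : ShortComplex C) (hS : S.ShortExact) (k : ℕ) :
    ∃ (δ : (F.rightDerived k).obj S.X₃ ⟶ (F.rightDerived (k + 1)).obj S.X₁)
      (h1 : (F.rightDerived k).map S.f ≫ (F.rightDerived k).map S.g = 0)
      (h2 : (F.rightDerived k).map S.g ≫ δ = 0)
      (h3 : δ ≫ (F.rightDerived (k + 1)).map S.f = 0),
      (ShortComplex.mk _ _ h1).Exact ∧ (ShortComplex.mk _ _ h2).Exact ∧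
        (ShortComplex.mk _ _ h3).Exact := by
  letI : HasDerivedCategory.{max u v} C := HasDerivedCategory.standard C
  letI : HasDerivedCategory.{max u' v'} D := HasDerivedCategory.standard D
  exact rightDerived_les F S hS k

theorem rightDerived_zero_map_mono' (S : ShortComplex C) (hS : S.ShortExact) :
    Mono ((F.rightDerived 0).map S.f) := by
  letI : HasDerivedCategory.{max u v} C := HasDerivedCategory.standard C
  letI : HasDerivedCategory.{max u' v'} D := HasDerivedCategory.standard D
  exact rightDerived_zero_map_mono F S hS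

/-- The classical right derived functors are additive. -/
instance rightDerived_additive (n : ℕ) : (F.rightDerived n).Additive where
  map_add {X Y f g} := by
    have hf := F.rightDerived_map_eq n f (P := injectiveResolution X)
      (Q := injectiveResolution Y) (InjectiveResolution.desc f _ _) (by simp)
    have hg := F.rightDerived_map_eq n g (P := injectiveResolution X)
      (Q := injectiveResolution Y) (InjectiveResolution.desc g _ _) (by simp)
    have hfg := F.rightDerived_map_eq n (f + g) (P := injectiveResolution X)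
      (Q := injectiveResolution Y)
      (InjectiveResolution.desc f _ _ + InjectiveResolution.desc g _ _) (by
        rw [Preadditive.comp_add, InjectiveResolution.desc_commutes,
          InjectiveResolution.desc_commutes, Functor.map_add, Preadditive.add_comp])
    rw [hf, hg, hfg, Functor.map_add, Preadditive.add_comp, Preadditive.comp_add]

/-- Right acyclic objects for `F` (vanishing of the higher classical derived functors). -/
def RAcyc (X : C) : Prop := ∀ i : ℕ, 0 < i → IsZero ((F.rightDerived i).obj X)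

lemma racyc_of_injective (X : C) [Injective X] : RAcyc F X := by
  intro i hi
  obtain ⟨j, rfl⟩ : ∃ j, i = j + 1 := ⟨i - 1, by omega⟩
  exact F.isZero_rightDerived_obj_injective_succ j X

lemma racyc_of_isZero (X : C) (hX : IsZero X) : RAcyc F X :=
  haveI := hX.injective
  racyc_of_injective F X

lemma racyc_X₂ (S : ShortComplex C) (hS : S.ShortExact) (h₁ : RAcyc F S.X₁)
    (h₃ : RAcyc F S.X₃) : RAcyc F S.X₂ := by
  intro i hi
  obtain ⟨δ, z1, z2, z3, e1, e2, e3⟩ := rightDerived_les' F S hS i
  exact e1.isZero_of_both_zeros ((h₁ i hi).eq_of_src _ _) ((h₃ i hi).eq_of_tgt _ _)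

lemma racyc_X₃ (S : ShortComplex C) (hS : S.ShortExact) (h₁ : RAcyc F S.X₁)
    (h₂ : RAcyc F S.X₂) : RAcyc F S.X₃ := by
  intro i hi
  obtain ⟨δ, z1, z2, z3, e1, e2, e3⟩ := rightDerived_les' F S hS i
  exact e2.isZero_of_both_zeros ((h₂ i hi).eq_of_src _ _)
    ((h₁ (i + 1) (by omega)).eq_of_tgt _ _)

section LeftExact

variable [PreservesFiniteLimits F]

lemma epi_rightDerived_zero_map_iff {X Y : C} (g : X ⟶ Y) :
    Epi ((F.rightDerived 0).map g) ↔ Epi (F.map g) := by
  have h1 := NatIso.naturality_2 F.rightDerivedZeroIsoSelf g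
  have h2 := NatIso.naturality_1 F.rightDerivedZeroIsoSelf g
  constructor
  · intro _
    rw [← h2]
    infer_instance
  · intro _
    rw [← h1]
    infer_instance

lemma shortExact_map_of_epi (S : ShortComplex C) (hS : S.ShortExact) (hg : Epi (F.map S.g)) :
    (S.map F).ShortExact := by
  obtain ⟨h1, h2⟩ :=
    (Functor.preservesFiniteLimits_iff_forall_exact_map_and_mono F).1 inferInstance S hS
  exact ShortComplex.ShortExact.mk' h1 h2 hg

lemma epi_map_g_of_isZero (S : ShortComplex C) (hS : S.ShortExact)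
    (h : IsZero ((F.rightDerived 1).obj S.X₁)) : Epi (F.map S.g) := by
  obtain ⟨δ, z1, z2, z3, e1, e2, e3⟩ := rightDerived_les' F S hS 0
  rw [← epi_rightDerived_zero_map_iff]
  exact e2.epi_f (h.eq_of_tgt _ _)

lemma shortExact_map_of_isZero (S : ShortComplex C) (hS : S.ShortExact)
    (h : IsZero ((F.rightDerived 1).obj S.X₁)) : (S.map F).ShortExact :=
  shortExact_map_of_epi F S hS (epi_map_g_of_isZero F S hS h)

lemma racyc_X₁ (S : ShortComplex C) (hS : S.ShortExact) (h₂ : RAcyc F S.X₂)
    (h₃ : RAcyc F S.X₃) (hg : Epi (F.map S.g)) : RAcyc F S.X₁ := by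
  intro i hi
  obtain ⟨j, rfl⟩ : ∃ j, i = j + 1 := ⟨i - 1, by omega⟩
  obtain ⟨δ, z1, z2, z3, e1, e2, e3⟩ := rightDerived_les' F S hS j
  have hδ : δ = 0 := by
    rcases Nat.eq_zero_or_pos j with rfl | hj
    · haveI : Epi ((F.rightDerived 0).map S.g) := (epi_rightDerived_zero_map_iff F S.g).2 hg
      exact (cancel_epi ((F.rightDerived 0).map S.g)).1 (z2.trans comp_zero.symm)
    · exact (h₃ j hj).eq_of_src _ _
  exact e3.isZero_of_both_zeros hδ ((h₂ (j + 1) (by omega)).eq_of_tgt _ _)

end LeftExact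

end NoDerived

end Groth.Agent.Lib.Helper2.RDBridge
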