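import Groth.Prelude.Def_CohDer
import Mathlib.CategoryTheory.Triangulated.Generators
import Mathlib.CategoryTheory.Limits.Preserves.Shapes.Products
import Mathlib.CategoryTheory.Adjunction.Limits
import Mathlib.Data.Finset.Basic

/-!
# Compact objects in triangulated categories: closure properties, and factorisation of maps from
compact objects to "cellular towers" through finitely built objects
-/

set_option autoImplicit false

namespace Groth.Agent.Lib.Helper2.CompactEnv

open CategoryTheory CategoryTheory.Limits CategoryTheory.Pretriangulated CohDer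

universe v u

variable {D : Type u} [Category.{v} D] [Preadditive D]

section Proj

variable {κ : Type v} (X : κ → D) [HasCoproduct X]

open Classical in
/-- The projection of a coproduct onto a summand. -/
noncomputable def sigmaπ (j : κ) : ∐ X ⟶ X j :=
  Sigma.desc (fun k => if h : k = j then eqToHom (by rw [h]) else 0)

@[reassoc (attr := simp)]
lemma ι_sigmaπ_self (j : κ) : Sigma.ι X j ≫ sigmaπ X j = 𝟙 _ := by
  simp [sigmaπ]

@[reassoc]
lemma ι_sigmaπ_of_ne {k j : κ} (h : k ≠ j) : Sigma.ι X k ≫ sigmaπ X j = 0 := by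
  simp [sigmaπ, h]

open Classical in
/-- The idempotent complementary to a finite set of summands. -/
noncomputable def compl (F : Finset κ) : ∐ X ⟶ ∐ X :=
  𝟙 _ - ∑ k ∈ F, sigmaπ X k ≫ Sigma.ι X k

lemma ι_compl {F : Finset κ} {k : κ} (hk : k ∈ F) : Sigma.ι X k ≫ compl X F = 0 := by
  classical
  unfold compl
  rw [Preadditive.comp_sub, Category.comp_id, Preadditive.comp_sum, Finset.sum_eq_single k]
  · rw [ι_sigmaπ_self_assoc, sub_self]
  · intro j _ hj
    rw [ι_sigmaπ_of_ne_assoc X (Ne.symm hj), zero_comp]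
  · intro h; exact absurd hk h

lemma eq_sum_of_comp_compl_eq_zero {C : D} {φ : C ⟶ ∐ X} {F : Finset κ}
    (h : φ ≫ compl X F = 0) : φ = ∑ k ∈ F, (φ ≫ sigmaπ X k) ≫ Sigma.ι X k := by
  unfold compl at h
  rw [Preadditive.comp_sub, Category.comp_id, sub_eq_zero, Preadditive.comp_sum] at h
  exact h.trans (Finset.sum_congr rfl fun k _ => (Category.assoc _ _ _).symm)

lemma comp_compl_mono {C : D} {φ : C ⟶ ∐ X} {F F' : Finset κ} (hF : F ⊆ F')
    (h : φ ≫ compl X F = 0) : φ ≫ compl X F' = 0 := by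
  rw [eq_sum_of_comp_compl_eq_zero X h, Preadditive.sum_comp]
  apply Finset.sum_eq_zero
  intro k hk
  rw [Category.assoc, ι_compl X (hF hk), comp_zero]

/-- Morphisms to a coproduct with finite support. -/
def IsFin {C : D} (φ : C ⟶ ∐ X) : Prop :=
  φ ∈ AddSubgroup.closure {ψ : C ⟶ ∐ X | ∃ (k : κ) (g : C ⟶ X k), ψ = g ≫ Sigma.ι X k}

variable {X}

lemma isFin_comp_ι {C : D} (k : κ) (g : C ⟶ X k) : IsFin X (g ≫ Sigma.ι X k) :=
  AddSubgroup.subset_closure ⟨k, g, rfl⟩

lemma IsFin.add {C : D} {φ ψ : C ⟶ ∐ X} (h₁ : IsFin X φ) (h₂ : IsFin X ψ) : IsFin X (φ + ψ) :=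
  add_mem h₁ h₂

lemma isFin_sum {C : D} {α : Type*} (s : Finset α) (φ : α → (C ⟶ ∐ X))
    (h : ∀ a ∈ s, IsFin X (φ a)) : IsFin X (∑ a ∈ s, φ a) :=
  sum_mem h

lemma IsFin.precomp {C C' : D} (v : C ⟶ C') {φ : C' ⟶ ∐ X} (h : IsFin X φ) :
    IsFin X (v ≫ φ) := by
  unfold IsFin at h
  induction h using AddSubgroup.closure_induction with
  | mem ψ hψ =>
    obtain ⟨k, g, rfl⟩ := hψ
    rw [← Category.assoc]
    exact isFin_comp_ι k (v ≫ g)
  | zero => rw [comp_zero]; exact zero_mem _
  | add a b _ _ ha hb => rw [Preadditive.comp_add]; exact add_mem ha hb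
  | neg a _ ha => rw [Preadditive.comp_neg]; exact neg_mem ha

lemma IsFin.exists_finset {C : D} {φ : C ⟶ ∐ X} (h : IsFin X φ) :
    ∃ F : Finset κ, φ ≫ compl X F = 0 := by
  classical
  unfold IsFin at h
  induction h using AddSubgroup.closure_induction with
  | mem ψ hψ =>
    obtain ⟨k, g, rfl⟩ := hψ
    exact ⟨{k}, by rw [Category.assoc, ι_compl X (Finset.mem_singleton_self k), comp_zero]⟩
  | zero => exact ⟨∅, zero_comp⟩
  | add a b _ _ ha hb =>
    obtain ⟨Fa, hFa⟩ := ha
    obtain ⟨Fb, hFb⟩ := hb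
    refine ⟨Fa ∪ Fb, ?_⟩
    rw [Preadditive.add_comp, comp_compl_mono X Finset.subset_union_left hFa,
      comp_compl_mono X Finset.subset_union_right hFb, add_zero]
  | neg a _ ha =>
    obtain ⟨F, hF⟩ := ha
    exact ⟨F, by rw [Preadditive.neg_comp, hF, neg_zero]⟩

lemma isFin_of_comp_compl {C : D} {φ : C ⟶ ∐ X} {F : Finset κ} (h : φ ≫ compl X F = 0) :
    IsFin X φ := by
  rw [eq_sum_of_comp_compl_eq_zero X h]
  exact isFin_sum _ _ (fun k _ => isFin_comp_ι k _)

lemma isFin_of_comp_compl_isFin {C : D} {φ : C ⟶ ∐ X} {F : Finset κ}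
    (h : IsFin X (φ ≫ compl X F)) : IsFin X φ := by
  have : φ = φ ≫ compl X F + ∑ k ∈ F, (φ ≫ sigmaπ X k) ≫ Sigma.ι X k := by
    unfold compl
    rw [Preadditive.comp_sub, Category.comp_id, Preadditive.comp_sum]
    simp only [Category.assoc]
    abel
  rw [this]
  exact h.add (isFin_sum _ _ (fun k _ => isFin_comp_ι k _))

end Proj

section Compact

open Classical in
lemma homSumToHomCoprod_of (K : D) {κ : Type v} (X : κ → D) [HasCoproduct X] (k : κ)
    (g : K ⟶ X k) :
    homSumToHomCoprod K X (DirectSum.of (fun k => K ⟶ X k) k g) = g ≫ Sigma.ι X k := by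
  unfold homSumToHomCoprod
  rw [DirectSum.toAddMonoid_of]
  rfl

lemma homSumToHomCoprod_comp_sigmaπ (C : D) {κ : Type v} (X : κ → D) [HasCoproduct X]
    (x : DirectSum κ fun k => C ⟶ X k) (j : κ) :
    homSumToHomCoprod C X x ≫ sigmaπ X j = x j := by
  classical
  induction x using DirectSum.induction_on with
  | zero => simp
  | of k g =>
    rw [homSumToHomCoprod_of, Category.assoc]
    by_cases h : k = j
    · subst h
      rw [ι_sigmaπ_self, Category.comp_id, DirectSum.of_eq_same]
    · rw [ι_sigmaπ_of_ne X h, comp_zero, DirectSum.of_eq_of_ne _ _ _ (Ne.symm h)]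
  | add x y hx hy => rw [map_add, Preadditive.add_comp, hx, hy, DirectSum.add_apply]

variable [HasCoproducts.{v} D]

lemma isFin_of_isCompactObject {C : D} (hC : IsCompactObject C) {κ : Type v} (X : κ → D)
    (φ : C ⟶ ∐ X) : IsFin X φ := by
  classical
  obtain ⟨x, rfl⟩ := (hC κ X).2 φ
  induction x using DirectSum.induction_on with
  | zero => rw [map_zero]; exact zero_mem _
  | of k g => rw [homSumToHomCoprod_of]; exact isFin_comp_ι k g
  | add x y hx hy => rw [map_add]; exact hx.add hy

lemma isCompactObject_of_isFin {C : D}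
    (h : ∀ (κ : Type v) (X : κ → D) (φ : C ⟶ ∐ X), IsFin X φ) : IsCompactObject C := by
  classical
  intro κ X
  constructor
  · rw [injective_iff_map_eq_zero]
    intro x hx
    refine DFinsupp.ext (fun j => ?_)
    rw [← homSumToHomCoprod_comp_sigmaπ, hx, zero_comp]
    rfl
  · intro φ
    have hle : AddSubgroup.closure
        {ψ : C ⟶ ∐ X | ∃ (k : κ) (g : C ⟶ X k), ψ = g ≫ Sigma.ι X k} ≤
        (homSumToHomCoprod C X).range := by
      rw [AddSubgroup.closure_le]
      rintro _ ⟨k, g, rfl⟩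
      exact ⟨DirectSum.of _ k g, homSumToHomCoprod_of C X k g⟩
    exact hle (h κ X φ)

/-- A map from a compact object to the image of a coproduct under a coproduct-preserving functor
is a finite sum of maps through the summands. -/
lemma exists_finset_sum {C : D} (hC : IsCompactObject C) {κ : Type v} (Y : κ → D)
    (G : D ⥤ D) [PreservesColimit (Discrete.functor Y) G] (φ : C ⟶ G.obj (∐ Y)) :
    ∃ (F : Finset κ) (g : ∀ k, C ⟶ G.obj (Y k)), φ = ∑ k ∈ F, g k ≫ G.map (Sigma.ι Y k) := by
  obtain ⟨ψ, rfl⟩ : ∃ ψ : C ⟶ ∐ (fun k => G.obj (Y k)), φ = ψ ≫ sigmaComparison G Y :=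
    ⟨φ ≫ inv (sigmaComparison G Y), by simp⟩
  obtain ⟨F, hF⟩ := (isFin_of_isCompactObject hC (fun k => G.obj (Y k)) ψ).exists_finset
  refine ⟨F, fun k => ψ ≫ sigmaπ _ k, ?_⟩
  have h1 := eq_sum_of_comp_compl_eq_zero _ hF
  calc ψ ≫ sigmaComparison G Y
      = (∑ k ∈ F, (ψ ≫ sigmaπ _ k) ≫ Sigma.ι (fun k => G.obj (Y k)) k) ≫
          sigmaComparison G Y := by rw [← h1]
    _ = _ := by
      rw [Preadditive.sum_comp]
      refine Finset.sum_congr rfl (fun k _ => ?_)
      rw [Category.assoc, ι_comp_sigmaComparison]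

lemma isCompactObject_of_iso {C C₀ : D} (e : C ≅ C₀) (h : IsCompactObject C₀) :
    IsCompactObject C := by
  apply isCompactObject_of_isFin
  intro κ X φ
  have h1 := (isFin_of_isCompactObject h X (e.inv ≫ φ)).precomp e.hom
  rwa [e.hom_inv_id_assoc] at h1

/-- Compactness is reflected by fully faithful additive functors preserving coproducts. -/
lemma isCompactObject_of_fullyFaithful (G : D ⥤ D) [G.Additive] [G.Full] [G.Faithful]
    [PreservesColimitsOfSize.{v, v} G] {C : D} (h : IsCompactObject (G.obj C)) :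
    IsCompactObject C := by
  apply isCompactObject_of_isFin
  intro κ X φ
  obtain ⟨F, g, hg⟩ := exists_finset_sum h X G (G.map φ)
  have : φ = ∑ k ∈ F, G.preimage (g k) ≫ Sigma.ι X k := by
    apply G.map_injective
    rw [hg, G.map_sum]
    refine Finset.sum_congr rfl (fun k _ => ?_)
    rw [G.map_comp, G.map_preimage]
  rw [this]
  exact isFin_sum _ _ (fun k _ => isFin_comp_ι k _)

variable [HasZeroObject D]

lemma isCompactObject_of_isZero {C : D} (hC : IsZero C) : IsCompactObject C := by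
  apply isCompactObject_of_isFin
  intro κ X φ
  rw [hC.eq_of_src φ 0]
  exact zero_mem _

variable [HasShift D ℤ] [∀ n : ℤ, (shiftFunctor D n).Additive] [Pretriangulated D]

lemma isCompactObject_shift {C : D} (hC : IsCompactObject C) (n : ℤ) :
    IsCompactObject ((shiftFunctor D n).obj C) := by
  apply isCompactObject_of_fullyFaithful (shiftFunctor D (-n))
  exact isCompactObject_of_iso ((shiftFunctorCompIsoId D n (-n) (by simp)).app C) hC

/-- Compact objects are closed under extensions. -/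
lemma isCompactObject_ext₂ (T : Triangle D) (hT : T ∈ distTriang D)
    (h₁ : IsCompactObject T.obj₁) (h₃ : IsCompactObject T.obj₃) : IsCompactObject T.obj₂ := by
  apply isCompactObject_of_isFin
  intro κ X φ
  obtain ⟨F, hF⟩ := (isFin_of_isCompactObject h₁ X (T.mor₁ ≫ φ)).exists_finset
  rw [Category.assoc] at hF
  obtain ⟨ψ, hψ⟩ := Triangle.yoneda_exact₂ T hT (φ ≫ compl X F) hF
  apply isFin_of_comp_compl_isFin (F := F)
  rw [hψ]
  exact (isFin_of_isCompactObject h₃ X ψ).precomp T.mor₂

lemma isCompactObject_biprod {A B : D} (hA : IsCompactObject A) (hB : IsCompactObject B) :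
    IsCompactObject (A ⊞ B) :=
  isCompactObject_ext₂ _ (binaryBiproductTriangle_distinguished A B) hA hB

end Compact

end Groth.Agent.Lib.Helper2.CompactEnv
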