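import Mathlib

/-!
# Cancelling a faithfully flat map on the right of a flat composite

If `R → S → T` with `T` faithfully flat over `S` and `T` flat over `R`, then `S` is flat over `R`.
-/

universe u

namespace Groth.Agent.Lib.Helper2

open TensorProduct

theorem flat_of_flat_of_faithfullyFlat (R S T : Type*) [CommRing R] [CommRing S] [CommRing T]
    [Algebra R S] [Algebra S T] [Algebra R T] [IsScalarTower R S T]
    [Module.FaithfullyFlat S T] [Module.Flat R T] : Module.Flat R S := by
  rw [Module.Flat.iff_lTensor_preserves_injective_linearMap]
  intro N P _ _ _ _ f hf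
  have h1 : Function.Injective (f.lTensor T) :=
    Module.Flat.lTensor_preserves_injective_linearMap f hf
  have hc : ∀ x : T ⊗[S] (S ⊗[R] N),
      AlgebraTensorModule.cancelBaseChange R S S T P ((f.baseChange S).lTensor T x) =
        f.lTensor T (AlgebraTensorModule.cancelBaseChange R S S T N x) := by
    intro x
    induction x using TensorProduct.induction_on with
    | zero => simp
    | tmul t y =>
      induction y using TensorProduct.induction_on with
      | zero => simp
      | tmul s n => simp
      | add y₁ y₂ h₁ h₂ => simp only [tmul_add, map_add, h₁, h₂]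
    | add x₁ x₂ h₁ h₂ => simp only [map_add, h₁, h₂]
  have h2 : Function.Injective ((f.baseChange S).lTensor T) := by
    intro x y hxy
    apply (AlgebraTensorModule.cancelBaseChange R S S T N).injective
    apply h1
    rw [← hc, ← hc, hxy]
  have h3 : Function.Injective (f.baseChange S) :=
    (Module.FaithfullyFlat.lTensor_injective_iff_injective S T _).1 h2
  intro x y hxy
  exact h3 hxy

theorem _root_.RingHom.Flat.of_comp_of_faithfullyFlat {R S T : Type*} [CommRing R] [CommRing S]
    [CommRing T] (f : R →+* S) (g : S →+* T) (hg : g.FaithfullyFlat) (h : (g.comp f).Flat) :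
    f.Flat := by
  algebraize [f, g, g.comp f]
  exact flat_of_flat_of_faithfullyFlat R S T

/-- If `A → B → C → D` with `D` faithfully flat over `B` and `C` flat over `A`, then `B` is flat
over `A` (flatness descends along the pure map `B → C`). -/
theorem flat_of_flat_of_factor (A B C D : Type*) [CommRing A] [CommRing B] [CommRing C]
    [CommRing D] [Algebra A B] [Algebra B C] [Algebra A C] [Algebra B D] [Algebra C D]
    [Algebra A D] [IsScalarTower A B C] [IsScalarTower B C D] [IsScalarTower A B D]
    [IsScalarTower A C D]
    [Module.FaithfullyFlat B D] [Module.Flat A C] : Module.Flat A B := by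
  rw [Module.Flat.iff_lTensor_preserves_injective_linearMap]
  intro N' N _ _ _ _ f hf
  have hC : Function.Injective (f.lTensor C) :=
    Module.Flat.lTensor_preserves_injective_linearMap f hf
  let ψBC : ∀ (M : Type _) [AddCommGroup M] [Module A M], B ⊗[A] M →ₗ[A] C ⊗[A] M :=
    fun M _ _ => (IsScalarTower.toAlgHom A B C).toLinearMap.rTensor M
  let ψCD : ∀ (M : Type _) [AddCommGroup M] [Module A M], C ⊗[A] M →ₗ[A] D ⊗[A] M :=
    fun M _ _ => (IsScalarTower.toAlgHom A C D).toLinearMap.rTensor M
  -- the composite `B ⊗ N' → D ⊗ N'` is injective
  have hBD : Function.Injective (fun x => ψCD N' (ψBC N' x)) := by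
    have hmk : Function.Injective (TensorProduct.mk B D (B ⊗[A] N') 1) :=
      Module.FaithfullyFlat.tensorProduct_mk_injective (A := B) (B := D) (B ⊗[A] N')
    have hcomp : ∀ x : B ⊗[A] N', ψCD N' (ψBC N' x) =
        AlgebraTensorModule.cancelBaseChange A B B D N' (TensorProduct.mk B D (B ⊗[A] N') 1 x) := by
      intro x
      induction x using TensorProduct.induction_on with
      | zero => simp
      | tmul b n =>
        simp only [ψCD, ψBC, LinearMap.rTensor_tmul, AlgHom.toLinearMap_apply,
          IsScalarTower.coe_toAlgHom', TensorProduct.mk_apply,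
          AlgebraTensorModule.cancelBaseChange_tmul]
        rw [← IsScalarTower.algebraMap_apply B C D, Algebra.smul_def, mul_one]
      | add x y hx hy => simp only [map_add, hx, hy]
    intro x y hxy
    apply hmk
    apply (AlgebraTensorModule.cancelBaseChange A B B D N').injective
    rw [← hcomp, ← hcomp]
    exact hxy
  have hBC : Function.Injective (ψBC N') := fun x y hxy => hBD (by simp only [hxy])
  have hnat : ∀ x : B ⊗[A] N', ψBC N (f.lTensor B x) = f.lTensor C (ψBC N' x) := by
    intro x
    induction x using TensorProduct.induction_on with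
    | zero => simp
    | tmul b n => simp [ψBC]
    | add x y hx hy => simp only [map_add, hx, hy]
  intro x y hxy
  apply hBC
  apply hC
  rw [← hnat, ← hnat, hxy]

theorem _root_.RingHom.Flat.of_comp_of_comp_faithfullyFlat {A B C D : Type*} [CommRing A]
    [CommRing B] [CommRing C] [CommRing D] (a : A →+* B) (b : B →+* C) (c : C →+* D)
    (h1 : (b.comp a).Flat) (h2 : (c.comp b).FaithfullyFlat) : a.Flat := by
  algebraize [a, b, c, b.comp a, c.comp b, c.comp (b.comp a)]
  have : IsScalarTower A B D := IsScalarTower.of_algebraMap_eq' rfl
  exact flat_of_flat_of_factor A B C D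

end Groth.Agent.Lib.Helper2
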