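import Groth.Agent.Lib.Helper6.DeltaUniv
import Groth.Agent.Lib.Helper10.DerLES

/-!
# δ-functor toolkit (helper2)

* `rdDelta F`: the right derived functors of `F` as a `DeltaF.CohDeltaFunctor` (connecting maps from helper10).
* `postcomp T G`, `precomp G T`: composition of a δ-functor with an exact functor.
* `nonempty_iso_of_isUniversal`: two universal δ-functors with isomorphic degree `0` parts are isomorphic in each degree.
* `nonempty_iso_of_isEffaceable`: same for effaceable ones (helper6's `isUniversal_of_isEffaceable`).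
-/

set_option autoImplicit false
universe v v' v'' u u' u''

namespace Groth.Agent.Lib.Helper2.DeltaIso

open CategoryTheory CategoryTheory.Limits DeltaF

variable {A : Type u} [Category.{v} A] [Abelian A] {B : Type u'} [Category.{v'} B] [Abelian B]

/-- the right derived functors as a δ-functor. -/
noncomputable def rdDelta [HasInjectiveResolutions A] (F : A ⥤ B) [F.Additive] :
    CohDeltaFunctor A B ℕ where
  F n := F.rightDerived n
  additive n := inferInstance
  δ := (H10SES.derivedLES F).δ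
  δ_natural := (H10SES.derivedLES F).δ_natural
  exact₂ := (H10SES.derivedLES F).exact₂
  comp_δ := (H10SES.derivedLES F).comp_δ
  exact₃ := (H10SES.derivedLES F).exact₃
  δ_comp := (H10SES.derivedLES F).δ_comp
  exact₁ := (H10SES.derivedLES F).exact₁

section Post

variable {B' : Type u''} [Category.{v''} B'] [Abelian B']
  (T : CohDeltaFunctor A B ℕ) (G : B ⥤ B') [G.Additive] [PreservesFiniteLimits G]
  [PreservesFiniteColimits G]

/-- post-composition of a δ-functor with an exact functor. -/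
noncomputable def postcomp : CohDeltaFunctor A B' ℕ where
  F n := T.F n ⋙ G
  additive n := inferInstance
  δ S hS n₀ n₁ h := G.map (T.δ S hS n₀ n₁ h)
  δ_natural hS hS' φ n₀ n₁ h := by
    dsimp only [Functor.comp_map]
    rw [← G.map_comp, ← G.map_comp, T.δ_natural hS hS' φ n₀ n₁ h]
  exact₂ S hS n := (T.exact₂ S hS n).map G
  comp_δ S hS n₀ n₁ h := by
    dsimp only [Functor.comp_map]
    rw [← G.map_comp, T.comp_δ, G.map_zero]
  exact₃ S hS n₀ n₁ h := (T.exact₃ S hS n₀ n₁ h).map G
  δ_comp S hS n₀ n₁ h := by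
    dsimp only [Functor.comp_map]
    rw [← G.map_comp, T.δ_comp, G.map_zero]
  exact₁ S hS n₀ n₁ h := (T.exact₁ S hS n₀ n₁ h).map G

end Post

section Pre

variable {A' : Type u''} [Category.{v''} A'] [Abelian A']
  (G : A' ⥤ A) [G.Additive] [PreservesFiniteLimits G] [PreservesFiniteColimits G]
  (T : CohDeltaFunctor A B ℕ)

/-- pre-composition of a δ-functor with an exact functor. -/
noncomputable def precomp : CohDeltaFunctor A' B ℕ where
  F n := G ⋙ T.F n
  additive n := inferInstance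
  δ S hS n₀ n₁ h := T.δ (S.map G) (hS.map_of_exact G) n₀ n₁ h
  δ_natural hS hS' φ n₀ n₁ h :=
    T.δ_natural (hS.map_of_exact G) (hS'.map_of_exact G) (G.mapShortComplex.map φ) n₀ n₁ h
  exact₂ S hS n := T.exact₂ (S.map G) (hS.map_of_exact G) n
  comp_δ S hS n₀ n₁ h := T.comp_δ (S.map G) (hS.map_of_exact G) n₀ n₁ h
  exact₃ S hS n₀ n₁ h := T.exact₃ (S.map G) (hS.map_of_exact G) n₀ n₁ h
  δ_comp S hS n₀ n₁ h := T.δ_comp (S.map G) (hS.map_of_exact G) n₀ n₁ h
  exact₁ S hS n₀ n₁ h := T.exact₁ (S.map G) (hS.map_of_exact G) n₀ n₁ h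

end Pre

theorem nonempty_iso_of_isUniversal {T S : CohDeltaFunctor A B ℕ} (hT : T.IsUniversal)
    (hS : S.IsUniversal) (e : T.F 0 ≅ S.F 0) (n : ℕ) : Nonempty (T.F n ≅ S.F n) := by
  obtain ⟨τ, hτ, -⟩ := hT S e.hom
  obtain ⟨σ, hσ, -⟩ := hS T e.inv
  have h1 : τ ≫ σ = 𝟙 T := by
    refine (hT T (𝟙 _)).unique ?_ rfl
    rw [CohDeltaFunctor.comp_app, hτ, hσ, e.hom_inv_id]
  have h2 : σ ≫ τ = 𝟙 S := by
    refine (hS S (𝟙 _)).unique ?_ rfl
    rw [CohDeltaFunctor.comp_app, hτ, hσ, e.inv_hom_id]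
  refine ⟨⟨τ.app n, σ.app n, ?_, ?_⟩⟩
  · rw [← CohDeltaFunctor.comp_app, h1]; rfl
  · rw [← CohDeltaFunctor.comp_app, h2]; rfl

theorem nonempty_iso_of_isEffaceable {T S : CohDeltaFunctor A B ℕ} (hT : T.IsEffaceable)
    (hS : S.IsEffaceable) (e : T.F 0 ≅ S.F 0) (n : ℕ) : Nonempty (T.F n ≅ S.F n) :=
  nonempty_iso_of_isUniversal (Groth.Agent.Lib.Helper6.DeltaUniv.isUniversal_of_isEffaceable T hT)
    (Groth.Agent.Lib.Helper6.DeltaUniv.isUniversal_of_isEffaceable S hS) e n

/-- effaceability from vanishing on injectives. -/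
theorem isEffaceable_of_isZero_injective [EnoughInjectives A] (T : CohDeltaFunctor A B ℕ)
    (h : ∀ (I : A), Injective I → ∀ n : ℕ, IsZero ((T.F (n + 1)).obj I)) : T.IsEffaceable := by
  intro n X
  exact ⟨Injective.under X, Injective.ι X, inferInstance,
    (h (Injective.under X) inferInstance n).eq_of_tgt _ _⟩

end Groth.Agent.Lib.Helper2.DeltaIso
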