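import Mathlib.Topology.KrullDimension
import Mathlib.Topology.Sober

/-!
# Krull dimension and maps with "specialization-discrete" fibres

* `topologicalKrullDim_le_of_fiberwise`: a continuous map from a quasi-sober space to a T0 space
  which identifies no two points related by specialization does not lower dimension.
* `topologicalKrullDim_le_of_generalizing`: a continuous surjective generalizing map onto a
  quasi-sober space does not raise dimension.
-/

set_option autoImplicit false

open TopologicalSpace Order Topology

namespace Groth.Agent.Lib.Helper2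

variable {X Y : Type*} [TopologicalSpace X] [TopologicalSpace Y]

/-- closure of the image of an irreducible closed set -/
def irrMap (φ : X → Y) (hc : Continuous φ) (Z : IrreducibleCloseds X) : IrreducibleCloseds Y :=
  ⟨closure (φ '' (Z : Set X)), (Z.isIrreducible.image φ hc.continuousOn).closure, isClosed_closure⟩

theorem irrMap_eq_closure_singleton (φ : X → Y) (hc : Continuous φ) (Z : IrreducibleCloseds X)
    {ξ : X} (hξ : IsGenericPoint ξ (Z : Set X)) :
    (irrMap φ hc Z : Set Y) = closure {φ ξ} := by
  show closure (φ '' (Z : Set X)) = closure {φ ξ}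
  apply subset_antisymm
  · apply closure_minimal _ isClosed_closure
    rw [← hξ.def]
    refine (image_closure_subset_closure_image hc).trans ?_
    rw [Set.image_singleton]
  · apply closure_mono
    rw [Set.singleton_subset_iff]
    exact ⟨ξ, hξ.mem, rfl⟩

theorem topologicalKrullDim_le_of_fiberwise [QuasiSober X] [T0Space Y] (φ : X → Y)
    (hc : Continuous φ) (hfib : ∀ x x' : X, x ⤳ x' → φ x = φ x' → x = x') :
    topologicalKrullDim X ≤ topologicalKrullDim Y := by
  unfold topologicalKrullDim
  apply Order.krullDim_le_of_strictMono (irrMap φ hc)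
  intro Z₁ Z₂ h
  refine lt_of_le_of_ne ?_ ?_
  · show closure (φ '' (Z₁ : Set X)) ⊆ closure (φ '' (Z₂ : Set X))
    exact closure_mono (Set.image_mono (SetLike.coe_subset_coe.2 h.le))
  · intro heq
    obtain ⟨ξ₁, hξ₁⟩ := QuasiSober.sober Z₁.isIrreducible Z₁.isClosed
    obtain ⟨ξ₂, hξ₂⟩ := QuasiSober.sober Z₂.isIrreducible Z₂.isClosed
    have h1 : closure {φ ξ₁} = closure {φ ξ₂} := by
      rw [← irrMap_eq_closure_singleton φ hc Z₁ hξ₁, ← irrMap_eq_closure_singleton φ hc Z₂ hξ₂, heq]
    have h2 : φ ξ₁ = φ ξ₂ := by
      have : Inseparable (φ ξ₁) (φ ξ₂) := inseparable_iff_closure_eq.2 h1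
      exact this.eq
    have h3 : ξ₂ ⤳ ξ₁ := by
      rw [specializes_iff_mem_closure, hξ₂.def]
      exact SetLike.coe_subset_coe.2 h.le hξ₁.mem
    have h4 : ξ₂ = ξ₁ := hfib ξ₂ ξ₁ h3 h2.symm
    apply h.ne
    apply IrreducibleCloseds.ext
    rw [← hξ₁.def, ← hξ₂.def, h4]

/-- lifting chains along a generalizing map -/
theorem exists_ltSeries_of_generalizing [QuasiSober Y] (φ : X → Y) (hc : Continuous φ)
    (hgen : GeneralizingMap φ) :
    ∀ (n : ℕ) (p : LTSeries (IrreducibleCloseds Y)), p.length = n →
      ∀ x : X, IsGenericPoint (φ x) (p.head : Set Y) →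
      ∃ q : LTSeries (IrreducibleCloseds X), q.length = n ∧
        (q.head : Set X) = closure {x} := by
  intro n
  induction n with
  | zero =>
    intro p hp x hx
    exact ⟨RelSeries.singleton _ ⟨closure {x}, isIrreducible_singleton.closure, isClosed_closure⟩,
      rfl, rfl⟩
  | succ n ih =>
    intro p hp x hx
    have hlen : p.length ≠ 0 := by omega
    obtain ⟨y₁, hy₁⟩ := QuasiSober.sober (p.tail hlen).head.isIrreducible (p.tail hlen).head.isClosed
    have hlt : p.head < (p.tail hlen).head := by
      rw [RelSeries.head_tail]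
      apply p.strictMono
      rw [Fin.lt_def]
      simp only [Fin.val_zero]
      rw [Fin.val_one']
      have : 1 % (p.length + 1) = 1 := Nat.mod_eq_of_lt (by omega)
      omega
    have hspec : y₁ ⤳ φ x := by
      rw [specializes_iff_mem_closure, hy₁.def]
      exact SetLike.coe_subset_coe.2 hlt.le hx.mem
    obtain ⟨x₁, hx₁, hφx₁⟩ := hgen hspec
    have hy₁' : IsGenericPoint (φ x₁) ((p.tail hlen).head : Set Y) := by rw [hφx₁]; exact hy₁
    obtain ⟨q', hq'len, hq'head⟩ := ih (p.tail hlen) (by simp [RelSeries.tail, hp]) x₁ hy₁'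
    let Zx : IrreducibleCloseds X := ⟨closure {x}, isIrreducible_singleton.closure, isClosed_closure⟩
    have hrel : Zx < q'.head := by
      refine lt_of_le_of_ne ?_ ?_
      · show (Zx : Set X) ⊆ (q'.head : Set X)
        rw [hq'head]
        exact specializes_iff_closure_subset.1 hx₁
      · intro heq
        have h1 : closure ({x} : Set X) = closure {x₁} := by
          rw [← hq'head, ← heq]
          rfl
        have h2 : x ⤳ x₁ := by
          rw [specializes_iff_closure_subset, h1]
        have h3 : φ x ⤳ φ x₁ := h2.map hc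
        have h4 : φ x₁ ∈ (p.head : Set Y) := by
          rw [← hx.def]
          exact specializes_iff_mem_closure.1 h3
        have h5 : ((p.tail hlen).head : Set Y) ⊆ (p.head : Set Y) := by
          rw [← hy₁'.def]
          exact closure_minimal (Set.singleton_subset_iff.2 h4) p.head.isClosed
        exact absurd (SetLike.coe_subset_coe.1 h5) (not_le_of_gt hlt)
    refine ⟨q'.cons Zx hrel, ?_, ?_⟩
    · simp [hq'len]
    · rfl

theorem topologicalKrullDim_le_of_generalizing [QuasiSober Y] (φ : X → Y) (hc : Continuous φ)
    (hsurj : Function.Surjective φ) (hgen : GeneralizingMap φ) :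
    topologicalKrullDim Y ≤ topologicalKrullDim X := by
  unfold topologicalKrullDim
  rw [Order.krullDim]
  apply iSup_le
  intro p
  obtain ⟨y, hy⟩ := QuasiSober.sober p.head.isIrreducible p.head.isClosed
  obtain ⟨x, rfl⟩ := hsurj y
  obtain ⟨q, hq, -⟩ := exists_ltSeries_of_generalizing φ hc hgen p.length p rfl x hy
  rw [← hq]
  exact Order.LTSeries.length_le_krullDim q

end Groth.Agent.Lib.Helper2
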