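import Groth.Agent.Lib.Helper2.GaloisHom

set_option autoImplicit false

namespace Groth.Agent.Lib.Helper2.GaloisHom

open CategoryTheory PreGaloisCategory Limits

universe u v w

section single

variable {C : Type u} [Category.{v} C] [GaloisCategory C] (F : C ⥤ FintypeCat.{w}) [FiberFunctor F]

/-- Connected objects with points having the same stabilizer are isomorphic. -/
lemma exists_iso_of_stabilizer_eq {Y Z : C} [IsConnected Y] [IsConnected Z] (b : F.obj Y)
    (c : F.obj Z) (h : MulAction.stabilizer (Aut F) b = MulAction.stabilizer (Aut F) c) :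
    ∃ e : Y ≅ Z, F.map e.hom b = c := by
  obtain ⟨q, hq⟩ := exists_hom_of_stabilizer_le F b c h.le
  obtain ⟨q', hq'⟩ := exists_hom_of_stabilizer_le F c b h.ge
  refine ⟨⟨q, q', ?_, ?_⟩, hq⟩
  · apply evaluation_injective_of_isConnected F Y Y b
    simp [hq, hq']
  · apply evaluation_injective_of_isConnected F Z Z c
    simp [hq, hq']

end single

section hom

variable {C C' : Type u} [Category.{v} C] [Category.{v} C']
  (H : C ⥤ C') (F' : C' ⥤ FintypeCat.{w})

lemma range_autWhisker_le_stabilizer_iff {X : C} (a : (H ⋙ F').obj X) :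
    (Pi1X.autWhisker H F').range ≤ MulAction.stabilizer (Aut (H ⋙ F')) a ↔
      ∀ σ : Aut F', σ.hom.app (H.obj X) a = a := by
  constructor
  · intro h σ
    exact h ⟨σ, rfl⟩
  · rintro h _ ⟨σ, rfl⟩
    exact h σ

lemma mem_ker_autWhisker_iff (σ : Aut F') :
    σ ∈ (Pi1X.autWhisker H F').ker ↔ ∀ (X : C) (x : F'.obj (H.obj X)), σ.hom.app (H.obj X) x = x := by
  rw [MonoidHom.mem_ker]
  constructor
  · intro h X x
    have := congrArg (fun τ : Aut (H ⋙ F') => τ.hom.app X x) h
    exact this
  · intro h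
    ext X x
    exact h X x

variable [GaloisCategory C] [GaloisCategory C'] [FiberFunctor F'] [FiberFunctor (H ⋙ F')]

omit [GaloisCategory C] [FiberFunctor (H ⋙ F')] in
/-- If a connected subobject of some `H X` maps to `X'`, the kernel of the induced map of
fundamental groups fixes every point of the fibre of the connected object `X'`. -/
lemma ker_autWhisker_le_stabilizer_of_mono {X : C} {Y' X' : C'} [IsConnected X']
    (i : Y' ⟶ H.obj X) [Mono i] (q : Y' ⟶ X') [Nonempty (F'.obj Y')] (a' : F'.obj X') :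
    (Pi1X.autWhisker H F').ker ≤ MulAction.stabilizer (Aut F') a' := by
  intro σ hσ
  rw [mem_ker_autWhisker_iff] at hσ
  obtain ⟨y, rfl⟩ := surjective_of_nonempty_fiber_of_isConnected F' q a'
  rw [MulAction.mem_stabilizer_iff, mulAction_naturality]
  congr 1
  apply map_injective_of_mono F' i
  rw [← mulAction_naturality]
  exact hσ X _

/-- If the kernel of the induced map of fundamental groups fixes a point `a'`, some connected
subobject of some `H X` maps to `X'` (hitting `a'`). -/
lemma exists_mono_of_ker_autWhisker_le_stabilizer {X' : C'} (a' : F'.obj X')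
    (h : (Pi1X.autWhisker H F').ker ≤ MulAction.stabilizer (Aut F') a') :
    ∃ (X : C) (Y' : C') (i : Y' ⟶ H.obj X) (q : Y' ⟶ X'), Mono i ∧ IsConnected Y' ∧
      ∃ b : F'.obj Y', F'.map q b = a' := by
  let φ := Pi1X.autWhisker H F'
  have hφc : Continuous φ := continuous_autWhisker H F'
  let U' : Set (Aut F') := MulAction.stabilizer (Aut F') a'
  have hU' : IsOpen U' := stabilizer_isOpen (Aut F') a'
  let W : Set (Aut (H ⋙ F')) := (φ '' U'ᶜ)ᶜ
  have hW : IsOpen W := (hφc.isClosedMap _ hU'.isClosed_compl).isOpen_compl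
  have h1W : (1 : Aut (H ⋙ F')) ∈ W := by
    rintro ⟨x, hx, hx1⟩
    exact hx (h hx1)
  obtain ⟨A, -, hA⟩ := (nhds_one_has_basis_stabilizers (H ⋙ F')).mem_iff.mp (hW.mem_nhds h1W)
  have key : ∀ σ : Aut F', σ.hom.app (H.obj A.obj) A.pt = A.pt → σ ∈ U' := by
    intro σ hσ
    by_contra hn
    have : φ σ ∈ W := hA (show φ σ • A.pt = A.pt from hσ)
    exact this ⟨σ, hn, rfl⟩
  obtain ⟨Y', i, b, hb, hconn, hmono⟩ := fiber_in_connected_component F' (H.obj A.obj) A.pt
  have hle : MulAction.stabilizer (Aut F') b ≤ MulAction.stabilizer (Aut F') a' := by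
    intro σ hσ
    apply key σ
    rw [MulAction.mem_stabilizer_iff] at hσ
    have h3 : σ.hom.app (H.obj A.obj) (F'.map i b) = F'.map i b := by
      have : σ • F'.map i b = F'.map i b := by rw [mulAction_naturality, hσ]
      exact this
    rw [hb] at h3
    exact h3
  obtain ⟨q, hq⟩ := exists_hom_of_stabilizer_le F' b a' hle
  exact ⟨A.obj, Y', i, q, hmono, hconn, b, hq⟩

omit [GaloisCategory C'] [FiberFunctor F'] in
lemma normalClosure_range_autWhisker_le_stabilizer_iff {X : C} [IsConnected X] (a : (H ⋙ F').obj X) :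
    Subgroup.normalClosure ((Pi1X.autWhisker H F').range : Set (Aut (H ⋙ F'))) ≤
      MulAction.stabilizer (Aut (H ⋙ F')) a ↔
    ∀ (σ : Aut F') (x : F'.obj (H.obj X)), σ • x = x := by
  constructor
  · intro h σ x
    obtain ⟨g, hg⟩ := MulAction.exists_smul_eq (Aut (H ⋙ F')) a (x : (H ⋙ F').obj X)
    have hmem : g⁻¹ * Pi1X.autWhisker H F' σ * g⁻¹⁻¹ ∈
        Subgroup.normalClosure ((Pi1X.autWhisker H F').range : Set (Aut (H ⋙ F'))) :=
      Subgroup.normalClosure_normal.conj_mem _
        (Subgroup.subset_normalClosure (show Pi1X.autWhisker H F' σ ∈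
          ((Pi1X.autWhisker H F').range : Set (Aut (H ⋙ F'))) from ⟨σ, rfl⟩)) g⁻¹
    have h2 := h hmem
    rw [MulAction.mem_stabilizer_iff, inv_inv, mul_smul, mul_smul, inv_smul_eq_iff, hg] at h2
    exact h2
  · intro h
    rw [Subgroup.normalClosure, Subgroup.closure_le]
    intro g hg
    rw [Group.mem_conjugatesOfSet_iff] at hg
    obtain ⟨_, ⟨σ, rfl⟩, hconj⟩ := hg
    obtain ⟨c, rfl⟩ := isConj_iff.mp hconj
    change _ • a = a
    rw [mul_smul, mul_smul]
    have : Pi1X.autWhisker H F' σ • (c⁻¹ • a) = c⁻¹ • a := h σ _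
    rw [this, smul_inv_smul]

end hom

section hom2

variable {C C' : Type u} [Category.{v} C] [Category.{v} C']
  (H : C ⥤ C') (F' : C' ⥤ FintypeCat.{w})

lemma isClosed_ker_autWhisker [GaloisCategory C] [FiberFunctor (H ⋙ F')] :
    IsClosed ((Pi1X.autWhisker H F').ker : Set (Aut F')) := by
  have : ((Pi1X.autWhisker H F').ker : Set (Aut F')) = (Pi1X.autWhisker H F') ⁻¹' {1} := by
    ext σ; simp [MonoidHom.mem_ker]
  rw [this]
  exact isClosed_singleton.preimage (continuous_autWhisker H F')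

variable [GaloisCategory C] [GaloisCategory C'] [FiberFunctor F'] [FiberFunctor (H ⋙ F')]

/-- If the map of fundamental groups is surjective, a connected object whose point stabilizer
contains the kernel lies in the essential image. -/
lemma exists_iso_of_ker_le_of_surjective (hsurj : Function.Surjective (Pi1X.autWhisker H F'))
    {Z' : C'} [IsConnected Z'] (z : F'.obj Z')
    (hk : (Pi1X.autWhisker H F').ker ≤ MulAction.stabilizer (Aut F') z) :
    ∃ X : C, Nonempty (H.obj X ≅ Z') := by
  let φ := Pi1X.autWhisker H F'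
  have hφc : Continuous φ := continuous_autWhisker H F'
  let U' : Subgroup (Aut F') := MulAction.stabilizer (Aut F') z
  have hU' : IsOpen (U' : Set (Aut F')) := stabilizer_isOpen (Aut F') z
  let U : Subgroup (Aut (H ⋙ F')) := U'.map φ
  have hmem : ∀ σ : Aut F', φ σ ∈ U ↔ σ ∈ U' := by
    intro σ
    constructor
    · rintro ⟨u, hu, hφu⟩
      have h1 : u⁻¹ * σ ∈ φ.ker := by
        rw [MonoidHom.mem_ker, map_mul, map_inv, hφu, inv_mul_cancel]
      have h2 : u⁻¹ * σ ∈ U' := hk h1
      have h3 : u * (u⁻¹ * σ) ∈ U' := U'.mul_mem hu h2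
      rwa [mul_inv_cancel_left] at h3
    · intro hσ
      exact ⟨σ, hσ, rfl⟩
  have hUset : (U : Set (Aut (H ⋙ F'))) = (φ '' (U' : Set (Aut F'))ᶜ)ᶜ := by
    ext y
    obtain ⟨σ, rfl⟩ := hsurj y
    constructor
    · intro hy
      rintro ⟨x, hx, hxy⟩
      have : φ x ∈ U := hxy ▸ hy
      exact hx ((hmem x).mp this)
    · intro hy
      by_contra hn
      exact hy ⟨σ, fun h => hn ((hmem σ).mpr h), rfl⟩
  have hUo : IsOpen (U : Set (Aut (H ⋙ F'))) := by
    rw [hUset]
    exact (hφc.isClosedMap _ hU'.isClosed_compl).isOpen_compl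
  obtain ⟨X, hX, a, ha⟩ := exists_isConnected_stabilizer_eq (H ⋙ F') U hUo
  have hne : Nonempty (F'.obj (H.obj X)) := ⟨a⟩
  have htrans : MulAction.IsPretransitive (Aut F') (F'.obj (H.obj X)) := by
    refine ⟨fun x y => ?_⟩
    obtain ⟨g, hg⟩ := @MulAction.exists_smul_eq (Aut (H ⋙ F')) ((H ⋙ F').obj X) _ _ x y
    obtain ⟨σ, rfl⟩ := hsurj g
    exact ⟨σ, hg⟩
  have hconn : IsConnected (H.obj X) := isConnected_of_isPretransitive F' (H.obj X)
  let a₀ : F'.obj (H.obj X) := a
  have hstab : MulAction.stabilizer (Aut F') a₀ = MulAction.stabilizer (Aut F') z := by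
    ext σ
    rw [← hmem σ, ← ha]
    exact Iff.rfl
  obtain ⟨e, -⟩ := exists_iso_of_stabilizer_eq F' (Y := H.obj X) (Z := Z') a₀ z hstab
  exact ⟨X, ⟨e⟩⟩

end hom2

section hom3

variable {C C' : Type u} [Category.{v} C] [Category.{v} C']
  (H : C ⥤ C') (F' : C' ⥤ FintypeCat.{w})
variable [GaloisCategory C] [GaloisCategory C'] [FiberFunctor F'] [FiberFunctor (H ⋙ F')]

/-- If the map of fundamental groups is surjective and `H` preserves finite coproducts, an object
on whose fibre the kernel acts trivially lies in the essential image. -/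
lemma exists_iso_of_ker_trivial_of_surjective [PreservesFiniteColimits H]
    (hsurj : Function.Surjective (Pi1X.autWhisker H F')) {X' : C'}
    (hk : ∀ σ ∈ (Pi1X.autWhisker H F').ker, ∀ x : F'.obj X', σ • x = x) :
    ∃ X : C, Nonempty (H.obj X ≅ X') := by
  obtain ⟨ι, f, g, hl, hc, hfin⟩ := has_decomp_connected_components X'
  have hmono : ∀ i, Mono (g i) := fun i => MonoCoprod.mono_inj f (Cofan.mk X' g) hl i
  have hex : ∀ i, ∃ X : C, Nonempty (H.obj X ≅ f i) := by
    intro i
    have := hc i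
    have := hmono i
    obtain ⟨z⟩ := nonempty_fiber_of_isConnected F' (f i)
    apply exists_iso_of_ker_le_of_surjective H F' hsurj z
    intro σ hσ
    rw [MulAction.mem_stabilizer_iff]
    apply map_injective_of_mono F' (g i)
    rw [← mulAction_naturality]
    exact hk σ hσ _
  choose Xi hXi using hex
  let e1 : H.obj (∐ Xi) ≅ ∐ fun i => H.obj (Xi i) := PreservesCoproduct.iso H Xi
  let e2 : (∐ fun i => H.obj (Xi i)) ≅ ∐ f := Sigma.mapIso (fun i => (hXi i).some)
  let e3 : ∐ f ≅ X' := colimit.isoColimitCocone ⟨Cofan.mk X' g, hl⟩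
  exact ⟨∐ Xi, ⟨e1 ≪≫ e2 ≪≫ e3⟩⟩

end hom3


end Groth.Agent.Lib.Helper2.GaloisHom
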