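import Mathlib.Topology.Spectral.Basic
import Mathlib.Topology.Spectral.Hom
import Mathlib.Topology.Spectral.Prespectral
import Mathlib.Topology.QuasiSeparated
import Mathlib.Topology.Sober

/-!
# Helper lemmas on spectral spaces (helper2)
-/

namespace Groth.Agent.Lib.Helper2

open Topology Set

variable {X Y : Type*} [TopologicalSpace X] [TopologicalSpace Y]

/-- For a closed embedding `f : X → Y` into a prespectral space, every compact open of `X` is the
preimage of a compact open of `Y`. -/
theorem exists_compact_open_preimage_eq [PrespectralSpace Y] {f : X → Y}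
    (hf : IsClosedEmbedding f) {U : Set X} (hU : IsOpen U) (hUc : IsCompact U) :
    ∃ W : Set Y, IsCompact W ∧ IsOpen W ∧ f ⁻¹' W = U := by
  obtain ⟨U', hU', rfl⟩ := hf.isInducing.isOpen_iff.1 hU
  have hK : IsCompact (f '' (f ⁻¹' U')) := hUc.image hf.continuous
  have hKU : f '' (f ⁻¹' U') ⊆ U' := Set.image_preimage_subset f U'
  obtain ⟨W, hWc, hWo, hKW, hWU⟩ :=
    PrespectralSpace.exists_isCompact_and_isOpen_between hK hU' hKU
  refine ⟨W, hWc, hWo, Set.Subset.antisymm (Set.preimage_mono hWU) ?_⟩
  intro x hx
  exact hKW (Set.mem_image_of_mem f hx)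

/-- A closed subspace of a quasi-separated prespectral space is quasi-separated. -/
theorem quasiSeparatedSpace_of_isClosedEmbedding [PrespectralSpace Y] [QuasiSeparatedSpace Y]
    {f : X → Y} (hf : IsClosedEmbedding f) : QuasiSeparatedSpace X := by
  refine ⟨fun U V hU hUc hV hVc => ?_⟩
  obtain ⟨W₁, hW₁c, hW₁o, rfl⟩ := exists_compact_open_preimage_eq hf hU hUc
  obtain ⟨W₂, hW₂c, hW₂o, rfl⟩ := exists_compact_open_preimage_eq hf hV hVc
  rw [← Set.preimage_inter]
  exact hf.isCompact_preimage (QuasiSeparatedSpace.inter_isCompact W₁ W₂ hW₁o hW₁c hW₂o hW₂c)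

/-- A closed subspace of a spectral space is spectral. -/
theorem spectralSpace_of_isClosedEmbedding [SpectralSpace Y]
    {f : X → Y} (hf : IsClosedEmbedding f) : SpectralSpace X where
  __ := hf.isEmbedding.t0Space
  __ := hf.compactSpace
  __ := hf.quasiSober
  __ := quasiSeparatedSpace_of_isClosedEmbedding hf
  __ := PrespectralSpace.of_isClosedEmbedding f hf

end Groth.Agent.Lib.Helper2
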