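import Mathlib.Algebra.Homology.HomologySequenceLemmas

/-!
# Two-out-of-three for quasi-isomorphisms between short exact sequences of cochain complexes

`quasiIso_τ₁`: if `φ : S₁ ⟶ S₂` is a morphism of short exact sequences of cochain complexes
(indexed by `ℤ`) and `φ.τ₂`, `φ.τ₃` are quasi-isomorphisms, so is `φ.τ₁`.
-/

set_option autoImplicit false

open CategoryTheory Limits ComposableArrows

namespace Groth.Agent.Lib.Helper2

variable {C : Type*} [Category C] [Abelian C]
  {S₁ S₂ : ShortComplex (CochainComplex C ℤ)} (φ : S₁ ⟶ S₂)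
  (hS₁ : S₁.ShortExact) (hS₂ : S₂.ShortExact)

open HomologicalComplex HomologicalComplex.HomologySequence

include hS₁ hS₂ in
theorem quasiIso_τ₁ (h₂ : QuasiIso φ.τ₂) (h₃ : QuasiIso φ.τ₃) : QuasiIso φ.τ₁ := by
  rw [quasiIso_iff]
  intro j
  rw [quasiIsoAt_iff_isIso_homologyMap]
  have hij : (ComplexShape.up ℤ).Rel (j - 1) j := by simp
  have := Abelian.isIso_of_epi_of_isIso_of_isIso_of_mono
    (composableArrows₅_exact hS₁ (j - 1) j hij).δ₀
    (composableArrows₅_exact hS₂ (j - 1) j hij).δ₀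
    (δ₀Functor.map (mapComposableArrows₅ φ hS₁ hS₂ (j - 1) j hij))
    (inferInstanceAs (Epi (homologyMap φ.τ₂ (j - 1))))
    (inferInstanceAs (IsIso (homologyMap φ.τ₃ (j - 1))))
    (inferInstanceAs (IsIso (homologyMap φ.τ₂ j)))
    (inferInstanceAs (Mono (homologyMap φ.τ₃ j)))
  exact this

end Groth.Agent.Lib.Helper2
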