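import Mathlib.CategoryTheory.ObjectProperty.Local
import Mathlib.CategoryTheory.Localization.DerivabilityStructure.OfFunctorialResolutions
import Mathlib.CategoryTheory.Localization.DerivabilityStructure.Derives
import Mathlib.CategoryTheory.Functor.Derived.PointwiseRightDerived

/-!
# Deriving functors using resolutions by local objects

Let `W` be a class of morphisms in `C` (multiplicative, two-out-of-three) such that every object `X`
admits a morphism `X ⟶ Y` in `W` with `Y` a `W`-local object. Then every functor `F : C ⥤ H` has a
(pointwise) right derived functor with respect to `W`, and the unit is an isomorphism on local objects.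
-/

namespace Groth.Agent.Lib.Helper2

open CategoryTheory

universe v₁ v₂ v₃ u₁ u₂ u₃

variable {C : Type u₁} [Category.{v₁} C] (W : MorphismProperty C)
  (hres : ∀ X : C, ∃ (Y : C) (f : X ⟶ Y), W.isLocal Y ∧ W f)

/-- A `W`-morphism between `W`-local objects is an isomorphism. -/
lemma isIso_of_isLocal {X Y : C} (f : X ⟶ Y) (hf : W f) (hX : W.isLocal X) (hY : W.isLocal Y) :
    IsIso f := by
  obtain ⟨g, hg⟩ := (hX f hf).surjective (𝟙 X)
  replace hg : f ≫ g = 𝟙 X := hg
  refine ⟨g, hg, (hY f hf).injective ?_⟩
  rw [← Category.assoc, hg, Category.id_comp, Category.comp_id]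

namespace LocalRes

/-- chosen resolution object -/
noncomputable def obj (X : C) : C := (hres X).choose

/-- chosen resolution map -/
noncomputable def ι (X : C) : X ⟶ obj W hres X := (hres X).choose_spec.choose

lemma isLocal_obj (X : C) : W.isLocal (obj W hres X) := (hres X).choose_spec.choose_spec.1

lemma W_ι (X : C) : W (ι W hres X) := (hres X).choose_spec.choose_spec.2

/-- the induced map on resolutions -/
noncomputable def map {X Y : C} (φ : X ⟶ Y) : obj W hres X ⟶ obj W hres Y :=
  ((isLocal_obj W hres Y (ι W hres X) (W_ι W hres X)).surjective (φ ≫ ι W hres Y)).choose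

lemma ι_map {X Y : C} (φ : X ⟶ Y) : ι W hres X ≫ map W hres φ = φ ≫ ι W hres Y :=
  ((isLocal_obj W hres Y (ι W hres X) (W_ι W hres X)).surjective (φ ≫ ι W hres Y)).choose_spec

lemma map_unique {X Y : C} (φ : X ⟶ Y) (g : obj W hres X ⟶ obj W hres Y)
    (hg : ι W hres X ≫ g = φ ≫ ι W hres Y) : g = map W hres φ :=
  (isLocal_obj W hres Y (ι W hres X) (W_ι W hres X)).injective
    (by rw [hg, ι_map])

/-- The resolution functor to the full subcategory of local objects. -/
noncomputable def ρ : C ⥤ W.isLocal.FullSubcategory where
  obj X := ⟨obj W hres X, isLocal_obj W hres X⟩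
  map φ := ObjectProperty.homMk (map W hres φ)
  map_id X := by
    ext
    exact (map_unique W hres (𝟙 X) (𝟙 _) (by simp)).symm
  map_comp φ ψ := by
    ext
    refine (map_unique W hres (φ ≫ ψ) (map W hres φ ≫ map W hres ψ) ?_).symm
    rw [← Category.assoc, ι_map, Category.assoc, ι_map, Category.assoc]

/-- The natural transformation from the identity to the resolution functor. -/
noncomputable def i : 𝟭 C ⟶ ρ W hres ⋙ W.isLocal.ι where
  app X := ι W hres X
  naturality _ _ φ := (ι_map W hres φ).symm

/-- The localizer morphism given by the inclusion of local objects. -/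
def Φ : LocalizerMorphism (W.inverseImage W.isLocal.ι) W where
  functor := W.isLocal.ι
  map := le_rfl

variable [W.HasTwoOutOfThreeProperty] [W.IsMultiplicative]

include hres in
lemma isRightDerivabilityStructure : (Φ W).IsRightDerivabilityStructure := by
  have : (Φ W).functor.Full := inferInstanceAs W.isLocal.ι.Full
  have : (Φ W).functor.Faithful := inferInstanceAs W.isLocal.ι.Faithful
  exact (Φ W).isRightDerivabilityStructure_of_functorial_resolutions (ρ := ρ W hres) (i W hres)
    (W_ι W hres) rfl

variable {H : Type u₂} [Category.{v₂} H] (F : C ⥤ H)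

omit [W.HasTwoOutOfThreeProperty] [W.IsMultiplicative] in
lemma derives : (Φ W).Derives F := by
  intro X Y f hf
  have : IsIso f.hom := isIso_of_isLocal W f.hom hf X.property Y.property
  change IsIso (F.map f.hom)
  infer_instance

include hres in
lemma hasPointwiseRightDerivedFunctor : F.HasPointwiseRightDerivedFunctor W := by
  have := isRightDerivabilityStructure W hres
  exact (derives W F).hasPointwiseRightDerivedFunctor

include hres in
lemma hasRightDerivedFunctor : F.HasRightDerivedFunctor W := by
  have := hasPointwiseRightDerivedFunctor W hres F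
  infer_instance

include hres in
lemma isIso_unit_app {D : Type u₃} [Category.{v₃} D] (L : C ⥤ D) [L.IsLocalization W]
    {RF : D ⥤ H} (α : F ⟶ L ⋙ RF) [RF.IsRightDerivedFunctor α W] (X : C) (hX : W.isLocal X) :
    IsIso (α.app X) := by
  have := isRightDerivabilityStructure W hres
  exact (derives W F).isIso_of_isRightDerivedFunctor α ⟨X, hX⟩

end LocalRes

end Groth.Agent.Lib.Helper2
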