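import Groth.Agent.Lib.Helper2.RDBridge
import Mathlib.Algebra.Homology.HomologySequenceLemmas
import Mathlib.Algebra.Homology.Factorizations.CM5a
import Mathlib.Algebra.Homology.HomologicalComplexAbelian

/-!
# Leray's acyclicity lemma
-/

namespace Groth.Agent.Lib.Helper2.Leray

open CategoryTheory CategoryTheory.Limits HomologicalComplex
open Groth.Agent.Lib.Helper2.RDBridge

universe w w' v v' u u'

section General

variable {C : Type u} [Category.{v} C] [Abelian C]

lemma quasiIso_f_of_acyclic {S : ShortComplex (CochainComplex C ℤ)} (hS : S.ShortExact)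
    (h : S.X₃.Acyclic) : QuasiIso S.f := by
  rw [quasiIso_iff]
  intro n
  rw [quasiIsoAt_iff_isIso_homologyMap]
  have hz : ∀ m, IsZero (S.X₃.homology m) :=
    fun m => (S.X₃.exactAt_iff_isZero_homology m).1 (h m)
  haveI : Mono (homologyMap S.f n) :=
    (hS.homology_exact₁ (n - 1) n (by simp)).mono_g ((hz _).eq_of_src _ _)
  haveI : Epi (homologyMap S.f n) := (hS.homology_exact₂ n).epi_f ((hz _).eq_of_tgt _ _)
  exact isIso_of_mono_of_epi _

variable (M : CochainComplex C ℤ)

/-- The cycles, as a kernel. -/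
noncomputable abbrev Zc (n : ℤ) : C := kernel (M.d n (n + 1))

/-- The inclusion of cycles. -/
noncomputable abbrev ιc (n : ℤ) : Zc M n ⟶ M.X n := kernel.ι _

/-- The map to the next cycles. -/
noncomputable def tc (n : ℤ) : M.X n ⟶ Zc M (n + 1) :=
  kernel.lift (M.d (n + 1) (n + 1 + 1)) (M.d n (n + 1)) (M.d_comp_d _ _ _)

@[reassoc (attr := simp)]
lemma tc_ιc (n : ℤ) : tc M n ≫ ιc M (n + 1) = M.d n (n + 1) := kernel.lift_ι _ _ _

@[reassoc (attr := simp)]
lemma ιc_tc (n : ℤ) : ιc M n ≫ tc M n = 0 := by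
  rw [← cancel_mono (ιc M (n + 1)), Category.assoc, tc_ιc, zero_comp]
  exact kernel.condition _

@[reassoc (attr := simp)]
lemma d_tc (n : ℤ) : M.d n (n + 1) ≫ tc M (n + 1) = 0 := by
  rw [← cancel_mono (ιc M (n + 1 + 1)), Category.assoc, tc_ιc, zero_comp, M.d_comp_d]

/-- The short complex `0 → Zⁿ → Mⁿ → Zⁿ⁺¹ → 0`. -/
noncomputable def Tc (n : ℤ) : ShortComplex C := ShortComplex.mk (ιc M n) (tc M n) (ιc_tc M n)

lemma Tc_shortExact (hM : M.Acyclic) (n : ℤ) : (Tc M n).ShortExact := by
  have hex : (Tc M n).Exact := by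
    let φ : Tc M n ⟶ ShortComplex.mk (ιc M n) (M.d n (n + 1)) (kernel.condition _) :=
      { τ₁ := 𝟙 _
        τ₂ := 𝟙 _
        τ₃ := ιc M (n + 1)
        comm₁₂ := by simp [Tc]
        comm₂₃ := by simp [Tc] }
    haveI : Epi φ.τ₁ := inferInstanceAs (Epi (𝟙 _))
    haveI : IsIso φ.τ₂ := inferInstanceAs (IsIso (𝟙 _))
    haveI : Mono φ.τ₃ := inferInstanceAs (Mono (ιc M (n + 1)))
    exact (ShortComplex.exact_iff_of_epi_of_isIso_of_mono φ).2 (ShortComplex.exact_kernel _)
  have hepi : Epi (tc M n) := by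
    have h := (M.exactAt_iff' n (n + 1) (n + 1 + 1) (by simp) (by simp)).1 (hM (n + 1))
    exact h.epi_kernelLift
  exact ShortComplex.ShortExact.mk' hex (inferInstanceAs (Mono (ιc M n))) hepi

end General

section Functor

variable {C : Type u} [Category.{v} C] [Abelian C] [EnoughInjectives C]
  {D : Type u'} [Category.{v'} D] [Abelian D]
  (F : C ⥤ D) [F.Additive] [PreservesFiniteLimits F]

lemma racyc_Zc (M : CochainComplex C ℤ) (a : ℤ) [M.IsStrictlyGE a] (hM : M.Acyclic)
    (hT : ∀ n, RAcyc F (M.X n)) (n : ℤ) : RAcyc F (Zc M n) := by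
  have base : ∀ n, n < a → RAcyc F (Zc M n) := fun n hn =>
    racyc_of_isZero F _ (IsZero.of_mono (ιc M n) (CochainComplex.isZero_of_isStrictlyGE M a n hn))
  have step : ∀ n, RAcyc F (Zc M n) → RAcyc F (Zc M (n + 1)) := fun n h =>
    racyc_X₃ F (Tc M n) (Tc_shortExact M hM n) h (hT n)
  have all : ∀ k : ℕ, ∀ n, n < a + k → RAcyc F (Zc M n) := by
    intro k
    induction k with
    | zero => intro n hn; exact base n (by simpa using hn)
    | succ k ih =>
      intro n hn
      obtain ⟨m, rfl⟩ : ∃ m, n = m + 1 := ⟨n - 1, by omega⟩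
      exact step m (ih m (by push_cast at hn; omega))
  exact all (n - a + 1).toNat n (by omega)

lemma map_acyclic (M : CochainComplex C ℤ) (a : ℤ) [M.IsStrictlyGE a] (hM : M.Acyclic)
    (hT : ∀ n, RAcyc F (M.X n)) :
    ((F.mapHomologicalComplex (ComplexShape.up ℤ)).obj M).Acyclic := by
  have hZ := racyc_Zc F M a hM hT
  have hTF : ∀ n, ((Tc M n).map F).ShortExact := fun n =>
    shortExact_map_of_isZero F (Tc M n) (Tc_shortExact M hM n) (hZ n 1 (by omega))
  intro n
  obtain ⟨m, rfl⟩ : ∃ m, n = m + 1 := ⟨n - 1, by omega⟩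
  rw [exactAt_iff' _ m (m + 1) (m + 1 + 1) (by simp) (by simp)]
  let S₁ : ShortComplex D := ShortComplex.mk (F.map (M.d m (m + 1))) (F.map (tc M (m + 1)))
    (by rw [← F.map_comp, d_tc, F.map_zero])
  have hS₁ : S₁.Exact := by
    let φ : S₁ ⟶ (Tc M (m + 1)).map F :=
      { τ₁ := F.map (tc M m)
        τ₂ := 𝟙 _
        τ₃ := 𝟙 _
        comm₁₂ := by
          change F.map (tc M m) ≫ F.map (ιc M (m + 1)) = F.map (M.d m (m + 1)) ≫ 𝟙 _
          rw [Category.comp_id, ← F.map_comp, tc_ιc]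
        comm₂₃ := by
          change 𝟙 _ ≫ F.map (tc M (m + 1)) = F.map (tc M (m + 1)) ≫ 𝟙 _
          rw [Category.comp_id, Category.id_comp] }
    haveI : Epi φ.τ₁ := (hTF m).epi_g
    haveI : IsIso φ.τ₂ := inferInstanceAs (IsIso (𝟙 _))
    haveI : Mono φ.τ₃ := inferInstanceAs (Mono (𝟙 _))
    exact (ShortComplex.exact_iff_of_epi_of_isIso_of_mono φ).2 (hTF (m + 1)).exact
  let ψ : S₁ ⟶ ((F.mapHomologicalComplex (ComplexShape.up ℤ)).obj M).sc' m (m + 1) (m + 1 + 1) :=
    { τ₁ := 𝟙 _
      τ₂ := 𝟙 _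
      τ₃ := F.map (ιc M (m + 1 + 1))
      comm₁₂ := by
        change 𝟙 _ ≫ F.map (M.d m (m + 1)) = F.map (M.d m (m + 1)) ≫ 𝟙 _
        rw [Category.comp_id, Category.id_comp]
      comm₂₃ := by
        change 𝟙 _ ≫ F.map (M.d (m + 1) (m + 1 + 1)) =
          F.map (tc M (m + 1)) ≫ F.map (ιc M (m + 1 + 1))
        rw [Category.id_comp, ← F.map_comp, tc_ιc] }
  haveI : Epi ψ.τ₁ := inferInstanceAs (Epi (𝟙 _))
  haveI : IsIso ψ.τ₂ := inferInstanceAs (IsIso (𝟙 _))
  haveI : Mono ψ.τ₃ := (hTF (m + 1 + 1)).mono_f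
  exact (ShortComplex.exact_iff_of_epi_of_isIso_of_mono ψ).1 hS₁

end Functor

section Main

variable {C : Type u} [Category.{v} C] [Abelian C] [HasDerivedCategory.{w} C] [EnoughInjectives C]
  {D : Type u'} [Category.{v'} D] [Abelian D] [HasDerivedCategory.{w'} D]
  (F : C ⥤ D) [F.Additive] [PreservesFiniteLimits F]

/-- Leray's acyclicity lemma: if `K` is a bounded below complex with right `F`-acyclic terms, then
`F(K) ⟶ RF(K)` is an isomorphism. -/
theorem leray (K : CochainComplex.Plus C) (hK : ∀ m, RAcyc F (K.obj.X m)) :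
    IsIso (F.rightDerivedFunctorPlusUnit.app ((HomotopyCategory.Plus.quotient C).obj K)) := by
  obtain ⟨a, ha⟩ := K.property
  haveI : K.obj.IsStrictlyGE a := ha
  obtain ⟨L, i, hi, hi', hL, hLge⟩ :=
    CochainComplex.Plus.modelCategoryQuillen.exists_mono_quasiIso_injective K.obj (a - 1) a
      (by omega)
  let S : ShortComplex (CochainComplex C ℤ) :=
    ShortComplex.mk i (cokernel.π i) (cokernel.condition i)
  have hS : S.ShortExact :=
    { exact := ShortComplex.exact_cokernel i
      mono_f := hi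
      epi_g := inferInstanceAs (Epi (cokernel.π i)) }
  have hSn : ∀ n, (S.map (HomologicalComplex.eval C (ComplexShape.up ℤ) n)).ShortExact :=
    fun n => hS.map_of_exact _
  have hterms : ∀ n, RAcyc F (S.X₃.X n) := fun n =>
    racyc_X₃ F _ (hSn n) (hK n) (haveI := hL n; racyc_of_injective F (L.X n))
  let S' := S.map (F.mapHomologicalComplex (ComplexShape.up ℤ))
  have hS' : S'.ShortExact := by
    apply HomologicalComplex.shortExact_of_degreewise_shortExact
    intro n
    exact shortExact_map_of_isZero F _ (hSn n) (hK n 1 (by omega))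
  have hMacyc : S.X₃.Acyclic := hS.acyclic_X₃ hi'
  haveI : S.X₃.IsStrictlyGE (a - 1) := by
    rw [CochainComplex.isStrictlyGE_iff]
    intro n hn
    have hepi : Epi (S.map (HomologicalComplex.eval C (ComplexShape.up ℤ) n)).g := (hSn n).epi_g
    exact @IsZero.of_epi _ _ _ _ _ (S.map (HomologicalComplex.eval C (ComplexShape.up ℤ) n)).g
      hepi (CochainComplex.isZero_of_isStrictlyGE L (a - 1) n hn)
  have hFM := map_acyclic F S.X₃ (a - 1) hMacyc hterms
  have hFi : QuasiIso ((F.mapHomologicalComplex (ComplexShape.up ℤ)).map i) :=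
    quasiIso_f_of_acyclic hS' hFM
  let L' : CochainComplex.Plus C := ⟨L, ⟨a - 1, hLge⟩⟩
  haveI : ∀ n, Injective (L'.obj.X n) := hL
  let i' : K ⟶ L' := ObjectProperty.homMk i
  haveI : QuasiIso i'.hom := hi'
  have nat := F.rightDerivedFunctorPlusUnit.naturality ((HomotopyCategory.Plus.quotient C).map i')
  have h1 : IsIso (F.rightDerivedFunctorPlusUnit.app
      ((HomotopyCategory.Plus.quotient C).obj L')) := inferInstance
  have h2 : IsIso ((DerivedCategory.Plus.Qh ⋙ F.rightDerivedFunctorPlus).map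
      ((HomotopyCategory.Plus.quotient C).map i')) := by
    haveI := RDPlus.isIso_PlusQ_map i'
    change IsIso (F.rightDerivedFunctorPlus.map (DerivedCategory.Plus.Q.map i'))
    infer_instance
  have h3 : IsIso ((FQ F).map ((HomotopyCategory.Plus.quotient C).map i')) := by
    have : IsIso (DerivedCategory.Plus.ι.map
        ((FQ F).map ((HomotopyCategory.Plus.quotient C).map i'))) := by
      change IsIso (DerivedCategory.Q.map ((F.mapHomologicalComplex (ComplexShape.up ℤ)).map i))
      infer_instance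
    exact isIso_of_fully_faithful DerivedCategory.Plus.ι _
  haveI : IsIso (F.rightDerivedFunctorPlusUnit.app ((HomotopyCategory.Plus.quotient C).obj K) ≫
      (DerivedCategory.Plus.Qh ⋙ F.rightDerivedFunctorPlus).map
        ((HomotopyCategory.Plus.quotient C).map i')) := by
    rw [← nat]
    infer_instance
  exact IsIso.of_isIso_comp_right _ ((DerivedCategory.Plus.Qh ⋙ F.rightDerivedFunctorPlus).map
    ((HomotopyCategory.Plus.quotient C).map i'))

end Main

end Groth.Agent.Lib.Helper2.Leray
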