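import Mathlib.Algebra.Homology.DerivedCategory.KInjective
import Mathlib.Algebra.Homology.DerivedCategory.ExactFunctor
import Mathlib.Algebra.Homology.DerivedCategory.TStructure
import Mathlib.Algebra.Homology.Factorizations.CM5a
import Mathlib.CategoryTheory.Preadditive.Injective.Basic

/-!
# K-injective complexes and `Q`-level hom computations (helper2)

* `bijective_map_of_iso`: bijectivity of `F.map` on a hom-set is invariant under isos.
* `Q_map_surjective_of_isKInjective`, `homotopy_of_Q_map_eq`: morphisms `Q K ⟶ Q L` in the derived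
  category with `L` K-injective are chain maps up to homotopy.
* `enoughInjectives`, `injective_map`: for a fully faithful left exact `ι : A' ⥤ A` such that
  every object of `A'` embeds in an object with `ι`-image injective, `A'` has enough injectives and
  `ι` preserves injectives.
* `map_bijective_Q`: `ι.mapDerivedCategory` is bijective on `Q K ⟶ Q I` when `I`, `ι I` K-injective.
-/

set_option autoImplicit false
universe w w' v v' u u'
open CategoryTheory CategoryTheory.Limits

namespace Groth.Agent.Lib.Helper2.KInjQ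

section General

variable {C : Type u} [Category.{v} C] {D : Type u'} [Category.{v'} D]

lemma bijective_map_of_iso (F : C ⥤ D) {X X' Y Y' : C} (e₁ : X ≅ X') (e₂ : Y ≅ Y')
    (h : Function.Bijective (fun f : X' ⟶ Y' => F.map f)) :
    Function.Bijective (fun f : X ⟶ Y => F.map f) := by
  have : (fun f : X ⟶ Y => F.map f) =
      (Iso.homCongr (F.mapIso e₁) (F.mapIso e₂)).symm ∘ (fun f : X' ⟶ Y' => F.map f) ∘
        (Iso.homCongr e₁ e₂) := by
    funext f
    simp [Iso.homCongr]
  rw [this]
  exact (Equiv.bijective _).comp (h.comp (Equiv.bijective _))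

end General

section Q

variable {C : Type u} [Category.{v} C] [Abelian C] [HasDerivedCategory.{w} C]

open DerivedCategory

lemma Q_map_surjective_of_isKInjective (K L : CochainComplex C ℤ) [L.IsKInjective]
    (g : Q.obj K ⟶ Q.obj L) : ∃ φ : K ⟶ L, Q.map φ = g := by
  obtain ⟨ψ, hψ⟩ := (CochainComplex.IsKInjective.Qh_map_bijective
    ((HomotopyCategory.quotient _ _).obj K) L).surjective
    ((quotientCompQhIso C).hom.app K ≫ g ≫ (quotientCompQhIso C).inv.app L)
  obtain ⟨φ, rfl⟩ := (HomotopyCategory.quotient _ _).map_surjective ψ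
  refine ⟨φ, ?_⟩
  have h1 := quotientCompQhIso_hom_naturality φ
  have h2 : (quotientCompQhIso C).hom.app K ≫ g =
      (quotientCompQhIso C).hom.app K ≫ Q.map φ := by
    rw [← h1, hψ]
    simp
  exact ((cancel_epi _).1 h2).symm

lemma homotopy_of_Q_map_eq (K L : CochainComplex C ℤ) [L.IsKInjective] (φ₁ φ₂ : K ⟶ L)
    (h : Q.map φ₁ = Q.map φ₂) : Nonempty (Homotopy φ₁ φ₂) := by
  refine ⟨HomotopyCategory.homotopyOfEq _ _ ?_⟩
  apply (CochainComplex.IsKInjective.Qh_map_bijective
    ((HomotopyCategory.quotient _ _).obj K) L).injective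
  rw [← cancel_mono ((quotientCompQhIso C).hom.app L), quotientCompQhIso_hom_naturality,
    quotientCompQhIso_hom_naturality, h]

end Q

section Special

variable {A' : Type u'} [Category.{v'} A'] [Abelian A'] {A : Type u} [Category.{v} A] [Abelian A]
  (ι : A' ⥤ A) [ι.Additive] [PreservesFiniteLimits ι] [ι.Full] [ι.Faithful]

section

variable (hinj : ∀ X' : A', ∃ (Y' : A') (i : X' ⟶ Y'), Mono i ∧ Injective (ι.obj Y'))

include hinj

lemma enoughInjectives : EnoughInjectives A' :=
  ⟨fun X' => by
    obtain ⟨Y', i, hi, hY⟩ := hinj X'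
    exact ⟨⟨Y', ι.injective_of_map_injective hY, i, hi⟩⟩⟩

lemma injective_map (J : A') [Injective J] : Injective (ι.obj J) := by
  obtain ⟨Y', i, hi, hY⟩ := hinj J
  haveI := hi
  haveI := hY
  obtain ⟨r, hr⟩ := Injective.factors (𝟙 J) i
  exact Retract.injective (Y := ι.obj Y')
    ⟨ι.map i, ι.map r, by rw [← ι.map_comp, hr, ι.map_id]⟩

end

open DerivedCategory

theorem map_bijective_Q [HasDerivedCategory.{w'} A'] [HasDerivedCategory.{w} A]
    [PreservesFiniteColimits ι] (K I : CochainComplex A' ℤ) [I.IsKInjective]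
    [CochainComplex.IsKInjective ((ι.mapHomologicalComplex (ComplexShape.up ℤ)).obj I)] :
    Function.Bijective (fun f : Q.obj K ⟶ Q.obj I => ι.mapDerivedCategory.map f) := by
  constructor
  · intro f₁ f₂ h
    dsimp only at h
    obtain ⟨φ₁, rfl⟩ := Q_map_surjective_of_isKInjective K I f₁
    obtain ⟨φ₂, rfl⟩ := Q_map_surjective_of_isKInjective K I f₂
    have h' : Q.map ((ι.mapHomologicalComplex (ComplexShape.up ℤ)).map φ₁) =
        Q.map ((ι.mapHomologicalComplex (ComplexShape.up ℤ)).map φ₂) := by
      rw [← cancel_epi (ι.mapDerivedCategoryFactors.hom.app K),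
        ← ι.mapDerivedCategoryFactors_hom_naturality,
        ← ι.mapDerivedCategoryFactors_hom_naturality, h]
    obtain ⟨H⟩ := homotopy_of_Q_map_eq _ _ _ _ h'
    exact Q_map_eq_of_homotopy _ (ι.preimageHomotopy H)
  · intro g
    obtain ⟨γ, hγ⟩ := Q_map_surjective_of_isKInjective _ _
      (ι.mapDerivedCategoryFactors.inv.app K ≫ g ≫ ι.mapDerivedCategoryFactors.hom.app I)
    obtain ⟨φ, rfl⟩ := (ι.mapHomologicalComplex _).map_surjective γ
    refine ⟨Q.map φ, ?_⟩
    dsimp only
    rw [← cancel_mono (ι.mapDerivedCategoryFactors.hom.app I),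
      ι.mapDerivedCategoryFactors_hom_naturality, hγ]
    simp

end Special

end Groth.Agent.Lib.Helper2.KInjQ
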