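import Mathlib
import Groth.Agent.Lib.Helper2.KInjQ

/-!
# Injective amplitude in the derived category

`VanishAt X i`: every morphism from an object placed in degree `i` to `X` is zero.
-/

namespace Groth.Agent.Lib.Helper2.InjAmp

open CategoryTheory Limits DerivedCategory HomologicalComplex

universe w v u

variable {C : Type u} [Category.{v} C] [Abelian C] [HasDerivedCategory.{w} C]

/-- Every morphism `F[-i] ⟶ X` is zero. -/
def VanishAt (X : DerivedCategory C) (i : ℤ) : Prop :=
  ∀ (F : C) (ψ : (singleFunctor C i).obj F ⟶ X), ψ = 0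

lemma vanishAt_iff (X : DerivedCategory C) (i : ℤ) :
    VanishAt X i ↔ ∀ (F : C) (φ : (singleFunctor C 0).obj F ⟶ X⟦i⟧), φ = 0 := by
  constructor
  · intro h F φ
    let e : ((singleFunctor C i).obj F)⟦i⟧ ≅ (singleFunctor C 0).obj F :=
      ((singleFunctors C).shiftIso i 0 i (by omega)).app F
    have h1 := h F ((shiftFunctor (DerivedCategory C) i).preimage (e.hom ≫ φ))
    have h2 : e.hom ≫ φ = 0 := by
      rw [← (shiftFunctor (DerivedCategory C) i).map_preimage (e.hom ≫ φ), h1, Functor.map_zero]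
    rwa [← cancel_epi e.hom, comp_zero]
  · intro h F ψ
    let e : ((singleFunctor C i).obj F)⟦i⟧ ≅ (singleFunctor C 0).obj F :=
      ((singleFunctors C).shiftIso i 0 i (by omega)).app F
    have h1 := h F (e.inv ≫ ψ⟦i⟧')
    have h2 : ψ⟦i⟧' = 0 := by
      rw [← cancel_epi e.inv, h1, comp_zero]
    apply (shiftFunctor (DerivedCategory C) i).map_injective
    rw [h2, Functor.map_zero]

lemma VanishAt.of_iso {X Y : DerivedCategory C} (e : X ≅ Y) {i : ℤ} (h : VanishAt X i) :
    VanishAt Y i := by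
  intro F ψ
  have := h F (ψ ≫ e.inv)
  rw [← cancel_mono e.inv, this, zero_comp]

/-- A morphism `F[-i] ⟶ Q K` given by a cycle. -/
lemma Q_map_mkHomFromSingle_eq_zero {K : CochainComplex C ℤ} {i : ℤ} (h : VanishAt (Q.obj K) i)
    {F : C} (f : F ⟶ K.X i) (hf : ∀ k, (ComplexShape.up ℤ).Rel i k → f ≫ K.d i k = 0) :
    Q.map (mkHomFromSingle f hf) = 0 := by
  have := h F ((singleFunctorIsoCompQ C i).hom.app F ≫ Q.map (mkHomFromSingle f hf))
  exact (cancel_epi ((singleFunctorIsoCompQ C i).hom.app F)).1 (this.trans comp_zero.symm)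

/-- Vanishing at `i` forces `H^i = 0`. -/
lemma isZero_homology_of_vanishAt {K : CochainComplex C ℤ} {i : ℤ} (h : VanishAt (Q.obj K) i) :
    IsZero (K.homology i) := by
  let c : (single C (ComplexShape.up ℤ) i).obj (K.cycles i) ⟶ K :=
    mkHomFromSingle (K.iCycles i) (fun k _ => K.iCycles_d i k)
  have hc : Q.map c = 0 := Q_map_mkHomFromSingle_eq_zero h _ _
  have hH : homologyMap c i = 0 := by
    have h1 := (homologyFunctorFactors C i).hom.naturality c
    have h0 : (Q ⋙ DerivedCategory.homologyFunctor C i).map c = 0 := by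
      change (DerivedCategory.homologyFunctor C i).map (Q.map c) = 0
      rw [hc, Functor.map_zero]
    rw [h0, zero_comp] at h1
    have h2 : (homologyFunctorFactors C i).hom.app _ ≫ homologyMap c i = 0 := h1.symm
    exact (cancel_epi ((homologyFunctorFactors C i).hom.app _)).1 (h2.trans comp_zero.symm)
  have hcyc : cyclesMap c i =
      ((single C (ComplexShape.up ℤ) i).obj (K.cycles i)).iCycles i ≫
        (singleObjXSelf (ComplexShape.up ℤ) i (K.cycles i)).hom := by
    rw [← cancel_mono (K.iCycles i), cyclesMap_i, Category.assoc]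
    congr 1
    exact mkHomFromSingle_f _ _
  haveI : IsIso (((single C (ComplexShape.up ℤ) i).obj (K.cycles i)).iCycles i) :=
    isIso_iCycles _ i (i + 1) (by simp) (by simp)
  haveI : IsIso (cyclesMap c i) := by rw [hcyc]; infer_instance
  have h3 : cyclesMap c i ≫ K.homologyπ i = 0 := by
    rw [← homologyπ_naturality, hH, comp_zero]
  have h4 : K.homologyπ i = 0 := by
    rwa [← cancel_epi (cyclesMap c i), comp_zero]
  exact IsZero.of_epi_eq_zero _ h4

/-- Claim A: for `L` K-injective with vanishing at `i`, every cycle in degree `i` is a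
boundary, functorially enough. -/
lemma exists_lift_of_vanishAt {L : CochainComplex C ℤ} [L.IsKInjective] {i : ℤ}
    (h : VanishAt (Q.obj L) i) {F : C} (f : F ⟶ L.X i) (hf : f ≫ L.d i (i + 1) = 0) (j : ℤ)
    (hj : j + 1 = i) : ∃ g : F ⟶ L.X j, g ≫ L.d j i = f := by
  have hf' : ∀ k, (ComplexShape.up ℤ).Rel i k → f ≫ L.d i k = 0 := by
    intro k hk
    obtain rfl : i + 1 = k := hk
    exact hf
  have hc : Q.map (mkHomFromSingle f hf') = Q.map 0 := by
    rw [Q_map_mkHomFromSingle_eq_zero h f hf', Functor.map_zero]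
  obtain ⟨H⟩ := KInjQ.homotopy_of_Q_map_eq _ _ _ _ hc
  have h1 := H.comm i
  rw [mkHomFromSingle_f] at h1
  have h2 : (dNext i) H.hom = 0 := by
    rw [dNext_eq H.hom (show (ComplexShape.up ℤ).Rel i (i + 1) from rfl)]
    simp
  have h3 : (prevD i) H.hom = H.hom i j ≫ L.d j i := by
    rw [prevD_eq H.hom (show (ComplexShape.up ℤ).Rel j i from hj)]
  rw [h2, h3] at h1
  refine ⟨(singleObjXSelf (ComplexShape.up ℤ) i F).inv ≫ H.hom i j, ?_⟩
  rw [Category.assoc]
  simp only [zero_add, HomologicalComplex.zero_f, add_zero] at h1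
  rw [← h1, Iso.inv_hom_id_assoc]

/-- Lemma Z: `Z^b(L)` is a retract of `L^b`. -/
lemma exists_retraction_cycles {L : CochainComplex C ℤ} [L.IsKInjective] {b : ℤ}
    (h : VanishAt (Q.obj L) (b + 1)) :
    ∃ r : L.X b ⟶ L.cycles b, L.iCycles b ≫ r = 𝟙 _ := by
  obtain ⟨s, hs⟩ := exists_lift_of_vanishAt h (L.iCycles (b + 1)) (L.iCycles_d _ _) b rfl
  let ρ : L.X b ⟶ L.X b := 𝟙 _ - L.toCycles b (b + 1) ≫ s
  have hρ : ρ ≫ L.d b (b + 1) = 0 := by
    simp only [ρ, Preadditive.sub_comp, Category.id_comp, Category.assoc, hs, toCycles_i, sub_self]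
  refine ⟨L.liftCycles ρ (b + 1) (by simp) hρ, ?_⟩
  rw [← cancel_mono (L.iCycles b), Category.assoc, liftCycles_i, Category.id_comp]
  have h0 : L.iCycles b ≫ L.toCycles b (b + 1) = 0 := by
    rw [← cancel_mono (L.iCycles (b + 1)), Category.assoc, toCycles_i, iCycles_d, zero_comp]
  simp only [ρ, Preadditive.comp_sub, Category.comp_id, reassoc_of% h0, zero_comp, sub_zero]

lemma injective_cycles {L : CochainComplex C ℤ} [L.IsKInjective] {b : ℤ}
    (h : VanishAt (Q.obj L) (b + 1)) [Injective (L.X b)] : Injective (L.cycles b) := by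
  obtain ⟨r, hr⟩ := exists_retraction_cycles h
  exact Retract.injective { i := L.iCycles b, r := r, retract := hr }

/-- Lemma B. -/
lemma vanishAt_of_isZero {I : CochainComplex C ℤ} [I.IsKInjective] {i : ℤ} (hI : IsZero (I.X i)) :
    VanishAt (Q.obj I) i := by
  intro F ψ
  obtain ⟨c, hc⟩ := KInjQ.Q_map_surjective_of_isKInjective _ I
    ((singleFunctorIsoCompQ C i).inv.app F ≫ ψ)
  have : c = 0 := from_single_hom_ext (hI.eq_of_tgt _ _)
  rw [this, Functor.map_zero] at hc
  rw [← cancel_epi ((singleFunctorIsoCompQ C i).inv.app F), ← hc, comp_zero]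

/-- Lemma T: truncation of a complex of injectives at `b`. -/
lemma truncLE_properties (L : CochainComplex C ℤ) (a b : ℤ) [L.IsStrictlyGE a]
    (hinj : ∀ n, Injective (L.X n)) (hZ : Injective (L.cycles b))
    (hH : ∀ i, b < i → IsZero (L.homology i)) :
    (∀ n, Injective ((L.truncLE b).X n)) ∧ QuasiIso (L.ιTruncLE b) ∧
      (L.truncLE b).IsStrictlyLE b ∧ (L.truncLE b).IsStrictlyGE a := by
  refine ⟨fun n => ?_, ?_, inferInstance, ?_⟩
  · obtain hn | rfl | hn := lt_trichotomy n b
    · exact Injective.of_iso (L.truncLEXIso b n hn).symm (hinj n)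
    · exact Injective.of_iso (L.truncLEXIsoCycles n).symm hZ
    · exact ((L.truncLE b).isZero_of_isStrictlyLE b n hn).injective
  · rw [CochainComplex.quasiIso_ιTruncLE_iff, CochainComplex.isLE_iff]
    intro i hi
    rw [exactAt_iff_isZero_homology]
    exact hH i hi
  · rw [CochainComplex.isStrictlyGE_iff]
    intro i hi
    obtain hn | hn := lt_or_ge i b
    · exact (L.isZero_of_isStrictlyGE a i hi).of_iso (L.truncLEXIso b i hn)
    · obtain rfl | hn := eq_or_lt_of_le hn
      · refine IsZero.of_iso ?_ (L.truncLEXIsoCycles b)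
        exact IsZero.of_mono (L.iCycles b) (L.isZero_of_isStrictlyGE a b hi)
      · exact (L.truncLE b).isZero_of_isStrictlyLE b i hn

end Groth.Agent.Lib.Helper2.InjAmp
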