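import Mathlib
import Groth.Prelude.Def_FlatCA
set_option autoImplicit false
universe u
open TensorProduct

namespace Groth.Agent.Lib.Helper2.AssTensor

variable {R S : Type u} [CommRing R] [CommRing S] [Algebra R S] (I : Ideal R)
    (N : Type u) [AddCommGroup N] [Module S N] [Module R N] [IsScalarTower R S N]

/-- the filtration pieces are stable under `S` -/
lemma smul_mem_pow_smul_top (n : ℕ) (s : S) {x : N} (hx : x ∈ (I ^ n • ⊤ : Submodule R N)) :
    s • x ∈ (I ^ n • ⊤ : Submodule R N) := by
  refine Submodule.smul_induction_on hx (fun r hr y _ => ?_) (fun x y hx hy => ?_)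
  · rw [smul_comm]
    exact Submodule.smul_mem_smul hr Submodule.mem_top
  · rw [smul_add]
    exact Submodule.add_mem _ hx hy

lemma map_smul_mem {b : S} (hb : b ∈ I.map (algebraMap R S)) (n : ℕ) {x : N}
    (hx : x ∈ (I ^ n • ⊤ : Submodule R N)) : b • x ∈ (I ^ (n + 1) • ⊤ : Submodule R N) := by
  induction hb using Submodule.span_induction generalizing x with
  | mem b hb =>
    obtain ⟨r, hr, rfl⟩ := hb
    rw [algebraMap_smul, pow_succ', mul_smul]
    exact Submodule.smul_mem_smul hr hx
  | zero => simp
  | add a b _ _ ha hb =>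
    rw [add_smul]
    exact Submodule.add_mem _ (ha hx) (hb hx)
  | smul s b _ hb =>
    rw [smul_eq_mul, mul_smul]
    exact smul_mem_pow_smul_top I N (n + 1) s (hb hx)

lemma pow_smul_mem {b : S} (hb : b ∈ I.map (algebraMap R S)) (k : ℕ) (y : N) :
    b ^ k • y ∈ (I ^ k • ⊤ : Submodule R N) := by
  induction k with
  | zero => simp
  | succ k ih =>
    have := map_smul_mem I N hb k ih
    rwa [← mul_smul, ← pow_succ'] at this

lemma one_sub_smul_bijective [IsAdicComplete I N] {b : S} (hb : b ∈ I.map (algebraMap R S)) :
    Function.Bijective (fun x : N => (1 - b) • x) := by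
  constructor
  · intro x y hxy
    have h0 : (1 - b) • (x - y) = 0 := by
      rw [smul_sub]; exact sub_eq_zero.mpr hxy
    have h1 : x - y = b • (x - y) := by
      rw [sub_smul, one_smul, sub_eq_zero] at h0
      exact h0
    have h2 : ∀ n : ℕ, x - y ∈ (I ^ n • ⊤ : Submodule R N) := by
      intro n
      induction n with
      | zero => simp
      | succ n ih =>
        rw [h1]
        exact map_smul_mem I N hb n ih
    have : x - y = 0 := IsHausdorff.haus' (I := I) (x - y) (fun n => by
      rw [SModEq.sub_mem, sub_zero]; exact h2 n)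
    exact sub_eq_zero.mp this
  · intro y
    let s : ℕ → N := fun n => ∑ k ∈ Finset.range n, b ^ k • y
    have hcauchy : ∀ {m n : ℕ}, m ≤ n → s m ≡ s n [SMOD (I ^ m • ⊤ : Submodule R N)] := by
      intro m n hmn
      rw [SModEq.comm, SModEq.sub_mem]
      change ∑ k ∈ Finset.range n, b ^ k • y - ∑ k ∈ Finset.range m, b ^ k • y ∈ _
      rw [← Finset.sum_sdiff (Finset.range_mono hmn), add_sub_cancel_right]
      refine Submodule.sum_mem _ fun k hk => ?_
      have hk' : m ≤ k := by
        simp only [Finset.mem_sdiff, Finset.mem_range, not_lt] at hk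
        exact hk.2
      exact Submodule.smul_mono_left (Ideal.pow_le_pow_right hk') (pow_smul_mem I N hb k y)
    obtain ⟨L, hL⟩ := IsPrecomplete.prec' (I := I) s hcauchy
    refine ⟨L, ?_⟩
    have hmem : ∀ n : ℕ, (1 - b) • L - y ∈ (I ^ n • ⊤ : Submodule R N) := by
      intro n
      have h1 : L - s n ∈ (I ^ n • ⊤ : Submodule R N) := by
        have := hL n
        rw [SModEq.comm, SModEq.sub_mem] at this
        exact this
      have h2 : (1 - b) • s n - y = - (b ^ n • y) := by
        have : (1 - b) • s n = y - b ^ n • y := by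
          change (1 - b) • ∑ k ∈ Finset.range n, b ^ k • y = _
          rw [Finset.smul_sum]
          simp_rw [← mul_smul, sub_mul, one_mul, sub_smul]
          rw [Finset.sum_sub_distrib]
          have := Finset.sum_range_succ_sub_sum (fun k => b ^ k • y) (n := n)
          have e1 : ∑ k ∈ Finset.range n, (b * b ^ k) • y = ∑ k ∈ Finset.range n, b ^ (k + 1) • y := by
            refine Finset.sum_congr rfl fun k _ => by rw [pow_succ']
          rw [e1]
          have e2 := Finset.sum_range_succ' (fun k => b ^ k • y) n
          have e3 := Finset.sum_range_succ (fun k => b ^ k • y) n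
          simp only [pow_zero, one_smul] at e2
          rw [e3] at e2
          have : ∑ k ∈ Finset.range n, b ^ (k + 1) • y = ∑ k ∈ Finset.range n, b ^ k • y + b ^ n • y - y := by
            rw [e2]; abel
          rw [this]; abel
        rw [this]; abel
      have h3 : (1 - b) • L - y = (1 - b) • (L - s n) + ((1 - b) • s n - y) := by
        rw [smul_sub]; abel
      rw [h3, h2]
      exact Submodule.add_mem _ (smul_mem_pow_smul_top I N n _ h1)
        (Submodule.neg_mem _ (pow_smul_mem I N hb n y))
    have : (1 - b) • L - y = 0 := IsHausdorff.haus' (I := I) _ (fun n => by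
      rw [SModEq.sub_mem, sub_zero]; exact hmem n)
    exact sub_eq_zero.mp this

end Groth.Agent.Lib.Helper2.AssTensor

namespace Groth.Agent.Lib.Helper2.AssTensor

variable {R S : Type u} [CommRing R] [CommRing S] [Algebra R S]

/-- if `a` acts bijectively on `N` then it acts injectively on `N ⊗ M` -/
lemma smul_tmul_injective_of_bijective (N : Type u) [AddCommGroup N] [Module S N] [Module R N]
    [IsScalarTower R S N] (M : Type u) [AddCommGroup M] [Module R M] (a : S)
    (ha : Function.Bijective (fun x : N => a • x)) :
    Function.Injective (fun z : N ⊗[R] M => a • z) := by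
  let f : N →ₗ[R] N := (LinearMap.lsmul S N a).restrictScalars R
  have hf : Function.Bijective f := ha
  let e : N ≃ₗ[R] N := LinearEquiv.ofBijective f hf
  have h1 : ∀ z : N ⊗[R] M, a • z = (e.rTensor M) z := by
    intro z
    induction z using TensorProduct.induction_on with
    | zero => simp
    | tmul n m => rfl
    | add x y hx hy => rw [smul_add, hx, hy, map_add]
  intro z w hzw
  simp only [h1] at hzw
  exact (e.rTensor M).injective hzw

theorem main (I : Ideal R)
    (N : Type u) [AddCommGroup N] [Module S N] [Module R N] [IsScalarTower R S N] [IsAdicComplete I N]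
    (M : Type u) [AddCommGroup M] [Module R M]
    (q : Ideal S) [q.IsPrime] (hq : q ∈ FlatCA.ass S (N ⊗[R] M)) :
    q ⊔ I.map (algebraMap R S) ≠ ⊤ := by
  intro htop
  obtain ⟨hqp, z, hz⟩ := hq
  have h1 : (1 : S) ∈ q ⊔ I.map (algebraMap R S) := htop ▸ Submodule.mem_top
  obtain ⟨a, ha, b, hb, hab⟩ := Submodule.mem_sup.mp h1
  have haz : a • z = 0 := by
    rw [hz] at ha
    exact (Submodule.mem_annihilator_span_singleton z a).mp ha
  have hbij : Function.Bijective (fun x : N => a • x) := by
    have : a = 1 - b := by rw [← hab]; ring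
    rw [this]
    exact one_sub_smul_bijective I N hb
  have hz0 : z = 0 := by
    apply smul_tmul_injective_of_bijective N M a hbij
    simp [haz]
  apply hqp.ne_top
  rw [hz, hz0]
  simp [Submodule.annihilator_bot]

end Groth.Agent.Lib.Helper2.AssTensor
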