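import Mathlib
import Groth.Prelude.Def_FlatCA

set_option autoImplicit false
universe u

open TensorProduct IsLocalRing
open scoped Classical

namespace Groth.Agent.Lib.Helper2.AssTensor.DirectSumFinite

variable {R S : Type u} [CommRing R] [IsLocalRing R] [CommRing S] [Algebra R S]
    (N : Type u) [AddCommGroup N] [Module S N] [Module R N] [IsScalarTower R S N]

/-- Key lemma: if `P` is a finite `R`-submodule of `N` with an `R`-linear retraction `π`,
`b ∈ 𝔪 S`, and `z` in the image of `P ⊗ M` satisfies `b • z = z` then `z = 0`. -/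
lemma eq_zero_of_smul_eq (M : Type u) [AddCommGroup M] [Module R M]
    (P : Submodule R N) (hP : P.FG) (π : N →ₗ[R] P) (hπ : ∀ x : P, π x = x)
    {b : S} (hb : b ∈ (maximalIdeal R).map (algebraMap R S))
    (w : P ⊗[R] M) (hw : b • (P.subtype.rTensor M w) = P.subtype.rTensor M w) :
    P.subtype.rTensor M w = 0 := by
  have : Module.Finite R P := Module.Finite.iff_fg.mpr hP
  -- the endomorphism ψ = π ∘ b ∘ incl
  let μ : N →ₗ[R] N := (LinearMap.lsmul S N b).restrictScalars R
  let ψ : P →ₗ[R] P := π ∘ₗ μ ∘ₗ P.subtype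
  -- image of ψ in 𝔪 P
  have hπb : ∀ {c : S}, c ∈ (maximalIdeal R).map (algebraMap R S) → ∀ y : N,
      π (c • y) ∈ (maximalIdeal R • ⊤ : Submodule R P) := by
    intro c hc
    induction hc using Submodule.span_induction with
    | mem c hc =>
      obtain ⟨r, hr, rfl⟩ := hc
      intro y
      rw [algebraMap_smul, map_smul]
      exact Submodule.smul_mem_smul hr Submodule.mem_top
    | zero => intro y; simp
    | add c d _ _ hc hd =>
      intro y
      rw [add_smul, map_add]
      exact Submodule.add_mem _ (hc y) (hd y)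
    | smul s c _ hc =>
      intro y
      rw [smul_eq_mul, mul_comm, mul_smul]
      exact hc (s • y)
  have hψ : ∀ x : P, ψ x ∈ (maximalIdeal R • ⊤ : Submodule R P) := fun x => hπb hb (x : N)
  -- (1 - ψ) is surjective by Nakayama
  have hsurj : Function.Surjective (LinearMap.id - ψ : P →ₗ[R] P) := by
    rw [← LinearMap.range_eq_top, eq_top_iff]
    apply Submodule.le_of_le_smul_of_le_jacobson_bot (I := maximalIdeal R) Module.Finite.fg_top
      (IsLocalRing.maximalIdeal_le_jacobson _)
    intro x _
    have : x = (LinearMap.id - ψ : P →ₗ[R] P) x + ψ x := by simp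
    rw [this]
    exact Submodule.add_mem_sup (LinearMap.mem_range_self _ x) (hψ x)
  have hbij : Function.Bijective (LinearMap.id - ψ : P →ₗ[R] P) :=
    OrzechProperty.bijective_of_surjective_endomorphism _ hsurj
  let e : P ≃ₗ[R] P := LinearEquiv.ofBijective _ hbij
  -- (ψ ⊗ 1) w = w
  have hμ : ∀ z : N ⊗[R] M, μ.rTensor M z = b • z := by
    intro z
    induction z using TensorProduct.induction_on with
    | zero => simp
    | tmul n m => rfl
    | add x y hx hy => rw [map_add, hx, hy, smul_add]
  have hπι : (π ∘ₗ P.subtype) = LinearMap.id := by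
    ext x; simp [hπ x]
  have h1 : ψ.rTensor M w = w := by
    have : ψ.rTensor M w = π.rTensor M (μ.rTensor M (P.subtype.rTensor M w)) := by
      simp only [ψ, LinearMap.rTensor_comp, LinearMap.comp_apply]
    rw [this, hμ, hw, ← LinearMap.comp_apply, ← LinearMap.rTensor_comp, hπι, LinearMap.rTensor_id,
      LinearMap.id_apply]
  have h2 : e.rTensor M w = 0 := by
    change (LinearMap.id - ψ).rTensor M w = 0
    rw [LinearMap.rTensor_sub, LinearMap.sub_apply, LinearMap.rTensor_id, LinearMap.id_apply, h1,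
      sub_self]
  have h3 : w = 0 := (e.rTensor M).injective (by rw [h2, map_zero])
  rw [h3, map_zero]

end Groth.Agent.Lib.Helper2.AssTensor.DirectSumFinite

namespace Groth.Agent.Lib.Helper2.AssTensor.DirectSumFinite

variable {R S : Type u} [CommRing R] [IsLocalRing R] [CommRing S] [Algebra R S]

theorem main
    (N : Type u) [AddCommGroup N] [Module S N] [Module R N] [IsScalarTower R S N]
    (ι : Type u) (F : ι → Submodule R N) (hF : DirectSum.IsInternal F) (hfin : ∀ i, Module.Finite R (F i))
    (M : Type u) [AddCommGroup M] [Module R M]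
    (q : Ideal S) [q.IsPrime] (hq : q ∈ FlatCA.ass S (N ⊗[R] M)) :
    q ⊔ (maximalIdeal R).map (algebraMap R S) ≠ ⊤ := by
  classical
  intro htop
  obtain ⟨hqp, z, hz⟩ := hq
  have h1 : (1 : S) ∈ q ⊔ (maximalIdeal R).map (algebraMap R S) := htop ▸ Submodule.mem_top
  obtain ⟨a, ha, b, hb, hab⟩ := Submodule.mem_sup.mp h1
  have haz : a • z = 0 := by
    rw [hz] at ha
    exact (Submodule.mem_annihilator_span_singleton z a).mp ha
  have hbz : b • z = z := by
    have : (a + b) • z = z := by rw [hab, one_smul]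
    rwa [add_smul, haz, zero_add] at this
  let P : Finset ι → Submodule R N := fun J => ⨆ i ∈ J, F i
  have hPmono : ∀ {J₁ J₂ : Finset ι}, J₁ ⊆ J₂ → P J₁ ≤ P J₂ := fun h =>
    biSup_mono fun i hi => h hi
  have hrange_mono : ∀ {J₁ J₂ : Finset ι}, J₁ ⊆ J₂ →
      LinearMap.range ((P J₁).subtype.rTensor M) ≤ LinearMap.range ((P J₂).subtype.rTensor M) := by
    intro J₁ J₂ h
    rintro _ ⟨w, rfl⟩
    refine ⟨(Submodule.inclusion (hPmono h)).rTensor M w, ?_⟩
    rw [← LinearMap.comp_apply, ← LinearMap.rTensor_comp, Submodule.subtype_comp_inclusion]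
  have hex : ∀ z : N ⊗[R] M, ∃ J : Finset ι, z ∈ LinearMap.range ((P J).subtype.rTensor M) := by
    intro z
    induction z using TensorProduct.induction_on with
    | zero => exact ⟨∅, Submodule.zero_mem _⟩
    | tmul n m =>
      have hn : n ∈ ⨆ i, F i := by rw [hF.submodule_iSup_eq_top]; exact Submodule.mem_top
      obtain ⟨J, hJ⟩ := Submodule.mem_iSup_iff_exists_finset.mp hn
      exact ⟨J, ⟨(⟨n, hJ⟩ : P J) ⊗ₜ m, rfl⟩⟩
    | add x y hx hy =>
      obtain ⟨J₁, h₁⟩ := hx
      obtain ⟨J₂, h₂⟩ := hy
      exact ⟨J₁ ∪ J₂, Submodule.add_mem _ (hrange_mono Finset.subset_union_left h₁)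
        (hrange_mono Finset.subset_union_right h₂)⟩
  obtain ⟨J, w, hw⟩ := hex z
  -- complement
  let Q : Submodule R N := ⨆ i ∈ ((J : Set ι)ᶜ), F i
  have hcompl : IsCompl (P J) Q := by
    constructor
    · exact hF.submodule_iSupIndep.disjoint_biSup_biSup' (s := (J : Set ι)) (t := (J : Set ι)ᶜ)
        disjoint_compl_right J.finite_toSet
    · rw [codisjoint_iff]
      have := iSup_split F (fun i => i ∈ J)
      rw [hF.submodule_iSup_eq_top] at this
      exact this.symm
  let π : N →ₗ[R] P J := Submodule.projectionOnto (P J) Q hcompl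
  have hπ : ∀ x : P J, π x = x := fun x => Submodule.projectionOnto_apply_left hcompl x
  have hPfg : (P J).FG := Submodule.fg_biSup J F fun i _ => Module.Finite.iff_fg.mp (hfin i)
  have hz0 : z = 0 := by
    rw [← hw]
    exact eq_zero_of_smul_eq N M (P J) hPfg π hπ hb w (by rw [hw]; exact hbz)
  apply hqp.ne_top
  rw [hz, hz0]
  simp [Submodule.annihilator_bot]

end Groth.Agent.Lib.Helper2.AssTensor.DirectSumFinite
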