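import Mathlib.Algebra.Homology.HomotopyCategory.Pretriangulated
import Mathlib.Algebra.Homology.HomotopyCategory.ShiftSequence
import Mathlib.Algebra.Homology.HomologySequenceLemmas
import Mathlib.Algebra.Homology.HomologicalComplexAbelian

/-!
# The mapping cocone of the epimorphism of a short exact sequence of complexes (helper2)

For a short exact sequence `0 ⟶ M ⟶ E ⟶ Q ⟶ 0` of cochain complexes, the canonical morphism
`M⟦1⟧ ⟶ mappingCone π` is a termwise monomorphism and a quasi-isomorphism.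
-/

set_option autoImplicit false
universe v u
open CategoryTheory CategoryTheory.Limits

namespace Groth.Agent.Lib.Helper2.Cocone

open CochainComplex mappingCone HomologicalComplex

section Acyclic

variable {C : Type u} [Category.{v} C] [Abelian C]

lemma quasiIso_f_of_acyclic' {S : ShortComplex (CochainComplex C ℤ)} (hS : S.ShortExact)
    (h : S.X₃.Acyclic) : QuasiIso S.f := by
  rw [quasiIso_iff]
  intro n
  rw [quasiIsoAt_iff_isIso_homologyMap]
  have hz : ∀ m, IsZero (S.X₃.homology m) :=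
    fun m => (S.X₃.exactAt_iff_isZero_homology m).1 (h m)
  haveI : Mono (homologyMap S.f n) :=
    (hS.homology_exact₁ (n - 1) n (by simp)).mono_g ((hz _).eq_of_src _ _)
  haveI : Epi (homologyMap S.f n) := (hS.homology_exact₂ n).epi_f ((hz _).eq_of_tgt _ _)
  exact isIso_of_mono_of_epi _

lemma acyclic_mappingCone_id (K : CochainComplex C ℤ) : (mappingCone (𝟙 K)).Acyclic := by
  intro n
  rw [exactAt_iff_isZero_homology]
  have h : homologyMap (𝟙 (mappingCone (𝟙 K))) n = homologyMap 0 n :=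
    (homotopyToZeroOfId K).homologyMap_eq n
  rw [homologyMap_id, homologyMap_zero] at h
  exact (IsZero.iff_id_eq_zero _).2 h

end Acyclic

variable {A : Type u} [Category.{v} A] [Abelian A]
  {M E Q : CochainComplex A ℤ} (i : M ⟶ E) (π : E ⟶ Q)

/-- The canonical morphism `M⟦1⟧ ⟶ mappingCone π` when `i ≫ π = 0`. -/
noncomputable def jhat (w : i ≫ π = 0) : M⟦(1 : ℤ)⟧ ⟶ mappingCone π where
  f m := i.f (m + 1) ≫ (inl π).v (m + 1) m (by omega)
  comm' := by
    rintro m _ rfl
    have hw : i.f (m + 1) ≫ π.f (m + 1) = 0 := by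
      rw [← comp_f, w, zero_f]
    change (i.f (m + 1) ≫ (inl π).v (m + 1) m (by omega)) ≫ (mappingCone π).d m (m + 1) =
      ((1 : ℤ).negOnePow • M.d (m + 1) (m + 1 + 1)) ≫
        (i.f (m + 1 + 1) ≫ (inl π).v (m + 1 + 1) (m + 1) (by omega))
    rw [Category.assoc, inl_v_d π (m + 1) m (m + 1 + 1) (by omega) (by omega),
      Preadditive.comp_sub, reassoc_of% hw, zero_comp, zero_sub,
      Int.negOnePow_one, Units.neg_smul, one_smul,
      Preadditive.neg_comp, Hom.comm_assoc]

variable (w : i ≫ π = 0)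

lemma jhat_f (m : ℤ) :
    (jhat i π w).f m = i.f (m + 1) ≫ (inl π).v (m + 1) m (by omega) := rfl

lemma mono_jhat_f [∀ n, Mono (i.f n)] (m : ℤ) : Mono ((jhat i π w).f m) := by
  change Mono (i.f (m + 1) ≫ (inl π).v (m + 1) m (by omega))
  haveI : Mono ((inl π).v (m + 1) m (by omega)) :=
    mono_of_mono_fac (inl_v_fst_v π (m + 1) m (by omega))
  exact mono_comp _ _

/-- The projection `mappingCone π ⟶ mappingCone (𝟙 Q)`. -/
noncomputable def proj : mappingCone π ⟶ mappingCone (𝟙 Q) :=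
  mappingCone.map π (𝟙 Q) π (𝟙 Q) (by simp)

lemma inl_v_proj_f (p q : ℤ) (h : p + (-1) = q) :
    (inl π).v p q h ≫ (proj π).f q = π.f p ≫ (inl (𝟙 Q)).v p q h := by
  simp [proj, mappingCone.map]

lemma inr_f_proj_f (p : ℤ) :
    (inr π).f p ≫ (proj π).f p = (inr (𝟙 Q)).f p := by
  simp [proj, mappingCone.map]

lemma proj_f_fst_v (p q : ℤ) (h : p + 1 = q) :
    (proj π).f p ≫ (fst (𝟙 Q)).1.v p q h = (fst π).1.v p q h ≫ π.f q := by
  apply ext_from π q p h
  · rw [reassoc_of% (inl_v_proj_f π q p (by omega)), inl_v_fst_v, Category.comp_id,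
      inl_v_fst_v_assoc]
  · rw [reassoc_of% (inr_f_proj_f π p), inr_f_fst_v, inr_f_fst_v_assoc, zero_comp]

lemma proj_f_snd_v (p : ℤ) :
    (proj π).f p ≫ (snd (𝟙 Q)).v p p (add_zero p) = (snd π).v p p (add_zero p) := by
  apply ext_from π (p + 1) p rfl
  · rw [reassoc_of% (inl_v_proj_f π (p + 1) p (by omega)), inl_v_snd_v, comp_zero,
      inl_v_snd_v]
  · rw [reassoc_of% (inr_f_proj_f π p), inr_f_snd_v, inr_f_snd_v]

include w in
lemma jhatf_proj (m : ℤ) :
    (i.f (m + 1) ≫ (inl π).v (m + 1) m (by omega)) ≫ (proj π).f m = 0 := by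
  have hw : i.f (m + 1) ≫ π.f (m + 1) = 0 := by
    rw [← comp_f, w, zero_f]
  rw [Category.assoc, inl_v_proj_f, reassoc_of% hw, zero_comp]

lemma jhat_proj : jhat i π w ≫ proj π = 0 := by
  ext m
  exact jhatf_proj i π w m

lemma epi_proj_f [∀ n, Epi (π.f n)] (m : ℤ) : Epi ((proj π).f m) := by
  constructor
  intro Z g₁ g₂ h
  apply ext_from (𝟙 Q) (m + 1) m rfl
  · have := (inl π).v (m + 1) m (by omega) ≫= h
    rw [reassoc_of% (inl_v_proj_f π (m + 1) m (by omega)),
      reassoc_of% (inl_v_proj_f π (m + 1) m (by omega))] at this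
    exact (cancel_epi _).1 this
  · have := (inr π).f m ≫= h
    rw [reassoc_of% (inr_f_proj_f π m), reassoc_of% (inr_f_proj_f π m)] at this
    exact this

/-- The short complex `M⟦1⟧ ⟶ mappingCone π ⟶ mappingCone (𝟙 Q)`. -/
noncomputable def sc : ShortComplex (CochainComplex A ℤ) :=
  ShortComplex.mk (jhat i π w) (proj π) (jhat_proj i π w)

lemma sc_shortExact (hS : (ShortComplex.mk i π w).ShortExact) : (sc i π w).ShortExact := by
  have hSn : ∀ n, ((ShortComplex.mk i π w).map (eval A (ComplexShape.up ℤ) n)).ShortExact :=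
    fun n => hS.map_of_exact _
  have hmono : ∀ n, Mono (i.f n) := fun n => (hSn n).mono_f
  have hepi : ∀ n, Epi (π.f n) := fun n => (hSn n).epi_g
  apply shortExact_of_degreewise_shortExact
  intro m
  haveI := (hSn (m + 1)).mono_f
  have hker := (hSn (m + 1)).exact.fIsKernel
  haveI : Mono ((sc i π w).map (eval A (ComplexShape.up ℤ) m)).f := mono_jhat_f i π w m
  haveI : Epi ((sc i π w).map (eval A (ComplexShape.up ℤ) m)).g := epi_proj_f π m
  refine ShortComplex.ShortExact.mk ?_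
  apply ShortComplex.exact_of_f_is_kernel
  refine KernelFork.IsLimit.ofι' _ _ (fun {Z} x hx => ?_)
  change Z ⟶ (mappingCone π).X m at x
  change x ≫ (proj π).f m = 0 at hx
  have h1 : (x ≫ (fst π).1.v m (m + 1) rfl) ≫ π.f (m + 1) = 0 := by
    rw [Category.assoc, ← proj_f_fst_v π m (m + 1) rfl, reassoc_of% hx, zero_comp]
  have h2 : x ≫ (snd π).v m m (add_zero m) = 0 := by
    rw [← proj_f_snd_v π m, reassoc_of% hx, zero_comp]
  let y : Z ⟶ M.X (m + 1) := hker.lift (KernelFork.ofι _ h1)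
  have hy : y ≫ i.f (m + 1) = x ≫ (fst π).1.v m (m + 1) rfl :=
    hker.fac (KernelFork.ofι _ h1) WalkingParallelPair.zero
  refine ⟨y, ?_⟩
  change y ≫ (i.f (m + 1) ≫ (inl π).v (m + 1) m (by omega)) = x
  apply ext_to π m (m + 1) rfl
  · rw [Category.assoc, Category.assoc, inl_v_fst_v, Category.comp_id, hy]
  · rw [Category.assoc, Category.assoc, inl_v_snd_v, comp_zero, comp_zero, h2]

lemma quasiIso_jhat (hS : (ShortComplex.mk i π w).ShortExact) : QuasiIso (jhat i π w) :=
  quasiIso_f_of_acyclic' (sc_shortExact i π w hS) (acyclic_mappingCone_id Q)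

section Naturality

variable {M' E' Q' : CochainComplex A ℤ} (i' : M' ⟶ E') (π' : E' ⟶ Q') (w' : i' ≫ π' = 0)
  (f : M ⟶ M') (g : E ⟶ E') (h : Q ⟶ Q') (c₁ : i ≫ g = f ≫ i') (c₂ : π ≫ h = g ≫ π')

include c₁ in
lemma jhat_naturality :
    jhat i π w ≫ mappingCone.map π π' g h c₂ = f⟦(1 : ℤ)⟧' ≫ jhat i' π' w' := by
  ext m
  have hc : i.f (m + 1) ≫ g.f (m + 1) = f.f (m + 1) ≫ i'.f (m + 1) := by
    rw [← comp_f, c₁, comp_f]
  change (i.f (m + 1) ≫ (inl π).v (m + 1) m (by omega)) ≫ (mappingCone.map π π' g h c₂).f m =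
    f.f (m + 1) ≫ i'.f (m + 1) ≫ (inl π').v (m + 1) m (by omega)
  simp only [mappingCone.map, Category.assoc, inl_v_desc_f,
    HomComplex.Cochain.zero_cochain_comp_v, HomComplex.Cochain.ofHom_v]
  rw [reassoc_of% hc]

end Naturality

end Groth.Agent.Lib.Helper2.Cocone
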