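import Groth.Agent.Lib.Helper2.CompactEnv

/-!
# Maps from compact objects to cellular towers factor through finitely built objects
-/

set_option autoImplicit false

namespace Groth.Agent.Lib.Helper2.CompactEnv

open CategoryTheory CategoryTheory.Limits CategoryTheory.Pretriangulated CohDer ZeroObject

universe v u

variable {D : Type u} [Category.{v} D] [Preadditive D] [HasZeroObject D] [HasShift D ℤ]
  [∀ n : ℤ, (shiftFunctor D n).Additive] [Pretriangulated D]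

/-- Packaging a finite sum of maps through members of a family as a single map through a finite
direct sum of members. -/
lemma pack (G : D ⥤ D) (Pr : ObjectProperty D) (h0 : Pr 0)
    (h2 : ∀ A B, Pr A → Pr B → Pr (A ⊞ B)) {C W : D} {κ : Type*} (Y : κ → D) (ι : ∀ k, Y k ⟶ W)
    (g : ∀ k, C ⟶ G.obj (Y k)) (F : Finset κ) (hY : ∀ k ∈ F, Pr (Y k)) :
    ∃ (Z : D) (incl : Z ⟶ W) (γ : C ⟶ G.obj Z),
      Pr Z ∧ γ ≫ G.map incl = ∑ k ∈ F, g k ≫ G.map (ι k) := by
  classical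
  induction F using Finset.induction_on with
  | empty => exact ⟨0, 0, 0, h0, by simp⟩
  | insert k₀ F' hk₀ ih =>
    obtain ⟨Z', incl', γ', hZ', h'⟩ := ih (fun k hk => hY k (Finset.mem_insert_of_mem hk))
    refine ⟨Y k₀ ⊞ Z', biprod.desc (ι k₀) incl',
      g k₀ ≫ G.map biprod.inl + γ' ≫ G.map biprod.inr,
      h2 _ _ (hY k₀ (Finset.mem_insert_self _ _)) hZ', ?_⟩
    rw [Finset.sum_insert hk₀, Preadditive.add_comp, Category.assoc, Category.assoc,
      ← G.map_comp, ← G.map_comp, biprod.inl_desc, biprod.inr_desc, h']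

variable [IsTriangulated D]

section FinBuilt

variable {ι : Type*} (E : ι → D)

/-- Objects in the triangulated envelope of finitely many members of the family `E`. -/
def FinBuilt : ObjectProperty D := fun Z =>
  ∃ s : Finset ι, ObjectProperty.triangEnvelope (fun Y : D => ∃ i ∈ s, Y = E i) Z

variable {E}

lemma finBuilt_mono {s s' : Finset ι} (h : s ⊆ s') {Z : D}
    (hZ : ObjectProperty.triangEnvelope (fun Y : D => ∃ i ∈ s, Y = E i) Z) :
    ObjectProperty.triangEnvelope (fun Y : D => ∃ i ∈ s', Y = E i) Z :=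
  ObjectProperty.monotone_triangEnvelope (by
    rintro Y ⟨i, hi, rfl⟩
    exact ⟨i, h hi, rfl⟩) _ hZ

lemma finBuilt_E (i : ι) : FinBuilt E (E i) := by
  classical
  exact ⟨{i}, ObjectProperty.le_triangEnvelope _ _ ⟨i, Finset.mem_singleton_self i, rfl⟩⟩

lemma finBuilt_zero [Nonempty ι] : FinBuilt E (0 : D) := by
  classical
  obtain ⟨i₀⟩ := ‹Nonempty ι›
  refine ⟨{i₀}, ?_⟩
  have : ObjectProperty.Nonempty (fun Y : D => ∃ i ∈ ({i₀} : Finset ι), Y = E i) :=
    ⟨⟨E i₀, i₀, Finset.mem_singleton_self i₀, rfl⟩⟩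
  exact ObjectProperty.prop_zero _

lemma finBuilt_shift {Z : D} (hZ : FinBuilt E Z) (n : ℤ) :
    FinBuilt E ((shiftFunctor D n).obj Z) := by
  obtain ⟨s, hs⟩ := hZ
  exact ⟨s, (ObjectProperty.triangEnvelope (fun Y : D => ∃ i ∈ s, Y = E i)).le_shift n _ hs⟩

lemma finBuilt_ext₂ (T : Triangle D) (hT : T ∈ distTriang D) (h₁ : FinBuilt E T.obj₁)
    (h₃ : FinBuilt E T.obj₃) : FinBuilt E T.obj₂ := by
  classical
  obtain ⟨s₁, hs₁⟩ := h₁
  obtain ⟨s₃, hs₃⟩ := h₃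
  exact ⟨s₁ ∪ s₃, ObjectProperty.ext_of_isTriangulatedClosed₂ _ T hT
    (finBuilt_mono Finset.subset_union_left hs₁) (finBuilt_mono Finset.subset_union_right hs₃)⟩

lemma finBuilt_ext₃ (T : Triangle D) (hT : T ∈ distTriang D) (h₁ : FinBuilt E T.obj₁)
    (h₂ : FinBuilt E T.obj₂) : FinBuilt E T.obj₃ :=
  finBuilt_ext₂ T.rotate (rot_of_distTriang _ hT) h₂ (finBuilt_shift h₁ 1)

lemma finBuilt_biprod {A B : D} (hA : FinBuilt E A) (hB : FinBuilt E B) : FinBuilt E (A ⊞ B) :=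
  finBuilt_ext₂ _ (binaryBiproductTriangle_distinguished A B) hA hB

end FinBuilt

variable [HasCoproducts.{v} D]

/-- Every morphism from a compact object to a stage of a cellular tower built from shifts of
compact objects `E i` factors through a finitely built object. -/
theorem factors_of_tower {ι : Type v} [Nonempty ι] (E : ι → D)
    (hc : ∀ i, IsCompactObject (E i)) (K : ℕ → D) (f : ∀ n, K n ⟶ K (n + 1))
    (h0 : ∃ (κ : Type v) (a : κ → ι) (m : κ → ℤ),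
      Nonempty (K 0 ≅ ∐ (fun k => (shiftFunctor D (m k)).obj (E (a k)))))
    (hstep : ∀ n, ∃ (κ : Type v) (a : κ → ι) (m : κ → ℤ)
      (y : (∐ fun k => (shiftFunctor D (m k)).obj (E (a k))) ⟶ K n)
      (z : K (n + 1) ⟶
        (shiftFunctor D (1 : ℤ)).obj (∐ fun k => (shiftFunctor D (m k)).obj (E (a k)))),
      Triangle.mk y (f n) z ∈ distinguishedTriangles) :
    ∀ (n : ℕ) (C : D), IsCompactObject C → ∀ φ : C ⟶ K n,
      ∃ (E' : D) (g : C ⟶ E') (h : E' ⟶ K n), FinBuilt E E' ∧ g ≫ h = φ := by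
  -- the class of compact finitely built objects
  let Pr : ObjectProperty D := fun Z => IsCompactObject Z ∧ FinBuilt E Z
  have hPr0 : Pr 0 := ⟨isCompactObject_of_isZero (isZero_zero D), finBuilt_zero⟩
  have hPr2 : ∀ A B, Pr A → Pr B → Pr (A ⊞ B) := fun A B hA hB =>
    ⟨isCompactObject_biprod hA.1 hB.1, finBuilt_biprod hA.2 hB.2⟩
  have hPrE : ∀ (i : ι) (m : ℤ), Pr ((shiftFunctor D m).obj (E i)) := fun i m =>
    ⟨isCompactObject_shift (hc i) m, finBuilt_shift (finBuilt_E i) m⟩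
  intro n
  induction n with
  | zero =>
    intro C hC φ
    obtain ⟨κ, a, m, ⟨e⟩⟩ := h0
    obtain ⟨F, g, hg⟩ := exists_finset_sum hC
      (fun k => (shiftFunctor D (m k)).obj (E (a k))) (𝟭 D) (φ ≫ e.hom)
    obtain ⟨Z, incl, γ, hZ, hγ⟩ := pack (𝟭 D) Pr hPr0 hPr2
      (fun k => (shiftFunctor D (m k)).obj (E (a k)))
      (fun k => Sigma.ι (fun k => (shiftFunctor D (m k)).obj (E (a k))) k) g F
      (fun k _ => hPrE (a k) (m k))
    refine ⟨Z, γ, incl ≫ e.inv, hZ.2, ?_⟩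
    have h1 : γ ≫ incl = φ ≫ e.hom := by
      rw [hg]
      exact hγ
    rw [← Category.assoc, h1, Category.assoc, e.hom_inv_id, Category.comp_id]
  | succ n ih =>
    intro C hC φ
    obtain ⟨κ, a, m, y, z, hT⟩ := hstep n
    obtain ⟨F, g, hg⟩ := exists_finset_sum hC
      (fun k => (shiftFunctor D (m k)).obj (E (a k))) (shiftFunctor D (1 : ℤ)) (φ ≫ z)
    obtain ⟨Z, incl, γ, hZ, hγ⟩ := pack (shiftFunctor D (1 : ℤ)) Pr hPr0 hPr2
      (fun k => (shiftFunctor D (m k)).obj (E (a k)))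
      (fun k => Sigma.ι (fun k => (shiftFunctor D (m k)).obj (E (a k))) k) g F
      (fun k _ => hPrE (a k) (m k))
    rw [← hg] at hγ
    -- the triangle `Z → C' → C → Z[1]`
    obtain ⟨C', α, β, hT₁⟩ := distinguished_cocone_triangle₂ γ
    have hC' : IsCompactObject C' := isCompactObject_ext₂ _ hT₁ hZ.1 hC
    obtain ⟨c, hc₁, hc₂⟩ : ∃ c : C' ⟶ K n, α ≫ c = incl ≫ y ∧ β ≫ φ = c ≫ f n :=
      complete_distinguished_triangle_morphism₂ _ _ hT₁ hT incl φ hγ
    obtain ⟨E₂, u, h₂, hE₂, hu⟩ := ih C' hC' c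
    -- the triangle `Z → E₂ → E₁ → Z[1]`
    obtain ⟨E₁, p, q, hT₂⟩ := distinguished_cocone_triangle (α ≫ u)
    have hE₁ : FinBuilt E E₁ := finBuilt_ext₃ _ hT₂ hZ.2 hE₂
    obtain ⟨w, hw₁, hw₂⟩ : ∃ w : C ⟶ E₁, β ≫ w = u ≫ p ∧
        γ ≫ (shiftFunctor D (1 : ℤ)).map (𝟙 Z) = w ≫ q :=
      complete_distinguished_triangle_morphism _ _ hT₁ hT₂ (𝟙 Z) u
        (show α ≫ u = 𝟙 Z ≫ α ≫ u by rw [Category.id_comp])
    obtain ⟨e, he₁, he₂⟩ : ∃ e : E₁ ⟶ K (n + 1), p ≫ e = h₂ ≫ f n ∧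
        q ≫ (shiftFunctor D (1 : ℤ)).map incl = e ≫ z :=
      complete_distinguished_triangle_morphism _ _ hT₂ hT incl h₂
        (show (α ≫ u) ≫ h₂ = incl ≫ y by rw [Category.assoc, hu, hc₁])
    have hzero : (φ - w ≫ e) ≫ z = 0 := by
      rw [Preadditive.sub_comp, Category.assoc, ← he₂, ← Category.assoc, ← hw₂,
        CategoryTheory.Functor.map_id, Category.comp_id, hγ, sub_self]
    obtain ⟨ψ, hψ⟩ : ∃ ψ : C ⟶ K n, φ - w ≫ e = ψ ≫ f n :=
      Triangle.coyoneda_exact₃ _ hT (φ - w ≫ e) hzero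
    obtain ⟨E₃, g₃, h₃, hE₃, hg₃⟩ := ih C hC ψ
    refine ⟨E₁ ⊞ E₃, biprod.lift w g₃, biprod.desc e (h₃ ≫ f n), finBuilt_biprod hE₁ hE₃, ?_⟩
    rw [biprod.lift_desc, ← Category.assoc, hg₃, ← hψ]
    abel

end Groth.Agent.Lib.Helper2.CompactEnv
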