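import Groth.Prelude.Def_DerCA
import Mathlib.CategoryTheory.Triangulated.Triangulated
import Mathlib.Tactic.Abel

/-!
# Essentially constant ℕ-indexed inverse systems in triangulated categories

Main result: `essConstant_middle`: in an inverse system of distinguished triangles, if the outer
systems are essentially constant then so is the middle one.
-/

namespace Groth.Agent.Lib.Helper2.EssConst

open CategoryTheory CategoryTheory.Limits Opposite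

universe v u

section Basic

variable {C : Type u} [Category.{v} C]

lemma tr_tr (X : ARSys.PS C) {l m n : ℕ} (h₁ : l ≤ m) (h₂ : m ≤ n) :
    ARSys.tr X h₂ ≫ ARSys.tr X h₁ = ARSys.tr X (h₁.trans h₂) := by
  rw [ARSys.tr, ARSys.tr, ARSys.tr, ← Functor.map_comp]
  rfl

lemma tr_refl (X : ARSys.PS C) (n : ℕ) : ARSys.tr X (le_refl n) = 𝟙 _ := by
  rw [ARSys.tr]
  exact X.map_id _

lemma cone_tr {X : ARSys.PS C} {A : C} (a : (Functor.const ℕᵒᵖ).obj A ⟶ X) {m n : ℕ}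
    (h : m ≤ n) : a.app (op n) ≫ ARSys.tr X h = a.app (op m) := by
  have := a.naturality (homOfLE h).op
  simp only [Functor.const_obj_obj, Functor.const_obj_map, Category.id_comp] at this
  exact this.symm

variable [Preadditive C]

/-- The retraction `X_n ⟶ X_i ⟶ A` (zero if `n < i`). -/
noncomputable def retr (X : ARSys.PS C) {A : C} (i : ℕ) (s : X.obj (op i) ⟶ A) (n : ℕ) :
    X.obj (op n) ⟶ A :=
  if h : i ≤ n then ARSys.tr X h ≫ s else 0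

variable (X : ARSys.PS C) {A : C} (α : ∀ n, A ⟶ X.obj (op n)) (i : ℕ) (s : X.obj (op i) ⟶ A)

lemma retr_eq {n : ℕ} (h : i ≤ n) : retr X i s n = ARSys.tr X h ≫ s := dif_pos h

lemma retr_self : retr X i s i = s := by
  rw [retr_eq X i s le_rfl, tr_refl, Category.id_comp]

lemma tr_retr {m n : ℕ} (hm : i ≤ m) (h : m ≤ n) :
    ARSys.tr X h ≫ retr X i s m = retr X i s n := by
  rw [retr_eq X i s hm, retr_eq X i s (hm.trans h), ← Category.assoc, tr_tr]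

lemma cone_retr (hα : ∀ {m n : ℕ} (h : m ≤ n), α n ≫ ARSys.tr X h = α m)
    (hs : α i ≫ s = 𝟙 A) {n : ℕ} (h : i ≤ n) : α n ≫ retr X i s n = 𝟙 A := by
  rw [retr_eq X i s h, ← Category.assoc, hα h, hs]

/-- `Good k j`: the transition map `X_k ⟶ X_j` factors through the retraction to `A`. -/
def Good (k j : ℕ) : Prop :=
  i ≤ k ∧ ∃ hj : j ≤ k, ARSys.tr X hj = retr X i s k ≫ α j

variable {X α i s}

lemma Good.eq {k j : ℕ} (h : Good X α i s k j) (hj : j ≤ k) :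
    ARSys.tr X hj = retr X i s k ≫ α j := by
  obtain ⟨_, _, e⟩ := h
  exact e

lemma Good.mono_left {k k' j : ℕ} (h : Good X α i s k j) (hk : k ≤ k') : Good X α i s k' j := by
  obtain ⟨hi, hj, e⟩ := h
  refine ⟨hi.trans hk, hj.trans hk, ?_⟩
  rw [← tr_tr X hj hk, e, ← Category.assoc, tr_retr X i s hi hk]

lemma Good.mono_right (hα : ∀ {m n : ℕ} (h : m ≤ n), α n ≫ ARSys.tr X h = α m)
    {k j j' : ℕ} (h : Good X α i s k j) (hj' : j' ≤ j) : Good X α i s k j' := by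
  obtain ⟨hi, hj, e⟩ := h
  refine ⟨hi, hj'.trans hj, ?_⟩
  rw [← tr_tr X hj' hj, e, Category.assoc, hα hj']

variable (X α i s)

lemma exists_good
    (hk : ∀ j, ∃ (k : ℕ) (hi : i ≤ k) (hj : j ≤ k), ARSys.tr X hj = ARSys.tr X hi ≫ s ≫ α j)
    (N j : ℕ) : ∃ k, N ≤ k ∧ Good X α i s k j := by
  obtain ⟨k, hi, hj, e⟩ := hk j
  refine ⟨max k N, le_max_right _ _, Good.mono_left ⟨hi, hj, ?_⟩ (le_max_left _ _)⟩
  rw [retr_eq X i s hi, Category.assoc]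
  exact e

end Basic

section Tri

open Pretriangulated

variable {D : Type u} [Category.{v} D] [Preadditive D] [HasZeroObject D] [HasShift D ℤ]
    [∀ n : ℤ, (shiftFunctor D n).Additive] [Pretriangulated D]

lemma sq_zero_of_triangle_endo {T : Triangle D} (hT : T ∈ distTriang D) (θ : T.obj₂ ⟶ T.obj₂)
    (h1 : T.mor₁ ≫ θ = T.mor₁) (h2 : θ ≫ T.mor₂ = T.mor₂) : (θ - 𝟙 _) ≫ (θ - 𝟙 _) = 0 := by
  obtain ⟨ε, hε⟩ := Triangle.yoneda_exact₂ T hT (θ - 𝟙 _)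
    (by rw [Preadditive.comp_sub, h1, Category.comp_id, sub_self])
  obtain ⟨ε', hε'⟩ := Triangle.coyoneda_exact₂ T hT (θ - 𝟙 _)
    (by rw [Preadditive.sub_comp, h2, Category.id_comp, sub_self])
  have : (θ - 𝟙 _) ≫ (θ - 𝟙 _) = (ε' ≫ T.mor₁) ≫ (T.mor₂ ≫ ε) := by rw [← hε, ← hε']
  rw [this, Category.assoc, ← Category.assoc T.mor₁, comp_distTriang_mor_zero₁₂ _ hT,
    zero_comp, comp_zero]

lemma exists_normalized {T : Triangle D} (hT : T ∈ distTriang D) {Y' : D} (β : T.obj₂ ⟶ Y')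
    (P : Y' ⟶ T.obj₂) (h1 : T.mor₁ ≫ (β ≫ P) = T.mor₁) (h2 : (β ≫ P) ≫ T.mor₂ = T.mor₂)
    {W : D} (g : Y' ⟶ W) (c : T.obj₃ ⟶ W) (hg : β ≫ g = T.mor₂ ≫ c) :
    ∃ β' : T.obj₂ ⟶ Y', T.mor₁ ≫ β' = T.mor₁ ≫ β ∧ β' ≫ g = T.mor₂ ≫ c ∧ β' ≫ P = 𝟙 _ := by
  have hsq := sq_zero_of_triangle_endo hT (β ≫ P) h1 h2
  have hN1 : T.mor₁ ≫ (β ≫ P - 𝟙 _) = 0 := by
    rw [Preadditive.comp_sub, h1, Category.comp_id, sub_self]
  have hN2 : (β ≫ P - 𝟙 _) ≫ T.mor₂ = 0 := by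
    rw [Preadditive.sub_comp, h2, Category.id_comp, sub_self]
  obtain ⟨N, hN⟩ : ∃ N, N = β ≫ P - 𝟙 _ := ⟨_, rfl⟩
  rw [← hN] at hsq hN1 hN2
  have hθ : β ≫ P = N + 𝟙 _ := by rw [hN]; abel
  refine ⟨β - N ≫ β, ?_, ?_, ?_⟩
  · rw [Preadditive.comp_sub, ← Category.assoc, hN1, zero_comp, sub_zero]
  · rw [Preadditive.sub_comp, Category.assoc, hg, ← Category.assoc, hN2, zero_comp, sub_zero]
  · rw [Preadditive.sub_comp, Category.assoc, hθ, Preadditive.comp_add, hsq, Category.comp_id,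
      zero_add]
    abel

section Core

variable (X Y Z : ARSys.PS D)
  (ff : ∀ n, X.obj (op n) ⟶ Y.obj (op n)) (gg : ∀ n, Y.obj (op n) ⟶ Z.obj (op n))
  (hh : ∀ n, Z.obj (op n) ⟶ (X.obj (op n))⟦(1 : ℤ)⟧)
  {A : D} (α : ∀ n, A ⟶ X.obj (op n)) (iA : ℕ) (sA : X.obj (op iA) ⟶ A)
  {C : D} (γ : ∀ n, C ⟶ Z.obj (op n)) (iC : ℕ) (sC : Z.obj (op iC) ⟶ C)

local notation "pA" => retr X iA sA
local notation "qC" => retr Z iC sC
local notation "GoodX" => Good X α iA sA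
local notation "GoodZ" => Good Z γ iC sC

theorem core
    (ff_nat : ∀ {m n : ℕ} (h : m ≤ n), ARSys.tr X h ≫ ff m = ff n ≫ ARSys.tr Y h)
    (gg_nat : ∀ {m n : ℕ} (h : m ≤ n), ARSys.tr Y h ≫ gg m = gg n ≫ ARSys.tr Z h)
    (hh_nat : ∀ {m n : ℕ} (h : m ≤ n),
      ARSys.tr Z h ≫ hh m = hh n ≫ (ARSys.tr X h)⟦(1 : ℤ)⟧')
    (hT : ∀ n, Triangle.mk (ff n) (gg n) (hh n) ∈ distTriang D)
    (hα : ∀ {m n : ℕ} (h : m ≤ n), α n ≫ ARSys.tr X h = α m)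
    (hsA : α iA ≫ sA = 𝟙 A)
    (hkA : ∀ j, ∃ (k : ℕ) (hi : iA ≤ k) (hj : j ≤ k),
      ARSys.tr X hj = ARSys.tr X hi ≫ sA ≫ α j)
    (hγ : ∀ {m n : ℕ} (h : m ≤ n), γ n ≫ ARSys.tr Z h = γ m)
    (hsC : γ iC ≫ sC = 𝟙 C)
    (hkC : ∀ j, ∃ (k : ℕ) (hi : iC ≤ k) (hj : j ≤ k),
      ARSys.tr Z hj = ARSys.tr Z hi ≫ sC ≫ γ j) :
    ∃ (B : D) (b : ∀ n, B ⟶ Y.obj (op n)) (i : ℕ) (s : Y.obj (op i) ⟶ B),
      (∀ {m n : ℕ} (h : m ≤ n), b n ≫ ARSys.tr Y h = b m) ∧ b i ≫ s = 𝟙 B ∧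
      ∀ j, ∃ (k : ℕ) (hi : i ≤ k) (hj : j ≤ k), ARSys.tr Y hj = ARSys.tr Y hi ≫ s ≫ b j := by
  classical
  have hiA : iA ≤ max iA iC := le_max_left _ _
  have hiC : iC ≤ max iA iC := le_max_right _ _
  -- Step 1: the connecting morphism
  obtain ⟨δ, hδdef⟩ : ∃ δ : C ⟶ A⟦(1 : ℤ)⟧,
      δ = γ (max iA iC) ≫ hh (max iA iC) ≫ (pA (max iA iC))⟦(1 : ℤ)⟧' := ⟨_, rfl⟩
  have hδ : ∀ k, max iA iC ≤ k → γ k ≫ hh k ≫ (pA k)⟦(1 : ℤ)⟧' = δ := by
    intro k hk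
    rw [hδdef, ← tr_retr X iA sA hiA hk, Functor.map_comp, ← Category.assoc (hh k), ← hh_nat hk,
      Category.assoc, ← Category.assoc, hγ hk]
  have hB2 : ∀ n, δ ≫ (α n)⟦(1 : ℤ)⟧' = γ n ≫ hh n := by
    intro n
    obtain ⟨k, hk, hgood⟩ := exists_good X α iA sA hkA (max n (max iA iC)) n
    have hnk : n ≤ k := (le_max_left _ _).trans hk
    have hik : max iA iC ≤ k := (le_max_right _ _).trans hk
    rw [← hδ k hik, Category.assoc, Category.assoc, ← Functor.map_comp, ← hgood.eq hnk,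
      ← hh_nat hnk, ← Category.assoc, hγ hnk]
  obtain ⟨B, u, v, hTB⟩ := distinguished_cocone_triangle₂ δ
  -- Step 4: fill-ins
  have hb' : ∀ n, ∃ β : B ⟶ Y.obj (op n), u ≫ β = α n ≫ ff n ∧ v ≫ γ n = β ≫ gg n := fun n =>
    complete_distinguished_triangle_morphism₂ _ _ hTB (hT n) (α n) (γ n) (hB2 n)
  choose b' hb'1 hb'2 using hb'
  -- Step 5: the retraction
  obtain ⟨i₁, hi₁, hgood₁⟩ := exists_good Z γ iC sC hkC (max iA iC) (max iA iC)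
  have hiA₁ : iA ≤ i₁ := hiA.trans hi₁
  have hiC₁ : iC ≤ i₁ := hiC.trans hi₁
  have hcomm : hh i₁ ≫ (pA i₁)⟦(1 : ℤ)⟧' = qC i₁ ≫ δ := by
    rw [← tr_retr X iA sA hiA hi₁, Functor.map_comp, ← Category.assoc, ← hh_nat hi₁,
      hgood₁.eq hi₁, Category.assoc, Category.assoc, hδ _ le_rfl]
  obtain ⟨s, hs1, hs2⟩ : ∃ s : Y.obj (op i₁) ⟶ B, ff i₁ ≫ s = pA i₁ ≫ u ∧
      gg i₁ ≫ qC i₁ = s ≫ v :=
    complete_distinguished_triangle_morphism₂ _ _ (hT i₁) hTB (pA i₁) (qC i₁) hcomm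
  have fP : ∀ n, i₁ ≤ n → ff n ≫ retr Y i₁ s n = pA n ≫ u := by
    intro n hn
    rw [retr_eq Y i₁ s hn, ← Category.assoc, ← ff_nat hn, Category.assoc, hs1, ← Category.assoc,
      tr_retr X iA sA hiA₁ hn]
  have Pv : ∀ n, i₁ ≤ n → retr Y i₁ s n ≫ v = gg n ≫ qC n := by
    intro n hn
    rw [retr_eq Y i₁ s hn, Category.assoc, ← hs2, ← Category.assoc, gg_nat hn, Category.assoc,
      tr_retr Z iC sC hiC₁ hn]
  -- Step 6: normalized fill-ins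
  have hb'' : ∀ n, ∃ β : B ⟶ Y.obj (op n), i₁ ≤ n →
      (u ≫ β = α n ≫ ff n ∧ β ≫ gg n = v ≫ γ n ∧ β ≫ retr Y i₁ s n = 𝟙 B) := by
    intro n
    by_cases hn : i₁ ≤ n
    · have h1 : u ≫ (b' n ≫ retr Y i₁ s n) = u := by
        rw [← Category.assoc, hb'1, Category.assoc, fP n hn, ← Category.assoc,
          cone_retr X α iA sA hα hsA (hiA₁.trans hn), Category.id_comp]
      have h2 : (b' n ≫ retr Y i₁ s n) ≫ v = v := by
        rw [Category.assoc, Pv n hn, ← Category.assoc, ← hb'2, Category.assoc,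
          cone_retr Z γ iC sC hγ hsC (hiC₁.trans hn), Category.comp_id]
      obtain ⟨β, hβ1, hβ2, hβ3⟩ := exists_normalized hTB (b' n) (retr Y i₁ s n) h1 h2 (gg n) (γ n)
        (hb'2 n).symm
      exact ⟨β, fun _ => ⟨hβ1.trans (hb'1 n), hβ2, hβ3⟩⟩
    · exact ⟨0, fun h => absurd h hn⟩
  choose b'' hb'' using hb''
  -- Step 7: uniqueness after transition
  have hU : ∀ (k m : ℕ) (_ : i₁ ≤ m) (hmk : m ≤ k), GoodX k m → ∀ β β' : B ⟶ Y.obj (op k),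
      β ≫ gg k = β' ≫ gg k → β ≫ retr Y i₁ s k = β' ≫ retr Y i₁ s k →
        β ≫ ARSys.tr Y hmk = β' ≫ ARSys.tr Y hmk := by
    intro k m hm hmk hgood β β' e1 e2
    have hk : i₁ ≤ k := hm.trans hmk
    obtain ⟨ε, hε⟩ : ∃ ε : B ⟶ X.obj (op k), β - β' = ε ≫ ff k :=
      Triangle.coyoneda_exact₂ _ (hT k) (β - β') (by
        change (β - β') ≫ gg k = 0
        rw [Preadditive.sub_comp, e1, sub_self])
    have h0 : (ε ≫ pA k) ≫ u = 0 := by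
      rw [Category.assoc, ← fP k hk, ← Category.assoc, ← hε, Preadditive.sub_comp, e2, sub_self]
    rw [← sub_eq_zero, ← Preadditive.sub_comp, hε, Category.assoc, ← ff_nat hmk, hgood.eq hmk,
      Category.assoc, ← hb'1 m, ← Category.assoc, ← Category.assoc, h0, zero_comp]
  -- Step 8: the cone
  have hK : ∀ n, ∃ k, max n i₁ ≤ k ∧ GoodX k (max n i₁) := fun n =>
    exists_good X α iA sA hkA (max n i₁) (max n i₁)
  choose K hK1 hK2 using hK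
  have hnK : ∀ n, n ≤ K n := fun n => (le_max_left _ _).trans (hK1 n)
  have hiK : ∀ n, i₁ ≤ K n := fun n => (le_max_right _ _).trans (hK1 n)
  have h8 : ∀ (M k k' : ℕ) (_ : i₁ ≤ M) (hMk : M ≤ k) (hkk' : k ≤ k'), GoodX k M →
      b'' k' ≫ ARSys.tr Y (hMk.trans hkk') = b'' k ≫ ARSys.tr Y hMk := by
    intro M k k' hM hMk hkk' hgood
    have hk : i₁ ≤ k := hM.trans hMk
    have hk' : i₁ ≤ k' := hk.trans hkk'
    obtain ⟨h1, h2, h3⟩ := hb'' k hk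
    obtain ⟨h1', h2', h3'⟩ := hb'' k' hk'
    rw [← tr_tr Y hMk hkk', ← Category.assoc]
    apply hU k M hM hMk hgood
    · rw [Category.assoc, gg_nat hkk', ← Category.assoc, h2', Category.assoc, hγ hkk', h2]
    · rw [Category.assoc, tr_retr Y i₁ s hk hkk', h3', h3]
  obtain ⟨b, hbdef⟩ : ∃ b : ∀ n, B ⟶ Y.obj (op n), ∀ n, b n = b'' (K n) ≫ ARSys.tr Y (hnK n) :=
    ⟨_, fun _ => rfl⟩
  have hindep : ∀ (n k : ℕ) (hnk : n ≤ k), GoodX k (max n i₁) → max n i₁ ≤ k →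
      b'' k ≫ ARSys.tr Y hnk = b n := by
    intro n k hnk hgood hMk
    have hM : i₁ ≤ max n i₁ := le_max_right _ _
    have hnM : n ≤ max n i₁ := le_max_left _ _
    have e1 := h8 (max n i₁) k (max k (K n)) hM hMk (le_max_left _ _) hgood
    have e2 := h8 (max n i₁) (K n) (max k (K n)) hM (hK1 n) (le_max_right _ _) (hK2 n)
    have e3 : b'' k ≫ ARSys.tr Y hMk = b'' (K n) ≫ ARSys.tr Y (hK1 n) := e1.symm.trans e2
    rw [hbdef, ← tr_tr Y hnM hMk, ← tr_tr Y hnM (hK1 n), ← Category.assoc, ← Category.assoc, e3]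
  have hcone : ∀ {m n : ℕ} (hmn : m ≤ n), b n ≫ ARSys.tr Y hmn = b m := by
    intro m n hmn
    rw [hbdef n, Category.assoc, tr_tr Y hmn (hnK n)]
    exact hindep m (K n) _ ((hK2 n).mono_right hα (max_le_max_right i₁ hmn))
      ((max_le_max_right i₁ hmn).trans (hK1 n))
  have hb1 : ∀ n, u ≫ b n = α n ≫ ff n := by
    intro n
    obtain ⟨h1, -, -⟩ := hb'' (K n) (hiK n)
    rw [hbdef n, ← Category.assoc, h1, Category.assoc, ← ff_nat (hnK n), ← Category.assoc,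
      hα (hnK n)]
  have hb2 : ∀ n, b n ≫ gg n = v ≫ γ n := by
    intro n
    obtain ⟨-, h2, -⟩ := hb'' (K n) (hiK n)
    rw [hbdef n, Category.assoc, gg_nat (hnK n), ← Category.assoc, h2, Category.assoc,
      hγ (hnK n)]
  have hb3 : ∀ n, i₁ ≤ n → b n ≫ retr Y i₁ s n = 𝟙 B := by
    intro n hn
    obtain ⟨-, -, h3⟩ := hb'' (K n) (hiK n)
    rw [hbdef n, Category.assoc, tr_retr Y i₁ s hn (hnK n), h3]
  -- Step 9: the factorization property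
  have hΔf : ∀ (j k : ℕ) (_ : i₁ ≤ j) (hjk : j ≤ k),
      ff k ≫ (ARSys.tr Y hjk - retr Y i₁ s k ≫ b j) =
        (ARSys.tr X hjk - pA k ≫ α j) ≫ ff j := by
    intro j k hj hjk
    rw [Preadditive.comp_sub, Preadditive.sub_comp, ← ff_nat hjk, ← Category.assoc (ff k),
      fP k (hj.trans hjk), Category.assoc, Category.assoc, hb1 j]
  have hΔg : ∀ (j k : ℕ) (_ : i₁ ≤ j) (hjk : j ≤ k),
      (ARSys.tr Y hjk - retr Y i₁ s k ≫ b j) ≫ gg j =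
        gg k ≫ (ARSys.tr Z hjk - qC k ≫ γ j) := by
    intro j k hj hjk
    rw [Preadditive.sub_comp, Preadditive.comp_sub, gg_nat hjk, Category.assoc, hb2 j,
      ← Category.assoc (retr Y i₁ s k), Pv k (hj.trans hjk), Category.assoc]
  have hΔΔ : ∀ (j k₁ k₂ : ℕ) (_ : i₁ ≤ j) (h1 : j ≤ k₁) (h2 : k₁ ≤ k₂),
      (ARSys.tr Y h2 - retr Y i₁ s k₂ ≫ b k₁) ≫ (ARSys.tr Y h1 - retr Y i₁ s k₁ ≫ b j) =
        ARSys.tr Y (h1.trans h2) - retr Y i₁ s k₂ ≫ b j := by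
    intro j k₁ k₂ hj h1 h2
    have hk₁ : i₁ ≤ k₁ := hj.trans h1
    have e1 : ARSys.tr Y h2 ≫ retr Y i₁ s k₁ = retr Y i₁ s k₂ := tr_retr Y i₁ s hk₁ h2
    have e2 : b k₁ ≫ ARSys.tr Y h1 = b j := hcone h1
    have e3 : b k₁ ≫ retr Y i₁ s k₁ = 𝟙 B := hb3 k₁ hk₁
    simp only [Preadditive.sub_comp, Preadditive.comp_sub, Category.assoc]
    rw [tr_tr Y h1 h2, reassoc_of% e1, e2, reassoc_of% e3]
    abel
  refine ⟨B, b, i₁, s, fun h => hcone h, ?_, ?_⟩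
  · have := hb3 i₁ le_rfl
    rwa [retr_self] at this
  · intro j
    have hj' : i₁ ≤ max j i₁ := le_max_right _ _
    obtain ⟨k₁, hk₁, hgoodk₁⟩ := exists_good X α iA sA hkA (max j i₁) (max j i₁)
    obtain ⟨k₂, hk₂, hgoodk₂⟩ := exists_good Z γ iC sC hkC k₁ k₁
    have e1 : ff k₁ ≫ (ARSys.tr Y hk₁ - retr Y i₁ s k₁ ≫ b (max j i₁)) = 0 := by
      rw [hΔf _ _ hj' hk₁, hgoodk₁.eq hk₁, sub_self, zero_comp]
    obtain ⟨ρ, hρ⟩ : ∃ ρ : Z.obj (op k₁) ⟶ Y.obj (op (max j i₁)),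
        ARSys.tr Y hk₁ - retr Y i₁ s k₁ ≫ b (max j i₁) = gg k₁ ≫ ρ :=
      Triangle.yoneda_exact₂ _ (hT k₁) _ e1
    have e2 : (ARSys.tr Y hk₂ - retr Y i₁ s k₂ ≫ b k₁) ≫ gg k₁ = 0 := by
      rw [hΔg _ _ (hj'.trans hk₁) hk₂, hgoodk₂.eq hk₂, sub_self, comp_zero]
    have e3 := hΔΔ _ _ _ hj' hk₁ hk₂
    rw [hρ, ← Category.assoc, e2, zero_comp] at e3
    have hi₁k₂ : i₁ ≤ k₂ := (hj'.trans hk₁).trans hk₂
    refine ⟨k₂, hi₁k₂, ((le_max_left _ _).trans hk₁).trans hk₂, ?_⟩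
    have e4 : ARSys.tr Y (hk₁.trans hk₂) = retr Y i₁ s k₂ ≫ b (max j i₁) :=
      sub_eq_zero.1 e3.symm
    rw [← tr_tr Y (le_max_left j i₁) (hk₁.trans hk₂), e4, retr_eq Y i₁ s hi₁k₂, Category.assoc,
      Category.assoc, hcone]

end Core

/-- Essential constancy of the middle system of an inverse system of distinguished triangles. -/
theorem essConstant_middle
    (X Y Z : ARSys.PS D) (f : X ⟶ Y) (g : Y ⟶ Z) (h : Z ⟶ X ⋙ shiftFunctor D (1 : ℤ))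
    (hT : ∀ n : ℕ, Triangle.mk (f.app (op n)) (g.app (op n)) (h.app (op n)) ∈ distTriang D)
    (hX : ∃ (A : D) (cA : (Functor.const ℕᵒᵖ).obj A ⟶ X), DerCA.IsEssConstant X A cA)
    (hZ : ∃ (C : D) (cC : (Functor.const ℕᵒᵖ).obj C ⟶ Z), DerCA.IsEssConstant Z C cC) :
    ∃ (B : D) (cB : (Functor.const ℕᵒᵖ).obj B ⟶ Y), DerCA.IsEssConstant Y B cB := by
  obtain ⟨A, cA, iA, sA, hsA, hkA⟩ := hX
  obtain ⟨C, cC, iC, sC, hsC, hkC⟩ := hZ
  obtain ⟨B, b, i, s, hcone, hs, hk⟩ := core X Y Z (fun n => f.app (op n)) (fun n => g.app (op n))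
    (fun n => h.app (op n)) (fun n => cA.app (op n)) iA sA (fun n => cC.app (op n)) iC sC
    (fun hmn => f.naturality _) (fun hmn => g.naturality _) (fun hmn => h.naturality _) hT
    (fun hmn => cone_tr cA hmn) hsA hkA (fun hmn => cone_tr cC hmn) hsC hkC
  refine ⟨B, { app := fun n => b (unop n), naturality := ?_ }, i, s, hs, hk⟩
  rintro ⟨n⟩ ⟨m⟩ φ
  have hφ : φ = (homOfLE (leOfHom φ.unop)).op := Subsingleton.elim _ _
  rw [hφ]
  erw [Category.id_comp]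
  exact (hcone (leOfHom φ.unop)).symm

end Tri

end Groth.Agent.Lib.Helper2.EssConst
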