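import Mathlib.Algebra.Homology.DerivedCategory.Ext.ExactSequences
import Mathlib.Algebra.Homology.DerivedCategory.Fractions

set_option autoImplicit false
universe w v u
open CategoryTheory CategoryTheory.Limits CategoryTheory.Abelian

namespace Groth.Agent.Lib.Helper2

variable {A : Type u} [Category.{v} A] [Abelian A]

set_option backward.isDefEq.respectTransparency false in
set_option backward.defeqAttrib.useBackward true in
/-- Effaceability of `Ext^n`, `n ≠ 0`: every class is killed by pulling back along an epimorphism. -/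
lemma ext_effaceable [HasExt.{w} A] {X Y : A} {n : ℕ} (hn : n ≠ 0) (e : Ext X Y n) :
    ∃ (X' : A) (π : X' ⟶ X), Epi π ∧ (Ext.mk₀ π).comp e (zero_add n) = 0 := by
  let hDC := HasDerivedCategory.standard A
  let SX : CochainComplex A ℤ := (HomologicalComplex.single A (ComplexShape.up ℤ) 0).obj X
  let SY : CochainComplex A ℤ := (HomologicalComplex.single A (ComplexShape.up ℤ) 0).obj Y
  let f : DerivedCategory.Q.obj SX ⟶ DerivedCategory.Q.obj (SY⟦(n : ℤ)⟧) :=
    e.hom ≫ ((DerivedCategory.Q.commShiftIso (n : ℤ)).app SY).inv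
  obtain ⟨X', hX', s, hs, g, hfac⟩ := DerivedCategory.right_fac_of_isStrictlyLE f 0
  let j : (HomologicalComplex.single A (ComplexShape.up ℤ) 0).obj (X'.X 0) ⟶ X' :=
    HomologicalComplex.mkHomFromSingle (𝟙 _) (fun k hk =>
      (X'.isZero_of_isStrictlyLE 0 k (by simp at hk; lia)).eq_of_tgt _ _)
  have hjg : j ≫ g = 0 := by
    apply HomologicalComplex.from_single_hom_ext
    apply IsZero.eq_of_tgt
    exact HomologicalComplex.isZero_single_obj_X (ComplexShape.up ℤ) 0 Y _ (by simpa using hn)
  let π : X'.X 0 ⟶ X := s.f 0 ≫ (HomologicalComplex.singleObjXSelf (ComplexShape.up ℤ) 0 X).hom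
  have hπ : (CochainComplex.singleFunctor A 0).map π = j ≫ s := by
    apply HomologicalComplex.from_single_hom_ext
    simp [π, j, CochainComplex.singleFunctor, CochainComplex.singleFunctors,
      HomologicalComplex.single_map_f_self, HomologicalComplex.mkHomFromSingle_f]
  have hq : QuasiIso s := (DerivedCategory.isIso_Q_map_iff_quasiIso A s).1 hs
  have hepi : Epi (s.f 0) := by
    have hq0 : QuasiIsoAt s 0 := inferInstance
    rw [quasiIsoAt_iff] at hq0
    have hg₁ : ((HomologicalComplex.shortComplexFunctor A (ComplexShape.up ℤ) 0).obj X').g = 0 :=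
      (X'.isZero_of_isStrictlyLE 0 _ (by simp)).eq_of_tgt _ _
    have hf₂ : ((HomologicalComplex.shortComplexFunctor A (ComplexShape.up ℤ) 0).obj SX).f = 0 :=
      (HomologicalComplex.isZero_single_obj_X (ComplexShape.up ℤ) 0 X _ (by simp)).eq_of_src _ _
    have hg₂ : ((HomologicalComplex.shortComplexFunctor A (ComplexShape.up ℤ) 0).obj SX).g = 0 :=
      (HomologicalComplex.isZero_single_obj_X (ComplexShape.up ℤ) 0 X _ (by simp)).eq_of_tgt _ _
    rw [ShortComplex.quasiIso_iff_isIso_descOpcycles _ hg₁ hf₂ hg₂] at hq0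
    have hpd := ShortComplex.p_descOpcycles
      ((HomologicalComplex.shortComplexFunctor A (ComplexShape.up ℤ) 0).obj X')
      ((HomologicalComplex.shortComplexFunctor A (ComplexShape.up ℤ) 0).map s).τ₂
      (by rw [← ((HomologicalComplex.shortComplexFunctor A (ComplexShape.up ℤ) 0).map s).comm₁₂, hf₂,
        comp_zero])
    have h2 : ((HomologicalComplex.shortComplexFunctor A (ComplexShape.up ℤ) 0).map s).τ₂ = s.f 0 := rfl
    rw [← h2, ← hpd]
    have := hq0
    have h3 : Epi ((HomologicalComplex.shortComplexFunctor A (ComplexShape.up ℤ) 0).obj X').pOpcycles :=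
      inferInstance
    exact epi_comp _ _
  have hepi2 : Epi π := by
    have : IsIso (HomologicalComplex.singleObjXSelf (ComplexShape.up ℤ) 0 X).hom :=
      Iso.isIso_hom _
    exact epi_comp _ _
  refine ⟨X'.X 0, π, hepi2, ?_⟩
  apply Ext.ext
  rw [Ext.comp_hom, Ext.mk₀_hom, ShiftedHom.mk₀_comp, Ext.zero_hom]
  have he : e.hom = f ≫ ((DerivedCategory.Q.commShiftIso (n : ℤ)).app SY).hom := by
    dsimp only [f]
    rw [Category.assoc, Iso.inv_hom_id, Category.comp_id]
  change DerivedCategory.Q.map ((CochainComplex.singleFunctor A 0).map π) ≫ e.hom = 0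
  rw [hπ, he, hfac, CategoryTheory.Functor.map_comp]
  simp only [Category.assoc, IsIso.hom_inv_id_assoc]
  rw [← CategoryTheory.Functor.map_comp_assoc, hjg, CategoryTheory.Functor.map_zero, zero_comp]

end Groth.Agent.Lib.Helper2
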