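import Groth.Agent.Lib.Helper2.SuppAdj
import Groth.Agent.Lib.Helper2.ModHomAcyclic

/-!
# Sections with support commute with the internal hom (helper2)

* `commIso`: abstractly, `Q ⋙ F ≅ F ⋙ Q` for a cokernel-preserving `F` satisfying two vanishing
  conditions.
* `quotTensorIso : Q(T) ⊗ M ≅ Q(T ⊗ M)`, naturally in `T`.
* `sheafHomSectOnIso : ℋom(M, -) ⋙ Γ_Z ≅ Γ_Z ⋙ ℋom(M, -)`.
-/

set_option autoImplicit false
universe u
open CategoryTheory CategoryTheory.Limits Opposite

noncomputable section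

namespace Groth.Agent.Lib.Helper2.SuppTensor

open Groth.Agent.Lib.Helper2.SuppAdj

section Abstract

variable {A B : Type*} [Category A] [Category B] [Abelian A] [Preadditive B]
  {L : B ⥤ A} {R : A ⥤ B} (adj₁ : L ⊣ R) (F : A ⥤ A) [F.PreservesZeroMorphisms]
  [∀ T : A, PreservesColimit (parallelPair (adj₁.counit.app T) 0) F]
  (H1 : ∀ T : A, F.map (adj₁.counit.app T) ≫ cokernel.π (adj₁.counit.app (F.obj T)) = 0)
  (H2 : ∀ T : A, adj₁.counit.app (F.obj T) ≫ F.map (cokernel.π (adj₁.counit.app T)) = 0)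

/-- `F (Q T) ⟶ Q (F T)`. -/
def commA (T : A) : F.obj (cokernel (adj₁.counit.app T)) ⟶ cokernel (adj₁.counit.app (F.obj T)) :=
  (PreservesCokernel.iso F (adj₁.counit.app T)).hom ≫
    cokernel.desc (F.map (adj₁.counit.app T)) (cokernel.π (adj₁.counit.app (F.obj T))) (H1 T)

/-- `Q (F T) ⟶ F (Q T)`. -/
def commB (T : A) : cokernel (adj₁.counit.app (F.obj T)) ⟶ F.obj (cokernel (adj₁.counit.app T)) :=
  cokernel.desc (adj₁.counit.app (F.obj T)) (F.map (cokernel.π (adj₁.counit.app T))) (H2 T)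

lemma π_commA (T : A) :
    F.map (cokernel.π (adj₁.counit.app T)) ≫ commA adj₁ F H1 T =
      cokernel.π (adj₁.counit.app (F.obj T)) := by
  unfold commA
  rw [← Category.assoc, PreservesCokernel.π_iso_hom, cokernel.π_desc]

lemma π_commB (T : A) :
    cokernel.π (adj₁.counit.app (F.obj T)) ≫ commB adj₁ F H2 T =
      F.map (cokernel.π (adj₁.counit.app T)) :=
  cokernel.π_desc _ _ _

instance epi_map_π (T : A) : Epi (F.map (cokernel.π (adj₁.counit.app T))) := by
  have h : F.map (cokernel.π (adj₁.counit.app T)) =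
      cokernel.π (F.map (adj₁.counit.app T)) ≫ (PreservesCokernel.iso F (adj₁.counit.app T)).inv := by
    rw [← PreservesCokernel.π_iso_hom, Category.assoc, Iso.hom_inv_id, Category.comp_id]
  rw [h]
  infer_instance

/-- the components of `Q ⋙ F ≅ F ⋙ Q`. -/
def commIsoApp (T : A) :
    F.obj (cokernel (adj₁.counit.app T)) ≅ cokernel (adj₁.counit.app (F.obj T)) where
  hom := commA adj₁ F H1 T
  inv := commB adj₁ F H2 T
  hom_inv_id := by
    rw [← cancel_epi (F.map (cokernel.π (adj₁.counit.app T))), ← Category.assoc, π_commA,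
      π_commB, Category.comp_id]
  inv_hom_id := by
    rw [← cancel_epi (cokernel.π (adj₁.counit.app (F.obj T))), ← Category.assoc, π_commB,
      π_commA, Category.comp_id]

omit [F.PreservesZeroMorphisms]
  [∀ T : A, PreservesColimit (parallelPair (adj₁.counit.app T) 0) F] in
lemma π_Qf_map {T T' : A} (g : T ⟶ T') :
    cokernel.π (adj₁.counit.app T) ≫ (Qf adj₁).map g = g ≫ cokernel.π (adj₁.counit.app T') :=
  cokernel.π_desc _ _ _

/-- **`Q ⋙ F ≅ F ⋙ Q`.** -/
def commIso : Qf adj₁ ⋙ F ≅ F ⋙ Qf adj₁ :=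
  NatIso.ofComponents (fun T => commIsoApp adj₁ F H1 H2 T) (by
    intro T T' g
    change F.map ((Qf adj₁).map g) ≫ commA adj₁ F H1 T' =
      commA adj₁ F H1 T ≫ (Qf adj₁).map (F.map g)
    refine (cancel_epi (F.map (cokernel.π (adj₁.counit.app T)))).1 ?_
    have e1 : F.map (cokernel.π (adj₁.counit.app T)) ≫ F.map ((Qf adj₁).map g) =
        F.map g ≫ F.map (cokernel.π (adj₁.counit.app T')) := by
      rw [← F.map_comp, ← F.map_comp]
      exact congrArg F.map (π_Qf_map adj₁ g)
    calc F.map (cokernel.π (adj₁.counit.app T)) ≫ F.map ((Qf adj₁).map g) ≫ commA adj₁ F H1 T'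
        = (F.map (cokernel.π (adj₁.counit.app T)) ≫ F.map ((Qf adj₁).map g)) ≫
            commA adj₁ F H1 T' := (Category.assoc _ _ _).symm
      _ = (F.map g ≫ F.map (cokernel.π (adj₁.counit.app T'))) ≫ commA adj₁ F H1 T' :=
          congrArg (fun t => t ≫ commA adj₁ F H1 T') e1
      _ = F.map g ≫ cokernel.π (adj₁.counit.app (F.obj T')) := by
          rw [Category.assoc, π_commA]
      _ = cokernel.π (adj₁.counit.app (F.obj T)) ≫ (Qf adj₁).map (F.map g) :=
          (π_Qf_map adj₁ (F.map g)).symm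
      _ = (F.map (cokernel.π (adj₁.counit.app T)) ≫ commA adj₁ F H1 T) ≫
            (Qf adj₁).map (F.map g) := by rw [π_commA]
      _ = _ := Category.assoc _ _ _)

end Abstract

section Concrete

open MonoidalCategory
open Groth.Agent.Lib.Helper13 Groth.Agent.Lib.Helper13.ModSiteTensor
  Groth.Agent.Lib.Helper13.ModSiteUnitor Groth.Agent.Lib.Helper13.ModShriekGen

variable {C : Type u} [SmallCategory C] {J : GrothendieckTopology C}
  (O : Sheaf J CommRingCat.{u}) (U : C) (M : ModSite.Mod O)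

/-- `A ⊗ M` is null on `U` if `A` is. -/
lemma isNullOn_tens (A : ModSite.Mod O) (hA : ModSite.IsNullOn O U A) :
    ModSite.IsNullOn O U (((ModSite.tensorBi O).flip.obj M).obj A) := by
  rw [ExtSupp.isNullOn_iff]
  intro V g x
  let P : PMod O := MonoidalCategory.tensorObj ((fgt O).obj A) ((fgt O).obj M)
  change ((shf O).obj P).val.obj (op V) at x
  obtain ⟨S, hS, hs⟩ := TensorLocal.locSurj_unit (𝟙 (ModSite.ringSh O).obj) P V x
  refine eq_of_cover ((shf O).obj P) S hS x 0 ?_
  intro W f hf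
  have hsub : ∀ t' : TensorProduct (O.obj.obj (op W)) ↑(((fgt O).obj A).obj (op W))
      ↑(((fgt O).obj M).obj (op W)), t' = 0 := by
    intro t'
    induction t' using TensorProduct.induction_on with
    | zero => rfl
    | tmul a m =>
      have ha : a = 0 := (ExtSupp.isNullOn_iff O U A).1 hA (f ≫ g) a
      rw [ha, TensorProduct.zero_tmul]
    | add x y hx hy => rw [hx, hy, zero_add]
  obtain ⟨t, ht⟩ := hs f hf
  have ht0 : t = 0 := hsub t
  rw [ht0, map_zero] at ht
  exact ht.symm.trans (map_zero _).symm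

/-- `ℋom(M, B)` is null on `U` if `B` is. -/
lemma isNullOn_sheafHom [ModSite.HasSheafHom M] (B : ModSite.Mod O)
    (hB : ModSite.IsNullOn O U B) :
    ModSite.IsNullOn O U ((ModSite.sheafHom M).obj B) := by
  rw [ExtSupp.isNullOn_iff]
  intro V g x
  apply (sheafHomSectEquiv O M B V).injective
  have hz : IsZero ((ModSite.restr O V).obj B) := ExtSupp.isNullOn_of_hom O g hB
  exact hz.eq_of_tgt _ _

variable [ModSite.HasPushOver O U] [ModSite.HasSheafHom M]

/-- `- ⊗ M`. -/
abbrev tensM : ModSite.Mod O ⥤ ModSite.Mod O := (ModSite.tensorBi O).flip.obj M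

lemma H2 (T : ModSite.Mod O) :
    (ModSite.extZeroAdj O U).counit.app ((tensM O M).obj T) ≫
      (tensM O M).map (cokernel.π ((ModSite.extZeroAdj O U).counit.app T)) = 0 := by
  rw [counit_comp_eq_zero_iff]
  exact (isNullOn_tens O U M _ (ExtSupp.isNullOn_quotOn O U T)).eq_of_tgt _ _

lemma H1 (T : ModSite.Mod O) :
    (tensM O M).map ((ModSite.extZeroAdj O U).counit.app T) ≫
      cokernel.π ((ModSite.extZeroAdj O U).counit.app ((tensM O M).obj T)) = 0 := by
  apply ((ModSite.sheafHomAdj M).homEquiv _ _).injective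
  rw [Adjunction.homEquiv_naturality_left]
  have h0 : (ModSite.sheafHomAdj M).homEquiv _ _
      (0 : (tensM O M).obj ((ModSite.restr O U ⋙ ModSite.extZero O U).obj T) ⟶
        cokernel ((ModSite.extZeroAdj O U).counit.app ((tensM O M).obj T))) = 0 := by
    rw [Adjunction.homEquiv_unit, Functor.map_zero, comp_zero]
  rw [h0, counit_comp_eq_zero_iff]
  exact (isNullOn_sheafHom O U M _ (ExtSupp.isNullOn_quotOn O U _)).eq_of_tgt _ _

instance (T : ModSite.Mod O) :
    PreservesColimit (parallelPair ((ModSite.extZeroAdj O U).counit.app T) 0) (tensM O M) :=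
  haveI : PreservesColimitsOfSize.{0, 0} (tensM O M) :=
    (ModSite.sheafHomAdj M).leftAdjoint_preservesColimits
  inferInstance

/-- **`Q(T) ⊗ M ≅ Q(T ⊗ M)`, naturally in `T`.** -/
def quotTensorIso : ModSite.quotOn O U ⋙ tensM O M ≅ tensM O M ⋙ ModSite.quotOn O U :=
  commIso (ModSite.extZeroAdj O U) (tensM O M) (H1 O U M) (H2 O U M)

/-- **`ℋom(M, -) ⋙ Γ_Z ≅ Γ_Z ⋙ ℋom(M, -)`.** -/
def sheafHomSectOnIso :
    ModSite.sheafHom M ⋙ ModSite.sectOn O U ≅ ModSite.sectOn O U ⋙ ModSite.sheafHom M :=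
  Adjunction.rightAdjointUniq
    (((adjQuotSect O U).comp (ModSite.sheafHomAdj M)).ofNatIsoLeft (quotTensorIso O U M))
    ((ModSite.sheafHomAdj M).comp (adjQuotSect O U))

end Concrete

end Groth.Agent.Lib.Helper2.SuppTensor
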