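import Mathlib.CategoryTheory.Galois.Equivalence
import Mathlib.CategoryTheory.Galois.IsFundamentalgroup
import Mathlib.Topology.Algebra.ClopenNhdofOne
import Groth.Prelude.Def_Pi1X

/-!
# Homomorphisms of fundamental groups induced by functors of Galois categories

Helper lemmas on Galois categories: realization of open subgroups as stabilizers, classification of
morphisms out of connected objects by stabilizers, sections from the terminal object, objects
with trivial action, continuity of `Pi1X.autWhisker`.
-/

set_option autoImplicit false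

namespace Groth.Agent.Lib.Helper2.GaloisHom

open CategoryTheory PreGaloisCategory Limits

universe u v w

lemma exists_open_subgroup_not_mem {G : Type*} [Group G] [TopologicalSpace G]
    [IsTopologicalGroup G] [CompactSpace G] [TotallyDisconnectedSpace G] (K : Subgroup G)
    (hK : IsClosed (K : Set G)) {g : G} (hg : g ∉ K) :
    ∃ U : Subgroup G, IsOpen (U : Set G) ∧ K ≤ U ∧ g ∉ U := by
  by_contra hcon
  push Not at hcon
  apply hg
  have h := ProfiniteGrp.closedSubgroup_eq_sInf_open (⟨K, hK⟩ : ClosedSubgroup G)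
  change K = _ at h
  rw [h, Subgroup.mem_sInf]
  rintro U ⟨hU, hKU⟩
  exact hcon U hU hKU

section single

variable {C : Type u} [Category.{v} C] [GaloisCategory C] (F : C ⥤ FintypeCat.{w}) [FiberFunctor F]

lemma map_injective_of_mono {X Y : C} (i : X ⟶ Y) [Mono i] : Function.Injective (F.map i) :=
  ConcreteCategory.injective_of_mono_of_preservesPullback (F.map i)

/-- An object whose fibre is nonempty and carries a transitive action is connected. -/
lemma isConnected_of_isPretransitive (X : C) [Nonempty (F.obj X)]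
    [MulAction.IsPretransitive (Aut F) (F.obj X)] : IsConnected X where
  notInitial h := by
    obtain ⟨x⟩ := ‹Nonempty (F.obj X)›
    exact not_initial_of_inhabited F x h
  noTrivialComponent Y i _ hY := by
    have hne : Nonempty (F.obj Y) := (not_initial_iff_fiber_nonempty F Y).mp hY
    obtain ⟨y⟩ := hne
    have hinj : Function.Injective (F.map i) := map_injective_of_mono F i
    have hsurj : Function.Surjective (F.map i) := by
      intro x
      obtain ⟨σ, hσ⟩ := MulAction.exists_smul_eq (Aut F) (F.map i y) x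
      refine ⟨σ • y, ?_⟩
      rw [← mulAction_naturality, hσ]
    have : IsIso (F.map i) :=
      (ConcreteCategory.isIso_iff_bijective (F.map i)).mpr ⟨hinj, hsurj⟩
    exact isIso_of_reflects_iso i F

/-- The fibre of the terminal object has exactly one element. -/
@[instance_reducible]
noncomputable def uniqueFiberTerminal : Unique (F.obj (⊤_ C)) :=
  Types.isTerminalEquivUnique _ (IsTerminal.isTerminalObj (F ⋙ FintypeCat.incl) (⊤_ C) terminalIsTerminal)

instance : Subsingleton (F.obj (⊤_ C)) := (uniqueFiberTerminal F).instSubsingleton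
instance : Nonempty (F.obj (⊤_ C)) := ⟨(uniqueFiberTerminal F).default⟩

/-- An object with a one-point fibre is terminal: the map to the terminal object is an iso. -/
lemma isIso_terminal_from_of_unique (Y : C) [Subsingleton (F.obj Y)] [Nonempty (F.obj Y)] :
    IsIso (terminal.from Y) := by
  have : IsIso (F.map (terminal.from Y)) := by
    rw [ConcreteCategory.isIso_iff_bijective]
    refine ⟨fun a b _ => Subsingleton.elim a b, fun t => ?_⟩
    obtain ⟨y⟩ := ‹Nonempty (F.obj Y)›
    exact ⟨y, Subsingleton.elim _ _⟩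
  exact isIso_of_reflects_iso _ F

/-- The fundamental group acts trivially on the fibre of a finite coproduct of terminal objects. -/
lemma smul_eq_of_iso_sigma_terminal {X : C} {n : ℕ} (e : X ≅ ∐ fun _ : Fin n => ⊤_ C)
    (σ : Aut F) (a : F.obj X) : σ • a = a := by
  let f : Fin n → C := fun _ => ⊤_ C
  obtain ⟨⟨j⟩, t, ht⟩ := Limits.FintypeCat.jointly_surjective (Discrete.functor f ⋙ F) _
    (isColimitOfPreserves F (coproductIsCoproduct f)) (F.map e.hom a)
  have ht' : F.map (Sigma.ι f j) t = F.map e.hom a := ht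
  have hinj : Function.Injective (F.map e.hom) := map_injective_of_mono F e.hom
  apply hinj
  rw [← mulAction_naturality, ← ht', mulAction_naturality]
  congr 1
  exact Subsingleton.elim (α := F.obj (⊤_ C)) _ _

/-- If the fundamental group acts trivially on the fibre of `X`, then `X` is a finite coproduct of
copies of the terminal object. -/
lemma exists_iso_sigma_terminal_of_trivial {X : C} (h : ∀ (σ : Aut F) (a : F.obj X), σ • a = a) :
    ∃ n : ℕ, Nonempty (X ≅ ∐ fun _ : Fin n => ⊤_ C) := by
  obtain ⟨ι, f, g, hl, hc, hfin⟩ := has_decomp_connected_components X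
  have hmono : ∀ i, Mono (g i) := fun i => MonoCoprod.mono_inj f (Cofan.mk X g) hl i
  have hiso : ∀ i, IsIso (terminal.from (f i)) := by
    intro i
    have := hc i
    have := hmono i
    have hinj := map_injective_of_mono F (g i)
    obtain ⟨y⟩ := nonempty_fiber_of_isConnected F (f i)
    have hsub : Subsingleton (F.obj (f i)) := by
      have key : ∀ z : F.obj (f i), z = y := by
        intro z
        obtain ⟨σ, hσ⟩ := MulAction.exists_smul_eq (Aut F) y z
        rw [← hσ]
        apply hinj
        rw [← mulAction_naturality, h σ]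
      exact ⟨fun y₁ y₂ => by rw [key y₁, key y₂]⟩
    have hne : Nonempty (F.obj (f i)) := ⟨y⟩
    exact isIso_terminal_from_of_unique F (f i)
  let e1 : X ≅ ∐ f := (colimit.isoColimitCocone ⟨Cofan.mk X g, hl⟩).symm
  let e2 : ∐ f ≅ ∐ fun _ : Fin (Nat.card ι) => ⊤_ C :=
    Sigma.whiskerEquiv (Finite.equivFin ι) (fun i => (@asIso _ _ _ _ _ (hiso i)).symm)
  exact ⟨Nat.card ι, ⟨e1 ≪≫ e2⟩⟩

lemma trivial_iff_iso_sigma_terminal (X : C) :
    (∀ (σ : Aut F) (a : F.obj X), σ • a = a) ↔ ∃ n : ℕ, Nonempty (X ≅ ∐ fun _ : Fin n => ⊤_ C) :=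
  ⟨exists_iso_sigma_terminal_of_trivial F, fun ⟨_, ⟨e⟩⟩ σ a => smul_eq_of_iso_sigma_terminal F e σ a⟩

/-- A point of a fibre fixed by the whole fundamental group comes from a section out of the
terminal object. -/
lemma exists_section_of_fixed {X : C} (a : F.obj X) (h : ∀ σ : Aut F, σ • a = a) :
    ∃ s : ⊤_ C ⟶ X, ∀ t : F.obj (⊤_ C), F.map s t = a := by
  obtain ⟨Y, i, y, hy, hconn, hmono⟩ := fiber_in_connected_component F X a
  have hinj := map_injective_of_mono F i
  have hsub : Subsingleton (F.obj Y) := by
    refine ⟨fun y₁ y₂ => ?_⟩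
    have key : ∀ z : F.obj Y, z = y := by
      intro z
      obtain ⟨σ, hσ⟩ := MulAction.exists_smul_eq (Aut F) y z
      rw [← hσ]
      apply hinj
      rw [← mulAction_naturality, hy, h σ]
    rw [key y₁, key y₂]
  have hne : Nonempty (F.obj Y) := ⟨y⟩
  have := isIso_terminal_from_of_unique F Y
  refine ⟨inv (terminal.from Y) ≫ i, fun t => ?_⟩
  rw [F.map_comp, FintypeCat.comp_apply, Subsingleton.elim (F.map (inv (terminal.from Y)) t) y, hy]

lemma fixed_of_section {X : C} (a : F.obj X) (s : ⊤_ C ⟶ X) (hs : ∀ t : F.obj (⊤_ C), F.map s t = a)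
    (σ : Aut F) : σ • a = a := by
  obtain ⟨t⟩ := (inferInstance : Nonempty (F.obj (⊤_ C)))
  rw [← hs t, mulAction_naturality, Subsingleton.elim (σ • t) t]

/-- Morphisms out of a connected object are classified by stabilizers. -/
lemma exists_hom_of_stabilizer_le {Y X : C} [IsConnected Y] (b : F.obj Y) (a : F.obj X)
    (h : MulAction.stabilizer (Aut F) b ≤ MulAction.stabilizer (Aut F) a) :
    ∃ q : Y ⟶ X, F.map q b = a := by
  classical
  have hex : ∀ y : F.obj Y, ∃ σ : Aut F, σ • b = y := fun y => MulAction.exists_smul_eq (Aut F) b y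
  choose g hg using hex
  have hwd : ∀ (σ : Aut F) (y : F.obj Y), σ • b = y → σ • a = g y • a := by
    intro σ y hσ
    have : (g y)⁻¹ * σ ∈ MulAction.stabilizer (Aut F) b := by
      rw [MulAction.mem_stabilizer_iff, mul_smul, hσ, inv_smul_eq_iff, hg y]
    have h2 := h this
    rw [MulAction.mem_stabilizer_iff, mul_smul, inv_smul_eq_iff] at h2
    exact h2
  let f : (functorToAction F).obj Y ⟶ (functorToAction F).obj X :=
    { hom := FintypeCat.homMk (fun y : F.obj Y => (g y • a : F.obj X))
      comm := fun σ => by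
        ext (y : F.obj Y)
        change g (σ • y) • a = σ • (g y • a)
        rw [← hwd (σ * g y) (σ • y) (by rw [mul_smul, hg y]), mul_smul] }
  obtain ⟨q, hq⟩ := (functorToAction F).map_surjective f
  refine ⟨q, ?_⟩
  have h1 : F.map q = f.hom := by rw [← hq]; rfl
  rw [h1]
  change g b • a = a
  exact (hwd 1 b (one_smul _ _)).symm.trans (one_smul _ _)

/-- Special case of the realization lemma where the universes are aligned. -/
lemma exists_isConnected_stabilizer_eq_aux (F : C ⥤ FintypeCat.{u}) [FiberFunctor F]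
    (U : OpenSubgroup (Aut F)) :
    ∃ (X : C) (_ : IsConnected X) (a : F.obj X), MulAction.stabilizer (Aut F) a = U.toSubgroup := by
  obtain ⟨X, ⟨φ⟩⟩ := exists_lift_of_quotient_openSubgroup U
  have hφ : ∀ (σ : Aut F) (x : F.obj X), φ.hom.hom (σ • x) = (σ • φ.hom.hom x : Aut F ⧸ U.toSubgroup) :=
    fun σ x => ConcreteCategory.congr_hom (φ.hom.comm σ) x
  have hbij : Function.Bijective φ.hom.hom := by
    have : IsIso φ.hom.hom := inferInstanceAs (IsIso ((Action.forget _ _).map φ.hom))
    exact (ConcreteCategory.isIso_iff_bijective φ.hom.hom).mp this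
  obtain ⟨a, ha⟩ := hbij.2 (QuotientGroup.mk 1 : Aut F ⧸ U.toSubgroup)
  have hne : Nonempty (F.obj X) := ⟨a⟩
  have htrans : MulAction.IsPretransitive (Aut F) (F.obj X) := by
    refine ⟨fun x y => ?_⟩
    obtain ⟨g, hg⟩ := @MulAction.exists_smul_eq (Aut F) (Aut F ⧸ U.toSubgroup) _ _
      (φ.hom.hom x) (φ.hom.hom y)
    exact ⟨g, hbij.1 ((hφ g x).trans hg)⟩
  refine ⟨X, isConnected_of_isPretransitive F X, a, ?_⟩
  ext σ
  rw [MulAction.mem_stabilizer_iff]
  constructor
  · intro h
    have h2 := congrArg φ.hom.hom h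
    rw [hφ, ha] at h2
    have : σ ∈ MulAction.stabilizer (Aut F) (QuotientGroup.mk 1 : Aut F ⧸ U.toSubgroup) := h2
    rwa [MulAction.stabilizer_quotient] at this
  · intro h
    apply hbij.1
    rw [hφ, ha]
    have : σ ∈ MulAction.stabilizer (Aut F) (QuotientGroup.mk 1 : Aut F ⧸ U.toSubgroup) := by
      rwa [MulAction.stabilizer_quotient]
    exact this

/-- Every open subgroup of the fundamental group is the stabilizer of a point in the fibre of a
connected object. -/
lemma exists_isConnected_stabilizer_eq (U : Subgroup (Aut F)) (hU : IsOpen (U : Set (Aut F))) :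
    ∃ (X : C) (_ : IsConnected X) (a : F.obj X), MulAction.stabilizer (Aut F) a = U := by
  let F' : C ⥤ FintypeCat.{u} := F ⋙ FintypeCat.uSwitch.{w, u}
  let _ : FiberFunctor F' := FiberFunctor.comp_right _
  let e : Aut F ≃ₜ* Aut F' :=
    autEquivAutWhiskerRight F (FintypeCat.uSwitchEquivalence.{w, u}).fullyFaithfulFunctor
  let U' : OpenSubgroup (Aut F') :=
    ⟨U.comap e.symm.toMonoidHom, hU.preimage e.symm.continuous⟩
  obtain ⟨X, hX, a', ha'⟩ := exists_isConnected_stabilizer_eq_aux F' U'
  refine ⟨X, hX, (F.obj X).uSwitchEquiv a', ?_⟩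
  have key : ∀ σ : Aut F, σ • (F.obj X).uSwitchEquiv a' =
      (F.obj X).uSwitchEquiv ((e σ • a' : F'.obj X)) := by
    intro σ
    exact FintypeCat.uSwitchEquiv_naturality (σ.hom.app X) a'
  ext σ
  rw [MulAction.mem_stabilizer_iff, key, Equiv.apply_eq_iff_eq]
  have h1 : (e σ • a' : F'.obj X) = a' ↔ e σ ∈ MulAction.stabilizer (Aut F') a' := Iff.rfl
  rw [h1, ha']
  change e.symm (e σ) ∈ U ↔ _
  rw [ContinuousMulEquiv.symm_apply_apply]

end single

section hom

variable {C C' : Type u} [Category.{v} C] [Category.{v} C'] (H : C ⥤ C') (F' : C' ⥤ FintypeCat.{w})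

lemma autWhisker_smul {X : C} (σ : Aut F') (a : (H ⋙ F').obj X) :
    (Pi1X.autWhisker H F' σ) • a = σ.hom.app (H.obj X) a := rfl

lemma continuous_autWhisker : Continuous (Pi1X.autWhisker H F') := by
  rw [Topology.IsInducing.continuous_iff (autEmbedding_isClosedEmbedding _).isInducing,
    continuous_pi_iff]
  intro X
  change Continuous fun σ : Aut F' => autEmbedding F' σ (H.obj X)
  exact (continuous_apply (H.obj X)).comp (autEmbedding_isClosedEmbedding F').continuous

lemma isClosed_range_autWhisker :
    IsClosed ((Pi1X.autWhisker H F').range : Set (Aut (H ⋙ F'))) := by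
  have : ((Pi1X.autWhisker H F').range : Set (Aut (H ⋙ F'))) = Set.range (Pi1X.autWhisker H F') := by
    ext; simp
  rw [this]
  exact (isCompact_range (continuous_autWhisker H F')).isClosed

end hom

end Groth.Agent.Lib.Helper2.GaloisHom
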