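import Mathlib
import Groth.Agent.Lib.Helper2.IRes
import Groth.Agent.Lib.Helper2.PResRel

/-!
# Relative right resolutions (helper2)

Dual of `PResRel`: any morphism `g : K' ⟶ R` of bounded below complexes with `R` termwise in a
class `I` (closed under isomorphisms and binary sums, containing zero, every object embedding into
an object of `I`) factors as `K' ⟶ R' ⟶ R` where `K' ⟶ R'` is a termwise monomorphic
quasi-isomorphism and `R' ⟶ R` is a termwise split epimorphism with kernel termwise in `I`.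
-/

set_option autoImplicit false
universe v u
open CategoryTheory CategoryTheory.Limits HomologicalComplex

namespace Groth.Agent.Lib.Helper2.IRes

section Disk

variable {A : Type u} [Category.{v} A] [Abelian A] (R : CochainComplex A ℤ)

noncomputable abbrev DX (n : ℤ) : A := R.X n ⊞ R.X (n - 1)

noncomputable def Dd (n : ℤ) : DX R n ⟶ DX R (n + 1) :=
  biprod.fst ≫ (R.XIsoOfEq (show n = n + 1 - 1 by lia)).hom ≫ biprod.inr

lemma Dd_comp (n : ℤ) : Dd R n ≫ Dd R (n + 1) = 0 := by simp [Dd]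

noncomputable def Dπ (n : ℤ) : DX R n ⟶ R.X n := biprod.desc (𝟙 _) (R.d (n - 1) n)

lemma Dπ_comm (n : ℤ) : Dπ R n ≫ R.d n (n + 1) = Dd R n ≫ Dπ R (n + 1) := by
  apply biprod.hom_ext' <;> simp [Dd, Dπ]

noncomputable def disk : CochainComplex A ℤ := CochainComplex.of (DX R) (Dd R) (Dd_comp R)

noncomputable def diskπ : disk R ⟶ R where
  f n := Dπ R n
  comm' i j hij := by
    obtain rfl : i + 1 = j := hij
    dsimp only [disk]
    rw [CochainComplex.of_d]
    exact Dπ_comm R i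

lemma inl_diskπ_f (n : ℤ) : (biprod.inl : R.X n ⟶ DX R n) ≫ (diskπ R).f n = 𝟙 _ := by
  simp [diskπ, Dπ]

lemma Dd_exact_aux (n : ℤ) {T : A} (x : T ⟶ DX R (n + 1)) (hx : x ≫ Dd R (n + 1) = 0) :
    ∃ y : T ⟶ DX R n, x = y ≫ Dd R n := by
  have h1 : x ≫ biprod.fst = 0 := by
    haveI : Mono ((R.XIsoOfEq (show n + 1 = n + 1 + 1 - 1 by lia)).hom ≫
        (biprod.inr : R.X (n + 1 + 1 - 1) ⟶ DX R (n + 1 + 1))) := mono_comp _ _
    rw [← cancel_mono ((R.XIsoOfEq (show n + 1 = n + 1 + 1 - 1 by lia)).hom ≫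
        (biprod.inr : R.X (n + 1 + 1 - 1) ⟶ DX R (n + 1 + 1))), zero_comp, Category.assoc]
    exact hx
  refine ⟨(x ≫ biprod.snd ≫ (R.XIsoOfEq (show n + 1 - 1 = n by lia)).hom) ≫ biprod.inl, ?_⟩
  have h2 : x = x ≫ biprod.snd ≫ biprod.inr := by
    conv_lhs => rw [← Category.comp_id x, ← biprod.total, Preadditive.comp_add,
      ← Category.assoc, h1, zero_comp, zero_add]
  conv_lhs => rw [h2]
  simp [Dd]

lemma disk_exactAt (m : ℤ) : (disk R).ExactAt m := by
  obtain ⟨n, rfl⟩ : ∃ n, m = n + 1 := ⟨m - 1, by lia⟩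
  rw [HomologicalComplex.exactAt_iff' _ n (n + 1) (n + 1 + 1) (by simp) (by simp),
    ShortComplex.exact_iff_exact_up_to_refinements]
  intro T x hx
  have hd1 : (disk R).d n (n + 1) = Dd R n := CochainComplex.of_d _ _ _
  have hd2 : (disk R).d (n + 1) (n + 1 + 1) = Dd R (n + 1) := CochainComplex.of_d _ _ _
  have hx' : x ≫ Dd R (n + 1) = 0 := by rw [← hd2]; exact hx
  obtain ⟨y, hy⟩ := Dd_exact_aux R n x hx'
  refine ⟨T, 𝟙 T, inferInstance, y, ?_⟩
  change 𝟙 T ≫ x = y ≫ (disk R).d n (n + 1)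
  rw [hd1, Category.id_comp]
  exact hy

lemma disk_acyclic : (disk R).Acyclic := fun n => disk_exactAt R n

lemma isStrictlyGE_disk (a : ℤ) [R.IsStrictlyGE a] : (disk R).IsStrictlyGE a := by
  rw [CochainComplex.isStrictlyGE_iff]
  intro i hi
  change IsZero (R.X i ⊞ R.X (i - 1))
  rw [biprod_isZero_iff]
  exact ⟨R.isZero_of_isStrictlyGE a i hi, R.isZero_of_isStrictlyGE a (i - 1) (by lia)⟩

end Disk

section Acyclic

variable {A : Type u} [Category.{v} A] [Abelian A]
  {S : ShortComplex (CochainComplex A ℤ)}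

/-- In a short exact sequence of complexes with acyclic `X₁`, the map `g` is a
quasi-isomorphism. -/
lemma quasiIso_g_of_acyclic_X₁ (hS : S.ShortExact) (h : S.X₁.Acyclic) : QuasiIso S.g := by
  rw [quasiIso_iff]
  intro i
  rw [quasiIsoAt_iff_isIso_homologyMap]
  have h1 : IsZero (S.X₁.homology i) := (exactAt_iff_isZero_homology _ _).1 (h i)
  have h2 : IsZero (S.X₁.homology (i + 1)) := (exactAt_iff_isZero_homology _ _).1 (h (i + 1))
  haveI : Mono (homologyMap S.g i) := (hS.homology_exact₂ i).mono_g (h1.eq_of_src _ _)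
  haveI : Epi (homologyMap S.g i) :=
    (hS.homology_exact₃ i (i + 1) (by simp)).epi_f (h2.eq_of_tgt _ _)
  exact isIso_of_mono_of_epi _

end Acyclic

section Pushout

variable {C : Type*} [Category C] [Abelian C] {N Z X L : C} (k : N ⟶ Z) (q : Z ⟶ X) [Epi q]
  (hkq : k ≫ q = 0) (hS : (ShortComplex.mk k q hkq).Exact) (j : N ⟶ L)

include hS in
/-- Pushing out an exact sequence `N → Z → X → 0` along `j : N ⟶ L` gives an exact sequence
`L → Z ⊔_N L → X → 0`. -/
lemma exact_pushout :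
    (ShortComplex.mk (pushout.inr k j) (pushout.desc q 0 (by simp [hkq]) : pushout k j ⟶ X)
      (pushout.inr_desc _ _ _)).Exact := by
  haveI : Epi (pushout.desc q 0 (by simp [hkq]) : pushout k j ⟶ X) :=
    epi_of_epi_fac (pushout.inl_desc _ _ _)
  apply ShortComplex.exact_of_g_is_cokernel
  refine CokernelCofork.IsColimit.ofπ' _ _ (fun {T} t ht => ?_)
  have ht' : pushout.inr k j ≫ t = 0 := ht
  have h1 : (ShortComplex.mk k q hkq).f ≫ (pushout.inl k j ≫ t) = 0 := by
    change k ≫ pushout.inl k j ≫ t = 0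
    rw [← Category.assoc, pushout.condition, Category.assoc, ht', comp_zero]
  haveI : Epi (ShortComplex.mk k q hkq).g := ‹Epi q›
  refine ⟨hS.desc (pushout.inl k j ≫ t) h1, ?_⟩
  have h2 : q ≫ hS.desc (pushout.inl k j ≫ t) h1 = pushout.inl k j ≫ t := hS.g_desc _ _
  apply pushout.hom_ext
  · change pushout.inl k j ≫ pushout.desc q 0 _ ≫ _ = pushout.inl k j ≫ t
    rw [← Category.assoc, pushout.inl_desc, h2]
  · change pushout.inr k j ≫ pushout.desc q 0 _ ≫ _ = pushout.inr k j ≫ t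
    rw [← Category.assoc, pushout.inr_desc, zero_comp, ht']

end Pushout

section Rel

variable {A : Type u} [Category.{v} A] [Abelian A]
  (I : ObjectProperty A) [I.IsClosedUnderIsomorphisms]

theorem exists_relative_resolution (hI0 : ∃ Z : A, IsZero Z ∧ I Z)
    (hIsum : ∀ X Y : A, I X → I Y → I (X ⊞ Y))
    (hI : ∀ X : A, ∃ (Y : A) (ι : X ⟶ Y), I Y ∧ Mono ι)
    {K' R : CochainComplex A ℤ} (g : K' ⟶ R) (a : ℤ) [R.IsStrictlyGE a] [K'.IsStrictlyGE a]
    (hR : ∀ i, I (R.X i)) :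
    ∃ (R' : CochainComplex A ℤ) (f : K' ⟶ R') (p : R' ⟶ R), f ≫ p = g ∧ QuasiIso f ∧
      (∀ i, Mono (f.f i)) ∧ R'.IsStrictlyGE a ∧ (∀ i, I (R'.X i)) ∧
      ∀ i, (∃ s : R.X i ⟶ R'.X i, s ≫ p.f i = 𝟙 _) ∧ I (kernel (p.f i)) := by
  let Z : CochainComplex A ℤ := K' ⊞ disk R
  let q : Z ⟶ R := biprod.desc g (diskπ R)
  let sec : ∀ n, R.X n ⟶ Z.X n := fun n =>
    (biprod.inl : R.X n ⟶ DX R n) ≫ (biprod.inr : disk R ⟶ Z).f n
  have hsec : ∀ n, sec n ≫ q.f n = 𝟙 _ := fun n => by
    have h1 : (biprod.inr : disk R ⟶ Z).f n ≫ q.f n = (diskπ R).f n := by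
      rw [← HomologicalComplex.comp_f, biprod.inr_desc]
    exact (Category.assoc _ _ _).trans
      ((congrArg (fun t => (biprod.inl : R.X n ⟶ DX R n) ≫ t) h1).trans (inl_diskπ_f R n))
  haveI : Epi q := epi_of_epi_f _ (fun n => epi_of_epi_fac (hsec n))
  haveI : (disk R).IsStrictlyGE a := isStrictlyGE_disk R a
  haveI : Z.IsStrictlyGE a := by
    rw [CochainComplex.isStrictlyGE_iff]
    intro i hi
    refine IsZero.of_iso ?_ ((HomologicalComplex.eval A (ComplexShape.up ℤ) i).mapBiprod _ _)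
    simp only [HomologicalComplex.eval_obj, biprod_isZero_iff]
    exact ⟨K'.isZero_of_isStrictlyGE a i hi, (disk R).isZero_of_isStrictlyGE a i hi⟩
  -- the inclusion `K' ⟶ Z` is a quasi-isomorphism
  have hinl : QuasiIso (biprod.inl : K' ⟶ Z) := by
    have hS₀ : (ShortComplex.mk (biprod.inr : disk R ⟶ Z) (biprod.fst : Z ⟶ K')
        biprod.inr_fst).ShortExact :=
      ShortComplex.ShortExact.mk'
        (ShortComplex.Splitting.exact
          { r := biprod.snd, s := biprod.inl, f_r := biprod.inr_snd, s_g := biprod.inl_fst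
            id := by
              change biprod.snd ≫ biprod.inr + biprod.fst ≫ biprod.inl = 𝟙 _
              rw [add_comm, biprod.total] })
        (inferInstanceAs (Mono (biprod.inr : disk R ⟶ Z)))
        (inferInstanceAs (Epi (biprod.fst : Z ⟶ K')))
    haveI : QuasiIso (biprod.fst : Z ⟶ K') := quasiIso_g_of_acyclic_X₁ hS₀ (disk_acyclic R)
    haveI : QuasiIso ((biprod.inl : K' ⟶ Z) ≫ (biprod.fst : Z ⟶ K')) := by
      rw [biprod.inl_fst]
      infer_instance
    exact quasiIso_of_comp_right (biprod.inl : K' ⟶ Z) (biprod.fst : Z ⟶ K')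
  let k : kernel q ⟶ Z := kernel.ι q
  haveI : (kernel q).IsStrictlyGE a := by
    rw [CochainComplex.isStrictlyGE_iff]
    intro n hn
    exact IsZero.of_mono (k.f n) (Z.isZero_of_isStrictlyGE a n hn)
  obtain ⟨L, j, hLa, hLI, hjqi, hjmono⟩ := exists_resolution_int I hI0 hI (kernel q) a
  have hjmono' : ∀ n, Mono (j.f n) := hjmono inferInstance
  haveI : Mono j := mono_of_mono_f _ hjmono'
  let R' : CochainComplex A ℤ := pushout k j
  let i₁ : Z ⟶ R' := pushout.inl k j
  let i₂ : L ⟶ R' := pushout.inr k j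
  let p : R' ⟶ R := pushout.desc q 0 (by simp [k])
  have hp₁ : i₁ ≫ p = q := pushout.inl_desc _ _ _
  have hp₂ : i₂ ≫ p = 0 := pushout.inr_desc _ _ _
  haveI : Epi p := epi_of_epi_fac hp₁
  have hS : (ShortComplex.mk k q (kernel.condition q)).ShortExact :=
    ShortComplex.ShortExact.mk' (ShortComplex.kernelSequence_exact q)
      (inferInstanceAs (Mono (kernel.ι q))) ‹Epi q›
  haveI : Mono i₂ := inferInstanceAs (Mono (pushout.inr k j))
  let S' : ShortComplex (CochainComplex A ℤ) := ShortComplex.mk i₂ p hp₂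
  have hS' : S'.ShortExact :=
    ShortComplex.ShortExact.mk' (exact_pushout k q (kernel.condition q) hS.exact j) ‹Mono i₂›
      ‹Epi p›
  let φ : ShortComplex.mk k q (kernel.condition q) ⟶ S' :=
    { τ₁ := j, τ₂ := i₁, τ₃ := 𝟙 R
      comm₁₂ := pushout.condition.symm
      comm₂₃ := by
        change i₁ ≫ p = q ≫ 𝟙 R
        rw [hp₁, Category.comp_id] }
  have hi₁ : QuasiIso i₁ :=
    PRes.quasiIso_τ₂ φ hS hS' hjqi (inferInstanceAs (QuasiIso (𝟙 R)))
  haveI : Mono i₁ := inferInstanceAs (Mono (pushout.inl k j))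
  -- degreewise splittings
  have hSn : ∀ n, (S'.map (eval A _ n)).ShortExact := fun n => hS'.map_of_exact (eval A _ n)
  let s : ∀ n, R.X n ⟶ R'.X n := fun n => sec n ≫ i₁.f n
  have hs : ∀ n, s n ≫ p.f n = 𝟙 _ := fun n => by
    dsimp only [s]
    rw [Category.assoc, ← HomologicalComplex.comp_f, hp₁]
    exact hsec n
  let σ : ∀ n, (S'.map (eval A _ n)).Splitting := fun n =>
    ShortComplex.Splitting.ofExactOfSection _ (hSn n).exact (s n) (hs n) (hSn n).mono_f
  have hker : ∀ n, I (kernel (p.f n)) := fun n => by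
    haveI := (hSn n).mono_f
    let e : L.X n ≅ kernel (p.f n) :=
      (hSn n).exact.fIsKernel.conePointUniqueUpToIso (limit.isLimit _)
    exact I.prop_of_iso e (hLI n)
  have hR' : ∀ n, I (R'.X n) := fun n =>
    I.prop_of_iso (σ n).isoBinaryBiproduct.symm (hIsum _ _ (hLI n) (hR n))
  refine ⟨R', biprod.inl ≫ i₁, p, ?_, ?_, ?_, ?_, hR', fun n => ⟨⟨s n, hs n⟩, hker n⟩⟩
  · rw [Category.assoc, hp₁]
    exact biprod.inl_desc _ _
  · haveI := hinl
    haveI := hi₁
    infer_instance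
  · intro n
    rw [HomologicalComplex.comp_f]
    haveI : Mono ((biprod.inl : K' ⟶ Z).f n) :=
      mono_of_mono_fac (show (biprod.inl : K' ⟶ Z).f n ≫ (biprod.fst : Z ⟶ K').f n = 𝟙 _ by
        rw [← HomologicalComplex.comp_f, biprod.inl_fst, HomologicalComplex.id_f])
    infer_instance
  · rw [CochainComplex.isStrictlyGE_iff]
    intro n hn
    refine IsZero.of_iso ?_ (σ n).isoBinaryBiproduct
    rw [biprod_isZero_iff]
    exact ⟨L.isZero_of_isStrictlyGE a n hn, R.isZero_of_isStrictlyGE a n hn⟩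

end Rel

end Groth.Agent.Lib.Helper2.IRes
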