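import Mathlib
import Groth.Agent.Lib.Helper2.IResRel

/-!
# Inverse systems of right resolutions of the truncations of a complex (helper2)
-/

set_option autoImplicit false
universe v u
open CategoryTheory CategoryTheory.Limits HomologicalComplex

namespace Groth.Agent.Lib.Helper2.IRes

variable {A : Type u} [Category.{v} A] [Abelian A]

section Trans

variable (K : CochainComplex A ℤ)

instance (m : ℤ) : (K.truncGE m).IsStrictlyGE m :=
  inferInstanceAs ((HomologicalComplex.truncGE K (ComplexShape.embeddingUpIntGE m)).IsStrictlySupported _)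

/-- The transition map `τ≥m' K ⟶ τ≥m K` for `m' ≤ m`. -/
noncomputable def truncGETrans (m' m : ℤ) (h : m' ≤ m) : K.truncGE m' ⟶ K.truncGE m :=
  haveI : (K.truncGE m).IsStrictlyGE m' := CochainComplex.isStrictlyGE_of_ge _ m' m h
  CochainComplex.truncGEMap (K.πTruncGE m) m' ≫ inv ((K.truncGE m).πTruncGE m')

@[reassoc (attr := simp)]
lemma π_truncGETrans (m' m : ℤ) (h : m' ≤ m) :
    K.πTruncGE m' ≫ truncGETrans K m' m h = K.πTruncGE m := by
  haveI : (K.truncGE m).IsStrictlyGE m' := CochainComplex.isStrictlyGE_of_ge _ m' m h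
  dsimp only [truncGETrans]
  rw [← Category.assoc, CochainComplex.πTruncGE_naturality, Category.assoc, IsIso.hom_inv_id,
    Category.comp_id]

end Trans

section System

variable (I : ObjectProperty A) [I.IsClosedUnderIsomorphisms] (K : CochainComplex A ℤ)

/-- A right resolution of `τ≥m K` by a bounded below complex with terms in `I`. -/
structure RStage (m : ℤ) where
  Q : CochainComplex A ℤ
  π : K.truncGE m ⟶ Q
  qi : QuasiIso π
  mono : ∀ i, Mono (π.f i)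
  a : ℤ
  ge : Q.IsStrictlyGE a
  mem : ∀ i, I (Q.X i)

variable (hI0 : ∃ Z : A, IsZero Z ∧ I Z)
  (hIsum : ∀ X Y : A, I X → I Y → I (X ⊞ Y))
  (hI : ∀ X : A, ∃ (Y : A) (ι : X ⟶ Y), I Y ∧ Mono ι)

include hI0 hI in
lemma nonempty_rstage (m : ℤ) : Nonempty (RStage I K m) := by
  obtain ⟨Q, α, hQ, hQI, hqi, hmono⟩ := exists_resolution_int I hI0 hI (K.truncGE m) m
  exact ⟨⟨Q, α, hqi, hmono inferInstance, m, hQ, hQI⟩⟩

include hI0 hIsum hI in
lemma exists_rstage_succ {m : ℤ} (s : RStage I K m) (m' : ℤ) (h : m' ≤ m) :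
    ∃ (s' : RStage I K m') (p : s'.Q ⟶ s.Q), s'.π ≫ p = truncGETrans K m' m h ≫ s.π ∧
      ∀ i, (∃ r : s.Q.X i ⟶ s'.Q.X i, r ≫ p.f i = 𝟙 _) ∧ I (kernel (p.f i)) := by
  let a := min s.a m'
  haveI : s.Q.IsStrictlyGE a :=
    haveI := s.ge
    CochainComplex.isStrictlyGE_of_ge _ a s.a (min_le_left _ _)
  haveI : (K.truncGE m').IsStrictlyGE a :=
    CochainComplex.isStrictlyGE_of_ge _ a m' (min_le_right _ _)
  obtain ⟨R', f, p, hf, hqi, hmono, hge, hmem, hsplit⟩ :=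
    exists_relative_resolution I hI0 hIsum hI (truncGETrans K m' m h ≫ s.π) a s.mem
  exact ⟨⟨R', f, hqi, hmono, a, hge, hmem⟩, p, hf, hsplit⟩

/-- The sequence of stages. -/
noncomputable def rseq (m : ℕ → ℤ) (hm : ∀ n, m (n + 1) ≤ m n) : ∀ n, RStage I K (m n)
  | 0 => (nonempty_rstage I K hI0 hI (m 0)).some
  | n + 1 => (exists_rstage_succ I K hI0 hIsum hI (rseq m hm n) (m (n + 1)) (hm n)).choose

include hI0 hIsum hI in
theorem exists_inverse_system (m : ℕ → ℤ) (hm : ∀ n, m (n + 1) ≤ m n) :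
    ∃ (Q : ℕ → CochainComplex A ℤ) (p : ∀ n, Q (n + 1) ⟶ Q n)
      (π : ∀ n : ℕ, K.truncGE (m n) ⟶ Q n),
      (∀ n, QuasiIso (π n) ∧ ∀ i, Mono ((π n).f i)) ∧
      (∀ n, ∃ a : ℤ, (Q n).IsStrictlyGE a) ∧ (∀ n i, I ((Q n).X i)) ∧
      (∀ n i, (∃ s : (Q n).X i ⟶ (Q (n + 1)).X i, s ≫ (p n).f i = 𝟙 _) ∧
        I (kernel ((p n).f i))) ∧
      (∀ n : ℕ, π (n + 1) ≫ p n = truncGETrans K (m (n + 1)) (m n) (hm n) ≫ π n) := by
  let S := rseq I K hI0 hIsum hI m hm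
  have hS : ∀ n, ∃ (p : (S (n + 1)).Q ⟶ (S n).Q),
      (S (n + 1)).π ≫ p = truncGETrans K (m (n + 1)) (m n) (hm n) ≫ (S n).π ∧
      ∀ i, (∃ r : (S n).Q.X i ⟶ (S (n + 1)).Q.X i, r ≫ p.f i = 𝟙 _) ∧ I (kernel (p.f i)) :=
    fun n => (exists_rstage_succ I K hI0 hIsum hI (S n) (m (n + 1)) (hm n)).choose_spec
  choose p hp hsplit using hS
  exact ⟨fun n => (S n).Q, p, fun n => (S n).π, fun n => ⟨(S n).qi, (S n).mono⟩,
    fun n => ⟨(S n).a, (S n).ge⟩, fun n => (S n).mem, hsplit, hp⟩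

end System

end Groth.Agent.Lib.Helper2.IRes
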