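import Mathlib.CategoryTheory.Abelian.GrothendieckCategory.EnoughInjectives
import Mathlib.CategoryTheory.Abelian.GrothendieckAxioms.FunctorCategory
import Mathlib.CategoryTheory.Generator.Presheaf
import Mathlib.Algebra.Category.Grp.AB
import Mathlib.Algebra.Category.ModuleCat.Presheaf.Generator
import Mathlib.Algebra.Category.ModuleCat.Presheaf.Abelian
import Mathlib.Algebra.Category.ModuleCat.Presheaf.Colimits
import Mathlib.Algebra.Category.ModuleCat.Presheaf.Limits
import Mathlib.CategoryTheory.Functor.ReflectsIso.Balanced
import Mathlib.CategoryTheory.Abelian.Basic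
import Mathlib.CategoryTheory.Limits.Preserves.Basic

/-!
# Functorial injective embeddings in Grothendieck abelian categories (helper2)

Also: presheaves of abelian groups / of modules on a small category form Grothendieck abelian
categories.
-/

open CategoryTheory CategoryTheory.Limits ZeroObject

universe w v u

namespace Groth.Agent.Lib.Helper2

/-- In a Grothendieck abelian category there is a functorial embedding into injective objects. -/
theorem exists_functorial_injective_embedding (A : Type u) [Category.{v} A] [Abelian A]
    [IsGrothendieckAbelian.{w} A] :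
    ∃ (J : A ⥤ A) (j : 𝟭 _ ⟶ J), ∀ F : A, Injective (J.obj F) ∧ Mono (j.app F) := by
  let data := MorphismProperty.functorialFactorizationData (MorphismProperty.monomorphisms A)
    (MorphismProperty.monomorphisms A).rlp
  let T : A ⥤ Arrow A :=
    { obj := fun X => Arrow.mk (0 : X ⟶ (0 : A))
      map := fun {X Y} f => Arrow.homMk f (𝟙 (0 : A)) (by simp)
      map_id := fun X => by ext <;> simp
      map_comp := fun f g => by ext <;> simp }
  refine ⟨T ⋙ data.Z, { app := fun X => data.i.app (T.obj X), naturality := ?_ }, ?_⟩
  · intro X Y f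
    exact data.i.naturality (T.map f)
  · intro F
    constructor
    · have hp := data.hp (T.obj F)
      have h0 : data.p.app (T.obj F) = 0 := (isZero_zero A).eq_of_tgt _ _
      rw [injective_iff_rlp_monomorphisms_zero]
      rw [h0] at hp
      exact hp
    · exact data.hi (T.obj F)

section Presheaf

variable {C : Type u} [SmallCategory C]

instance ab5OfSize_presheafAb : AB5OfSize.{u, u} (Cᵒᵖ ⥤ AddCommGrpCat.{u}) :=
  ⟨fun _ _ _ => inferInstance⟩

instance isGrothendieckAbelian_presheafAb :
    IsGrothendieckAbelian.{u} (Cᵒᵖ ⥤ AddCommGrpCat.{u}) := {}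

variable (O : Cᵒᵖ ⥤ RingCat.{u})

instance ab5OfSize_presheafOfModules : AB5OfSize.{u, u} (PresheafOfModules.{u} O) :=
  ⟨fun J _ _ =>
    have : ReflectsFiniteLimits (PresheafOfModules.toPresheaf.{u} O) :=
      ⟨fun _ _ _ => reflectsLimitsOfShape_of_reflectsIsomorphisms⟩
    HasExactColimitsOfShape.domain_of_functor J (PresheafOfModules.toPresheaf.{u} O)⟩

instance hasSeparator_presheafOfModules : HasSeparator (PresheafOfModules.{u} O) :=
  ⟨⟨_, (PresheafOfModules.freeYoneda.isSeparating O).isSeparator_coproduct⟩⟩

instance isGrothendieckAbelian_presheafOfModules :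
    IsGrothendieckAbelian.{u} (PresheafOfModules.{u} O) := {}

end Presheaf

end Groth.Agent.Lib.Helper2
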