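import Mathlib.CategoryTheory.Triangulated.Pretriangulated
import Mathlib.CategoryTheory.Triangulated.Opposite.Pretriangulated
import Mathlib.CategoryTheory.Idempotents.Basic
import Mathlib.CategoryTheory.Limits.Shapes.Products
import Mathlib.CategoryTheory.Limits.Opposites
import Mathlib.CategoryTheory.Limits.Shapes.Opposites.Products
import Mathlib.Algebra.BigOperators.Intervals
import Mathlib.Tactic.Abel

/-!
# A pretriangulated category with countable coproducts is idempotent complete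
(Bökstedt–Neeman)
-/

set_option autoImplicit false

namespace Groth.Agent.Lib.Helper2.Karoubi

open CategoryTheory CategoryTheory.Limits CategoryTheory.Pretriangulated

universe v u

variable {D : Type u} [Category.{v} D] [Preadditive D] [HasZeroObject D] [HasShift D ℤ]
  [∀ n : ℤ, (shiftFunctor D n).Additive] [Pretriangulated D]

theorem isIdempotentComplete_of_coproducts [HasColimitsOfShape (Discrete ℕ) D] :
    IsIdempotentComplete D := by
  refine ⟨fun X e he => ?_⟩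
  obtain ⟨s, hs⟩ : ∃ s : (∐ fun _ : ℕ => X) ⟶ ∐ fun _ : ℕ => X,
      ∀ n, Sigma.ι (fun _ : ℕ => X) n ≫ s = e ≫ Sigma.ι (fun _ : ℕ => X) (n + 1) :=
    ⟨Sigma.desc (fun n => e ≫ Sigma.ι (fun _ : ℕ => X) (n + 1)), fun n => by simp⟩
  obtain ⟨r, hr⟩ : ∃ r : (∐ fun _ : ℕ => X) ⟶ ∐ fun _ : ℕ => X,
      ∀ n, Sigma.ι (fun _ : ℕ => X) n ≫ r = (𝟙 X - e) ≫ Sigma.ι (fun _ : ℕ => X) n -
        ∑ k ∈ Finset.range n, e ≫ Sigma.ι (fun _ : ℕ => X) k :=
    ⟨Sigma.desc (fun n => (𝟙 X - e) ≫ Sigma.ι (fun _ : ℕ => X) n -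
        ∑ k ∈ Finset.range n, e ≫ Sigma.ι (fun _ : ℕ => X) k), fun n => by simp⟩
  obtain ⟨fold, hfold⟩ : ∃ fold : (∐ fun _ : ℕ => X) ⟶ X,
      ∀ n, Sigma.ι (fun _ : ℕ => X) n ≫ fold = e :=
    ⟨Sigma.desc (fun _ => e), fun n => by simp⟩
  have hee : (𝟙 X - e) ≫ e = 0 := by
    rw [Preadditive.sub_comp, Category.id_comp, he, sub_self]
  have hee' : e ≫ (𝟙 X - e) = 0 := by
    rw [Preadditive.comp_sub, Category.comp_id, he, sub_self]
  have hur : (𝟙 _ - s) ≫ r = 𝟙 _ := by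
    apply Sigma.hom_ext
    intro n
    have e1 : Sigma.ι (fun _ : ℕ => X) n ≫ (𝟙 _ - s) =
        Sigma.ι (fun _ : ℕ => X) n - e ≫ Sigma.ι (fun _ : ℕ => X) (n + 1) := by
      rw [Preadditive.comp_sub, Category.comp_id, hs]
    have e2 : e ≫ ((𝟙 X - e) ≫ Sigma.ι (fun _ : ℕ => X) (n + 1) -
        ∑ k ∈ Finset.range (n + 1), e ≫ Sigma.ι (fun _ : ℕ => X) k) =
        - ∑ k ∈ Finset.range (n + 1), e ≫ Sigma.ι (fun _ : ℕ => X) k := by
      rw [Preadditive.comp_sub, ← Category.assoc, hee', zero_comp, zero_sub,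
        Preadditive.comp_sum]
      congr 1
      apply Finset.sum_congr rfl
      intro k _
      rw [← Category.assoc, he]
    rw [← Category.assoc, e1, Preadditive.sub_comp, Category.assoc, hr, hr, e2,
      Finset.sum_range_succ, Category.comp_id, Preadditive.sub_comp, Category.id_comp]
    abel
  have hru : r ≫ (𝟙 _ - s) = 𝟙 _ - fold ≫ Sigma.ι (fun _ : ℕ => X) 0 := by
    apply Sigma.hom_ext
    intro n
    have h1 : ∀ k, (e ≫ Sigma.ι (fun _ : ℕ => X) k) ≫ (𝟙 _ - s) =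
        e ≫ Sigma.ι (fun _ : ℕ => X) k - e ≫ Sigma.ι (fun _ : ℕ => X) (k + 1) := by
      intro k
      rw [Category.assoc, Preadditive.comp_sub, Category.comp_id, hs, Preadditive.comp_sub,
        ← Category.assoc e e, he]
    have h2 : ((𝟙 X - e) ≫ Sigma.ι (fun _ : ℕ => X) n) ≫ (𝟙 _ - s) =
        (𝟙 X - e) ≫ Sigma.ι (fun _ : ℕ => X) n := by
      rw [Category.assoc, Preadditive.comp_sub, Category.comp_id, hs, Preadditive.comp_sub,
        ← Category.assoc (𝟙 X - e) e, hee, zero_comp, sub_zero]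
    have h3 : ∀ m : ℕ, ∑ k ∈ Finset.range m, (e ≫ Sigma.ι (fun _ : ℕ => X) k -
        e ≫ Sigma.ι (fun _ : ℕ => X) (k + 1)) =
        e ≫ Sigma.ι (fun _ : ℕ => X) 0 - e ≫ Sigma.ι (fun _ : ℕ => X) m := by
      intro m
      induction m with
      | zero => simp
      | succ m ih => rw [Finset.sum_range_succ, ih]; abel
    rw [← Category.assoc, hr, Preadditive.sub_comp, h2, Preadditive.sum_comp,
      Finset.sum_congr rfl (fun k _ => h1 k), h3, Preadditive.comp_sub, Category.comp_id,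
      ← Category.assoc, hfold, Preadditive.sub_comp, Category.id_comp]
    abel
  obtain ⟨Y, π, δ, hT⟩ := distinguished_cocone_triangle (𝟙 (∐ fun _ : ℕ => X) - s)
  have hmono : Mono (𝟙 (∐ fun _ : ℕ => X) - s) := (SplitMono.mk r hur).mono
  have hδ : δ = 0 := (Triangle.mor₃_eq_zero_iff_mono₁ _ hT).2 hmono
  have hepi : Epi π := Triangle.epi₂ _ hT hδ
  have huπ : (𝟙 (∐ fun _ : ℕ => X) - s) ≫ π = 0 := comp_distTriang_mor_zero₁₂ _ hT
  have hup : (𝟙 (∐ fun _ : ℕ => X) - s) ≫ (fold ≫ Sigma.ι (fun _ : ℕ => X) 0) = 0 := by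
    have h1 : fold ≫ Sigma.ι (fun _ : ℕ => X) 0 = 𝟙 _ - r ≫ (𝟙 _ - s) := by rw [hru]; abel
    rw [h1, Preadditive.comp_sub, Category.comp_id, ← Category.assoc, hur, Category.id_comp,
      sub_self]
  obtain ⟨σ, hσ⟩ : ∃ σ : Y ⟶ ∐ fun _ : ℕ => X,
      fold ≫ Sigma.ι (fun _ : ℕ => X) 0 = π ≫ σ := Triangle.yoneda_exact₂ _ hT _ hup
  have h1 : σ ≫ π = 𝟙 Y := by
    rw [← cancel_epi π, ← Category.assoc, ← hσ, Category.comp_id]
    have h2 : fold ≫ Sigma.ι (fun _ : ℕ => X) 0 = 𝟙 _ - r ≫ (𝟙 _ - s) := by rw [hru]; abel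
    rw [h2, Preadditive.sub_comp, Category.id_comp, Category.assoc, huπ, comp_zero, sub_zero]
  refine ⟨Y, σ ≫ fold, Sigma.ι (fun _ : ℕ => X) 0 ≫ π, ?_, ?_⟩
  · calc (σ ≫ fold) ≫ Sigma.ι (fun _ : ℕ => X) 0 ≫ π
        = σ ≫ (fold ≫ Sigma.ι (fun _ : ℕ => X) 0) ≫ π := by simp only [Category.assoc]
      _ = (σ ≫ π) ≫ (σ ≫ π) := by rw [hσ]; simp only [Category.assoc]
      _ = 𝟙 Y := by rw [h1, Category.comp_id]
  · calc (Sigma.ι (fun _ : ℕ => X) 0 ≫ π) ≫ σ ≫ fold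
        = Sigma.ι (fun _ : ℕ => X) 0 ≫ (π ≫ σ) ≫ fold := by simp only [Category.assoc]
      _ = (Sigma.ι (fun _ : ℕ => X) 0 ≫ fold) ≫ (Sigma.ι (fun _ : ℕ => X) 0 ≫ fold) := by
        rw [← hσ]; simp only [Category.assoc]
      _ = e := by rw [hfold, he]

open CategoryTheory.Pretriangulated.Opposite in
theorem isIdempotentComplete_of_products [HasLimitsOfShape (Discrete ℕ) D] :
    IsIdempotentComplete D := by
  rw [← Idempotents.isIdempotentComplete_iff_opposite]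
  have : HasColimitsOfShape (Discrete ℕ) Dᵒᵖ := hasCoproductsOfShape_opposite ℕ
  exact isIdempotentComplete_of_coproducts (D := Dᵒᵖ)

end Groth.Agent.Lib.Helper2.Karoubi
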