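import Mathlib.CategoryTheory.Localization.CalculusOfFractions.Fractions
import Mathlib.CategoryTheory.Localization.LocalizerMorphism
import Mathlib.CategoryTheory.ObjectProperty.FullSubcategory

/-!
# Localization of a full subcategory with enough "left resolutions"

If `S` has a right calculus of fractions on `C`, `Q : C ⥤ E` is a localization for `S` and every
object `X` of `C` receives a morphism `X' ⟶ X` in `S` from an object `X'` satisfying `P`, then
`P.ι ⋙ Q` is a localization functor for `S.inverseImage P.ι`.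
-/

namespace Groth.Agent.Lib.Helper2.LocSubcat

open CategoryTheory MorphismProperty

universe v u v' u'

variable {C : Type u} [Category.{v} C] (P : ObjectProperty C) (S : MorphismProperty C)
  [S.HasRightCalculusOfFractions]

lemma hasRightCalculusOfFractions
    (hP : ∀ X : C, ∃ (X' : C) (s : X' ⟶ X), P X' ∧ S s) :
    (S.inverseImage P.ι).HasRightCalculusOfFractions where
  exists_rightFraction X Y φ := by
    let φ' : S.LeftFraction X.obj Y.obj := ⟨φ.f.hom, φ.s.hom, φ.hs⟩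
    obtain ⟨ψ, hψ⟩ := φ'.exists_rightFraction
    obtain ⟨Z, t, hZ, ht⟩ := hP ψ.X'
    refine ⟨⟨P.homMk (X := ⟨Z, hZ⟩) (t ≫ ψ.s), S.comp_mem _ _ ht ψ.hs,
      P.homMk (X := ⟨Z, hZ⟩) (t ≫ ψ.f)⟩, ?_⟩
    ext
    dsimp [φ'] at hψ ⊢
    simp only [Category.assoc, hψ]
  ext X Y Y' f₁ f₂ s hs h := by
    obtain ⟨X', t, ht, h'⟩ := HasRightCalculusOfFractions.ext f₁.hom f₂.hom s.hom hs
      (by simpa using congrArg (fun a => a.hom) h)
    obtain ⟨Z, u, hZ, hu⟩ := hP X'
    refine ⟨⟨Z, hZ⟩, P.homMk (u ≫ t), S.comp_mem _ _ hu ht, ?_⟩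
    ext
    simp [h']

theorem isLocalization
    (hP : ∀ X : C, ∃ (X' : C) (s : X' ⟶ X), P X' ∧ S s)
    {E : Type u'} [Category.{v'} E] (Q : C ⥤ E) [Q.IsLocalization S] :
    (P.ι ⋙ Q).IsLocalization (S.inverseImage P.ι) := by
  have := hasRightCalculusOfFractions P S hP
  let W' := S.inverseImage P.ι
  let Φ : LocalizerMorphism W' S := { functor := P.ι, map := fun _ _ _ h => h }
  let G := Φ.localizedFunctor W'.Q Q
  letI : CatCommSq Φ.functor W'.Q Q G := Φ.catCommSq W'.Q Q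
  let e : P.ι ⋙ Q ≅ W'.Q ⋙ G := CatCommSq.iso Φ.functor W'.Q Q G
  have : W'.Q.EssSurj := Localization.essSurj W'.Q W'
  have key : ∀ {X₁ X₂ : P.FullSubcategory} (φ : W'.RightFraction X₁ X₂),
      G.map (φ.map W'.Q (Localization.inverts _ _)) = e.inv.app X₁ ≫
        (RightFraction.mk (W := S) φ.s.hom φ.hs φ.f.hom).map Q (Localization.inverts _ _) ≫
          e.hom.app X₂ := by
    intro X₁ X₂ φ
    have := Localization.inverts W'.Q W' φ.s φ.hs
    rw [← cancel_epi (G.map (W'.Q.map φ.s)), ← G.map_comp, RightFraction.map_s_comp_map]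
    have h1 := NatIso.naturality_1 e φ.s
    have h2 := NatIso.naturality_1 e φ.f
    dsimp at h1 h2
    rw [← h1, ← h2]
    simp only [Category.assoc, Iso.hom_inv_id_app_assoc]
    have h3 := (RightFraction.mk (W := S) φ.s.hom φ.hs φ.f.hom).map_s_comp_map Q
      (Localization.inverts _ _)
    dsimp at h3
    rw [reassoc_of% h3]
  have hfull : G.Full := by
    refine G.full_of_comp_essSurj W'.Q (fun X₁ X₂ φ => ?_)
    obtain ⟨φ', hφ'⟩ : ∃ φ', φ = e.inv.app X₁ ≫ φ' ≫ e.hom.app X₂ :=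
      ⟨e.hom.app X₁ ≫ φ ≫ e.inv.app X₂, by simp⟩
    obtain ⟨f, hf⟩ := Localization.exists_rightFraction Q S φ'
    obtain ⟨Z, t, hZ, ht⟩ := hP f.X'
    let g : W'.RightFraction X₁ X₂ :=
      { X' := ⟨Z, hZ⟩
        s := P.homMk (t ≫ f.s)
        hs := S.comp_mem _ _ ht f.hs
        f := P.homMk (t ≫ f.f) }
    refine ⟨g.map W'.Q (Localization.inverts _ _), ?_⟩
    rw [key g, hφ', hf]
    congr 2
    rw [RightFraction.map_eq_iff]
    exact ⟨Z, 𝟙 _, t, by simp [g], by simp [g], by simpa [g] using S.comp_mem _ _ ht f.hs⟩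
  have hfaithful : G.Faithful := by
    refine G.faithful_of_comp_essSurj W'.Q (fun X₁ X₂ a b hab => ?_)
    obtain ⟨φ, rfl⟩ := Localization.exists_rightFraction W'.Q W' a
    obtain ⟨ψ, rfl⟩ := Localization.exists_rightFraction W'.Q W' b
    rw [key φ, key ψ] at hab
    replace hab := (cancel_epi _).1 hab
    replace hab := (cancel_mono _).1 hab
    rw [RightFraction.map_eq_iff] at hab ⊢
    obtain ⟨Z, t₁, t₂, hst, hft, ht⟩ := hab
    dsimp at t₁ t₂ hst hft ht
    obtain ⟨Z', u, hZ', hu⟩ := hP Z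
    refine ⟨⟨Z', hZ'⟩, P.homMk (u ≫ t₁), P.homMk (u ≫ t₂), ?_, ?_, ?_⟩
    · ext
      simp [hst]
    · ext
      simp [hft]
    · change S ((u ≫ t₁) ≫ φ.s.hom)
      rw [Category.assoc]
      exact S.comp_mem u _ hu ht
  have : Φ.IsLocalizedFullyFaithful :=
    LocalizerMorphism.IsLocalizedFullyFaithful.mk' Φ W'.Q Q G
      (Functor.FullyFaithful.ofFullyFaithful G)
  have : (P.ι ⋙ Q).EssSurj := by
    have : Q.EssSurj := Localization.essSurj Q S
    refine ⟨fun Y => ?_⟩
    obtain ⟨X', s, hX', hs⟩ := hP (Q.objPreimage Y)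
    have := Localization.inverts Q S s hs
    exact ⟨⟨X', hX'⟩, ⟨asIso (Q.map s) ≪≫ Q.objObjPreimageIso Y⟩⟩
  exact Φ.isLocalization_of_isLocalizedFullyFaithful (L₂ := Q) (L₁ := P.ι ⋙ Q) (F := 𝟭 E)
    (Functor.rightUnitor _).symm

end Groth.Agent.Lib.Helper2.LocSubcat
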