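import Mathlib.Algebra.Homology.Factorizations.CM5a

/-!
# A monomorphism from a bounded below complex into a complex of injectives with the same bound

For `K` strictly `≥ n` in an abelian category with enough injectives we construct a complex
`monoInjCone K n` of injective objects, strictly `≥ n`, with a monomorphism `K ⟶ monoInjCone K n`.
Using Mathlib's `cm5a_cof` this gives factorizations `K ⟶ K' ⟶ L` (mono quasi-iso followed by a
degreewise epi with injective kernel) with `K'` strictly `≥ n` as soon as `K` and `L` are.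
-/

set_option autoImplicit false

open CategoryTheory Limits Abelian CochainComplex HomComplex ZeroObject

namespace Groth.Agent.Lib.Helper2

variable {C : Type*} [Category C] [Abelian C] [EnoughInjectives C]
  (K : CochainComplex C ℤ) (n : ℤ)

/-- zero differentials, `Injective.under (K.X k)` in degrees `k > n`, zero otherwise -/
noncomputable def Iplus : CochainComplex C ℤ where
  X k := if n < k then Injective.under (K.X k) else 0
  d _ _ := 0

noncomputable def IplusIso (k : ℤ) (h : n < k) : (Iplus K n).X k ≅ Injective.under (K.X k) :=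
  eqToIso (if_pos h)

lemma isZero_Iplus (k : ℤ) (h : ¬ n < k) : IsZero ((Iplus K n).X k) := by
  dsimp [Iplus]
  rw [if_neg h]
  exact isZero_zero _

instance (k : ℤ) : Injective ((Iplus K n).X k) := by
  by_cases h : n < k
  · exact Injective.of_iso (IplusIso K n k h).symm inferInstance
  · exact (isZero_Iplus K n k h).injective

instance : (Iplus K n).IsStrictlyGE (n + 1) := by
  rw [isStrictlyGE_iff]
  intro i hi
  exact isZero_Iplus K n i (by omega)

/-- the inclusion of `Iplus K n` into `cm5b.I K` -/
noncomputable def IplusHom : Iplus K n ⟶ cm5b.I K where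
  f k := if h : n < k then (IplusIso K n k h).hom else 0
  comm' _ _ _ := by simp [Iplus, cm5b.I]

/-- the map `K.X k ⟶ (Iplus K n).X k` -/
noncomputable def jF (k : ℤ) : K.X k ⟶ (Iplus K n).X k :=
  if h : n < k then Injective.ι (K.X k) ≫ (IplusIso K n k h).inv else 0

lemma jF_IplusHom (k : ℤ) (h : n < k) :
    jF K n k ≫ (IplusHom K n).f k = Injective.ι (K.X k) := by
  dsimp only [jF, IplusHom]
  rw [dif_pos h, dif_pos h, Category.assoc]
  exact (congrArg (Injective.ι (K.X k) ≫ ·) (IplusIso K n k h).inv_hom_id).trans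
    (Category.comp_id _)

@[simp] lemma Iplus_d (i j : ℤ) : (Iplus K n).d i j = 0 := rfl

lemma d_jF_IplusHom [K.IsStrictlyGE n] (p q : ℤ) (hpq : p + 1 = q) :
    K.d p q ≫ jF K n q ≫ (IplusHom K n).f q = K.d p q ≫ Injective.ι (K.X q) := by
  by_cases h : n < q
  · exact congrArg (K.d p q ≫ ·) (jF_IplusHom K n q h)
  · exact (K.isZero_of_isStrictlyGE n p (by omega)).eq_of_src _ _

set_option backward.isDefEq.respectTransparency false in
/-- the monomorphism `K ⟶ mappingCone (IplusHom K n)` -/
noncomputable def monoI [K.IsStrictlyGE n] : K ⟶ mappingCone (IplusHom K n) :=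
  mappingCone.lift _
    (Cocycle.mk (Cochain.mk (fun p q _ => K.d p q ≫ jF K n q)) 2 (by lia) (by
        ext p q hpq
        simp [δ_v 1 2 (by lia) _ p q hpq (p + 1) (p + 1) (by lia) rfl]))
    (Cochain.ofHoms (fun k => Injective.ι (K.X k))) (by
      ext p q hpq
      simp [δ_v 0 1 (by lia) _ p q hpq p q (by lia) hpq, d_jF_IplusHom K n p q hpq])

set_option backward.isDefEq.respectTransparency false in
@[reassoc]
lemma monoI_f_comp [K.IsStrictlyGE n] (k : ℤ) :
    (monoI K n).f k ≫ (mappingCone.snd (IplusHom K n)).v k k (add_zero k) =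
      Injective.ι (K.X k) := by
  simp [monoI]

set_option backward.isDefEq.respectTransparency false in
instance [K.IsStrictlyGE n] (k : ℤ) : Mono ((monoI K n).f k) :=
  mono_of_mono_fac (monoI_f_comp K n k)

instance [K.IsStrictlyGE n] : Mono (monoI K n) :=
  HomologicalComplex.mono_of_mono_f (monoI K n) inferInstance

instance (k : ℤ) : Injective ((mappingCone (IplusHom K n)).X k) :=
  Injective.of_iso
    (HomologicalComplex.homotopyCofiber.XIsoBiprod (IplusHom K n) k (k + 1) rfl).symm
    inferInstance

instance [K.IsStrictlyGE n] : (mappingCone (IplusHom K n)).IsStrictlyGE n := by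
  rw [isStrictlyGE_iff]
  intro i hi
  rw [mappingCone.isZero_X_iff]
  exact ⟨(Iplus K n).isZero_of_isStrictlyGE (n + 1) _ (by omega),
    (cm5b.I K).isZero_of_isStrictlyGE n _ hi⟩

variable {K} {L : CochainComplex C ℤ}

instance [K.IsStrictlyGE n] [L.IsStrictlyGE n] :
    (mappingCone (IplusHom K n) ⊞ L).IsStrictlyGE n := by
  rw [isStrictlyGE_iff]
  intro i hi
  refine IsZero.of_iso ?_ ((HomologicalComplex.eval C (ComplexShape.up ℤ) i).mapBiprod _ _)
  simp only [HomologicalComplex.eval_obj, biprod_isZero_iff]
  exact ⟨(mappingCone (IplusHom K n)).isZero_of_isStrictlyGE n i hi,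
    L.isZero_of_isStrictlyGE n i hi⟩

lemma degreewiseEpiWithInjectiveKernel_snd :
    degreewiseEpiWithInjectiveKernel
      (biprod.snd : mappingCone (IplusHom K n) ⊞ L ⟶ L) := by
  intro k
  rw [epiWithInjectiveKernel_iff]
  refine ⟨(mappingCone (IplusHom K n)).X k, inferInstance,
    (biprod.inl : _ ⟶ (mappingCone (IplusHom K n)) ⊞ L).f k, ?_,
    (biprod.fst : (mappingCone (IplusHom K n)) ⊞ L ⟶ _).f k,
    (biprod.inr : _ ⟶ (mappingCone (IplusHom K n)) ⊞ L).f k, ?_, ?_, ?_⟩
  all_goals simp [← HomologicalComplex.comp_f, ← HomologicalComplex.add_f_apply]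

open CochainComplex.Plus.modelCategoryQuillen in
/-- Factorization of a morphism between complexes strictly `≥ n` as a monomorphism which is a
quasi-isomorphism followed by a degreewise epimorphism with injective kernel, with the middle
object still strictly `≥ n` (no degree is lost, unlike in Mathlib's `cm5a`). -/
theorem exists_factorization (f : K ⟶ L) [K.IsStrictlyGE n] [L.IsStrictlyGE n] :
    ∃ (K' : CochainComplex C ℤ) (_hK' : K'.IsStrictlyGE n) (ι : K ⟶ K') (π : K' ⟶ L),
      Mono ι ∧ QuasiIso ι ∧ degreewiseEpiWithInjectiveKernel π ∧ ι ≫ π = f := by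
  let i : K ⟶ mappingCone (IplusHom K n) ⊞ L := biprod.lift (monoI K n) f
  have hi : Mono i := mono_of_mono_fac (biprod.lift_fst (monoI K n) f)
  obtain ⟨K', hK', ι, π, hι, hι', hπ, hfac⟩ := cm5a_cof i n
  refine ⟨K', hK', ι, π ≫ biprod.snd, hι, hι',
    MorphismProperty.comp_mem _ _ _ hπ (degreewiseEpiWithInjectiveKernel_snd n), ?_⟩
  rw [← Category.assoc, hfac]
  exact biprod.lift_snd _ _

end Groth.Agent.Lib.Helper2
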