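import Mathlib.CategoryTheory.Triangulated.Triangulated
import Mathlib.CategoryTheory.Triangulated.Subcategory

/-!
# The 3 × 3 lemma (nine lemma) in triangulated categories, with prescribed rows and columns

Given a commutative square `f ≫ v = u ≫ f'` and chosen distinguished triangles on `f`, `f'`, `u`, `v`,
the square extends to a 3 × 3 diagram of distinguished triangles (BBD 1.1.11).
-/

namespace Groth.Agent.Lib.Helper2

open CategoryTheory CategoryTheory.Pretriangulated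

universe v u

variable {D : Type u} [Category.{v} D] [Preadditive D] [Limits.HasZeroObject D] [HasShift D ℤ]
    [∀ n : ℤ, (shiftFunctor D n).Additive] [Pretriangulated D] [IsTriangulated D]

theorem nine_lemma {X Y X' Y' : D} (f : X ⟶ Y) (f' : X' ⟶ Y') (u : X ⟶ X') (v : Y ⟶ Y')
    (comm : f ≫ v = u ≫ f')
    {Z : D} {g : Y ⟶ Z} {h : Z ⟶ (shiftFunctor D (1 : ℤ)).obj X}
    (hT : Triangle.mk f g h ∈ distinguishedTriangles)
    {Z' : D} {g' : Y' ⟶ Z'} {h' : Z' ⟶ (shiftFunctor D (1 : ℤ)).obj X'}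
    (hT' : Triangle.mk f' g' h' ∈ distinguishedTriangles)
    {X'' : D} {u' : X' ⟶ X''} {u'' : X'' ⟶ (shiftFunctor D (1 : ℤ)).obj X}
    (hU : Triangle.mk u u' u'' ∈ distinguishedTriangles)
    {Y'' : D} {v' : Y' ⟶ Y''} {v'' : Y'' ⟶ (shiftFunctor D (1 : ℤ)).obj Y}
    (hV : Triangle.mk v v' v'' ∈ distinguishedTriangles) :
    ∃ (Z'' : D) (f'' : X'' ⟶ Y'') (g'' : Y'' ⟶ Z'') (h'' : Z'' ⟶ (shiftFunctor D (1 : ℤ)).obj X'')
      (w : Z ⟶ Z') (w' : Z' ⟶ Z'') (w'' : Z'' ⟶ (shiftFunctor D (1 : ℤ)).obj Z),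
      Triangle.mk f'' g'' h'' ∈ distinguishedTriangles ∧
      Triangle.mk w w' w'' ∈ distinguishedTriangles ∧
      g ≫ w = v ≫ g' ∧ h ≫ (shiftFunctor D (1 : ℤ)).map u = w ≫ h' ∧
      f' ≫ v' = u' ≫ f'' ∧ g' ≫ w' = v' ≫ g'' ∧ h' ≫ (shiftFunctor D (1 : ℤ)).map u' = w' ≫ h'' ∧
      f'' ≫ v'' = u'' ≫ (shiftFunctor D (1 : ℤ)).map f ∧ g'' ≫ w'' = v'' ≫ (shiftFunctor D (1 : ℤ)).map g ∧
      h'' ≫ (shiftFunctor D (1 : ℤ)).map u'' = -(w'' ≫ (shiftFunctor D (1 : ℤ)).map h) := by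
  obtain ⟨A, d', d'', hD⟩ := distinguished_cocone_triangle (f ≫ v)
  obtain ⟨α, β, c11, c12, c13, c14, m1⟩ :=
    Triangulated.someOctahedron (rfl : f ≫ v = f ≫ v) hT hV hD
  obtain ⟨α', β', c21, c22, c23, c24, m2⟩ := Triangulated.someOctahedron comm.symm hU hT' hD
  obtain ⟨Z'', g'', h'', hT''⟩ := distinguished_cocone_triangle (α' ≫ β)
  have hrot : Triangle.mk β (v'' ≫ (shiftFunctor D (1 : ℤ)).map g)
      (-(shiftFunctor D (1 : ℤ)).map α) ∈ distinguishedTriangles :=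
    rot_of_distTriang _ m1
  obtain ⟨w', w'', c31, c32, c33, c34, m3⟩ :=
    Triangulated.someOctahedron (rfl : α' ≫ β = α' ≫ β) m2 hrot hT''
  refine ⟨Z'', α' ≫ β, g'', h'', α ≫ β', w', w'', hT'', ?_, ?_, ?_, ?_, ?_, ?_, ?_, ?_, ?_⟩
  · rw [rotate_distinguished_triangle]
    have e : (-(shiftFunctor D (1 : ℤ)).map α) ≫ (shiftFunctor D (1 : ℤ)).map β' =
        -(shiftFunctor D (1 : ℤ)).map (α ≫ β') := by
      rw [Functor.map_comp, Preadditive.neg_comp]
    rw [e] at m3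
    exact m3
  · rw [← Category.assoc, c11, Category.assoc, c23]
  · rw [Category.assoc, ← c24, ← Category.assoc, c12]
  · rw [← Category.assoc, c21, Category.assoc, c13]
  · rw [← c23, ← c13, Category.assoc, Category.assoc, c31]
  · exact c32.symm
  · rw [Category.assoc, ← c14, ← Category.assoc, c22]
  · exact c33
  · rw [← c22, ← c12, Functor.map_comp, Functor.map_comp, ← Category.assoc, c34]
    simp

end Groth.Agent.Lib.Helper2
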