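import Mathlib.CategoryTheory.Triangulated.Triangulated
import Mathlib.Algebra.Homology.HomologicalComplex
import Mathlib.Tactic.Ring

/-!
# Existence of Postnikov systems for finite complexes in a triangulated category
-/

namespace Groth.Agent.Lib.Helper2

open CategoryTheory CategoryTheory.Limits CategoryTheory.Pretriangulated

universe v u

variable {D : Type u} [Category.{v} D] [Preadditive D] [HasZeroObject D] [HasShift D ℤ]
    [∀ n : ℤ, (shiftFunctor D n).Additive] [Pretriangulated D]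

/-- The inductive state in the construction of a Postnikov system. -/
structure PostnikovState (X : ChainComplex D ℕ) (n k : ℕ) where
  Y : D
  a : Y ⟶ X.X k
  hQ : ∀ i : ℕ, k + 2 ≤ i → i ≤ n →
    ∀ ψ : (shiftFunctor D ((i : ℤ) - k - 2)).obj (X.X i) ⟶ Y, ψ ≫ a = 0 → ψ = 0
  hE : k < n → ∃ b : X.X (k + 1) ⟶ Y, b ≫ a = X.d (k + 1) k

variable (X : ChainComplex D ℕ) (n : ℕ)
    (hX : ∀ i j : ℕ, j + 2 < i → i ≤ n →
      ∀ φ : (shiftFunctor D ((i : ℤ) - j - 2)).obj (X.X i) ⟶ X.X j, φ = 0)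

/-- The initial state. -/
def PostnikovState.init : PostnikovState X n 0 where
  Y := X.X 0
  a := 𝟙 _
  hQ := fun i _ _ ψ h => by simpa using h
  hE := fun _ => ⟨X.d 1 0, by simp⟩

include hX in
lemma PostnikovState.step {k : ℕ} (s : PostnikovState X n k) :
    ∃ (s' : PostnikovState X n (k + 1)) (b : X.X (k + 1) ⟶ s.Y)
      (c : s.Y ⟶ (shiftFunctor D (1 : ℤ)).obj s'.Y),
      k < n → (Triangle.mk s'.a b c ∈ distinguishedTriangles ∧ b ≫ s.a = X.d (k + 1) k) := by
  by_cases hk : k < n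
  · obtain ⟨b, hb⟩ := s.hE hk
    obtain ⟨Y', a', c, hT⟩ := distinguished_cocone_triangle₁ b
    have hP : ∀ i : ℕ, k + 2 < i → i ≤ n →
        ∀ φ : (shiftFunctor D ((i : ℤ) - k - 2)).obj (X.X i) ⟶ s.Y, φ = 0 :=
      fun i h1 h2 φ => s.hQ i h1.le h2 φ (hX i k h1 h2 (φ ≫ s.a))
    refine ⟨⟨Y', a', ?_, ?_⟩, b, c, fun _ => ⟨hT, hb⟩⟩
    · intro i h1 h2 ψ hψ
      have h0 : (shiftFunctor D (1 : ℤ)).map ψ ≫ (shiftFunctor D (1 : ℤ)).map a' = 0 := by
        rw [← Functor.map_comp, hψ, Functor.map_zero]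
      obtain ⟨g, hg⟩ := Triangle.coyoneda_exact₁ _ hT _ h0
      have hm : ((i : ℤ) - ((k + 1 : ℕ) : ℤ) - 2) + 1 = (i : ℤ) - k - 2 := by
        push_cast; ring
      have hg' : (shiftFunctorAdd' D _ _ _ hm).hom.app (X.X i) ≫ g = 0 := hP i (by lia) h2 _
      have hg0 : g = 0 := by
        rw [← cancel_epi ((shiftFunctorAdd' D _ _ _ hm).hom.app (X.X i)), hg', comp_zero]
      rw [hg0, zero_comp] at hg
      apply (shiftFunctor D (1 : ℤ)).map_injective
      exact hg.trans (Functor.map_zero _ _ _).symm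
    · intro hk'
      have hz : X.d (k + 1 + 1) (k + 1) ≫ b = 0 := by
        have hm : ((k + 2 : ℕ) : ℤ) - k - 2 = 0 := by push_cast; ring
        have h1 := s.hQ (k + 2) le_rfl (by lia)
          ((shiftFunctorZero' D _ hm).hom.app (X.X (k + 2)) ≫ X.d (k + 1 + 1) (k + 1) ≫ b)
          (by rw [Category.assoc, Category.assoc, hb, X.d_comp_d, comp_zero])
        rw [← cancel_epi ((shiftFunctorZero' D _ hm).hom.app (X.X (k + 2))), h1, comp_zero]
      obtain ⟨b', hb'⟩ := Triangle.coyoneda_exact₂ _ hT (X.d (k + 1 + 1) (k + 1)) hz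
      exact ⟨b', hb'.symm⟩
  · exact ⟨⟨X.X (k + 1), 𝟙 _, fun i h1 h2 => by lia, fun h => by lia⟩, 0, 0,
      fun h => absurd h hk⟩

/-- The sequence of states. -/
noncomputable def PostnikovState.seq : ∀ k : ℕ, PostnikovState X n k
  | 0 => PostnikovState.init X n
  | k + 1 => (PostnikovState.step X n hX (PostnikovState.seq k)).choose

include hX in
theorem exists_postnikov :
    ∃ (Y : ℕ → D) (a : ∀ k, Y k ⟶ X.X k) (b : ∀ k, X.X (k + 1) ⟶ Y k)
      (c : ∀ k, Y k ⟶ (shiftFunctor D (1 : ℤ)).obj (Y (k + 1))),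
      IsIso (a 0) ∧ ∀ k, k < n → Triangle.mk (a (k + 1)) (b k) (c k) ∈ distinguishedTriangles ∧
        b k ≫ a k = X.d (k + 1) k := by
  refine ⟨fun k => (PostnikovState.seq X n hX k).Y, fun k => (PostnikovState.seq X n hX k).a,
    fun k => (PostnikovState.step X n hX (PostnikovState.seq X n hX k)).choose_spec.choose,
    fun k => (PostnikovState.step X n hX (PostnikovState.seq X n hX k)).choose_spec.choose_spec.choose,
    ?_, fun k hk => ?_⟩
  · change IsIso (𝟙 (X.X 0))
    infer_instance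
  · exact (PostnikovState.step X n hX
      (PostnikovState.seq X n hX k)).choose_spec.choose_spec.choose_spec hk

end Groth.Agent.Lib.Helper2
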