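import Groth.Agent.Lib.Helper2.EssConst
import Groth.Agent.Lib.Helper10.SplitDer
import Mathlib

/-!
# ℕ-indexed inverse systems in triangulated and derived categories

* `EC X`: the system `X` is essentially constant (for some value and cone).
* `Inj f T`, `Surj f T`: the pro-Yoneda criteria; `isProIso_iff`.
* `isProIso_middle`: five lemma for pro-isomorphisms of systems of distinguished triangles.
* In `D(A)`: `homology_map_bijective` (the homology functor is fully faithful on objects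
  concentrated in one degree), truncated systems, and the two dévissage theorems
  `ec_of_homology`, `isProIso_of_homology`.
-/

set_option autoImplicit false

namespace Groth.Agent.Lib.Helper2.ProSys

open CategoryTheory CategoryTheory.Limits Opposite CategoryTheory.Pretriangulated
open Groth.Agent.Lib.Helper2.EssConst

universe w v u

section Basic

variable {C : Type u} [Category.{v} C]

lemma tr_naturality {X Y : ARSys.PS C} (f : X ⟶ Y) {n m : ℕ} (h : n ≤ m) :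
    ARSys.tr X h ≫ f.app (op n) = f.app (op m) ≫ ARSys.tr Y h :=
  f.naturality (homOfLE h).op

/-- the system is essentially constant -/
def EC (X : ARSys.PS C) : Prop :=
  ∃ (L : C) (c : (Functor.const ℕᵒᵖ).obj L ⟶ X), DerCA.IsEssConstant X L c

lemma EC.of_iso {X Y : ARSys.PS C} (φ : X ≅ Y) (h : EC X) : EC Y := by
  obtain ⟨A, c, i, s, hs, hk⟩ := h
  refine ⟨A, c ≫ φ.hom, i, φ.inv.app (op i) ≫ s, ?_, ?_⟩
  · rw [NatTrans.comp_app, Category.assoc, Iso.hom_inv_id_app_assoc, hs]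
  · intro j
    obtain ⟨k, hi, hj, e⟩ := hk j
    refine ⟨k, hi, hj, ?_⟩
    have h1 : ARSys.tr Y hj = φ.inv.app (op k) ≫ ARSys.tr X hj ≫ φ.hom.app (op j) := by
      rw [tr_naturality φ.hom hj, Iso.inv_hom_id_app_assoc]
    have h2 : ARSys.tr Y hi ≫ φ.inv.app (op i) = φ.inv.app (op k) ≫ ARSys.tr X hi :=
      tr_naturality φ.inv hi
    rw [h1, e, NatTrans.comp_app]
    simp only [Category.assoc]
    rw [← Category.assoc (ARSys.tr Y hi), h2, Category.assoc]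

open ZeroObject in
lemma EC.of_isZero [HasZeroMorphisms C] [HasZeroObject C] (X : ARSys.PS C)
    (hX : ∀ n, IsZero (X.obj (op n))) : EC X := by
  refine ⟨(0 : C), 0, 0, 0, ?_, fun j => ⟨j, Nat.zero_le j, le_rfl, (hX j).eq_of_src _ _⟩⟩
  exact (isZero_zero C).eq_of_src _ _

lemma isProIso_of_isZero [HasZeroMorphisms C] {X Y : ARSys.PS C} (f : X ⟶ Y)
    (hX : ∀ n, IsZero (X.obj (op n))) (hY : ∀ n, IsZero (Y.obj (op n))) : DerCA.IsProIso f :=
  fun n => ⟨n, le_rfl, 0, (hX n).eq_of_tgt _ _, (hY n).eq_of_tgt _ _⟩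

lemma isProIso_conj {X Y X₁ Y₁ : ARSys.PS C} (f : X ⟶ Y) (f₁ : X₁ ⟶ Y₁) (φ : X ≅ X₁)
    (ψ : Y ≅ Y₁) (hcomm : ∀ n : ℕ, f.app (op n) ≫ ψ.hom.app (op n) =
      φ.hom.app (op n) ≫ f₁.app (op n))
    (h : DerCA.IsProIso f) : DerCA.IsProIso f₁ := by
  intro n
  obtain ⟨m, hm, b, h1, h2⟩ := h n
  refine ⟨m, hm, ψ.inv.app (op m) ≫ b ≫ φ.hom.app (op n), ?_, ?_⟩
  · have e1 : f₁.app (op m) ≫ ψ.inv.app (op m) = φ.inv.app (op m) ≫ f.app (op m) := by
      rw [← cancel_mono (ψ.hom.app (op m)), Category.assoc, Iso.inv_hom_id_app, Category.comp_id,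
        Category.assoc, hcomm, Iso.inv_hom_id_app_assoc]
    rw [← Category.assoc, e1, Category.assoc, ← Category.assoc (f.app (op m)), h1,
      tr_naturality φ.hom hm, Iso.inv_hom_id_app_assoc]
  · rw [Category.assoc, Category.assoc, ← hcomm, ← Category.assoc b, h2,
      tr_naturality ψ.hom hm, Iso.inv_hom_id_app_assoc]

lemma isProIso_whiskerRight {D : Type*} [Category D] (F : C ⥤ D) {X Y : ARSys.PS C}
    (f : X ⟶ Y) (h : DerCA.IsProIso f) : DerCA.IsProIso (Functor.whiskerRight f F) := by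
  intro n
  obtain ⟨m, hm, b, h1, h2⟩ := h n
  refine ⟨m, hm, F.map b, ?_, ?_⟩
  · change F.map (f.app (op m)) ≫ F.map b = F.map (ARSys.tr X hm)
    rw [← F.map_comp, h1]
  · change F.map b ≫ F.map (f.app (op n)) = F.map (ARSys.tr Y hm)
    rw [← F.map_comp, h2]

end Basic

section Criteria

variable {C : Type u} [Category.{v} C] [Preadditive C]

/-- injectivity of `colim Hom(Y_n, T) → colim Hom(X_n, T)` -/
def Inj {X Y : ARSys.PS C} (f : X ⟶ Y) (T : C) : Prop :=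
  ∀ (n : ℕ) (u : Y.obj (op n) ⟶ T), f.app (op n) ≫ u = 0 →
    ∃ (m : ℕ) (h : n ≤ m), ARSys.tr Y h ≫ u = 0

/-- surjectivity of `colim Hom(Y_n, T) → colim Hom(X_n, T)` -/
def Surj {X Y : ARSys.PS C} (f : X ⟶ Y) (T : C) : Prop :=
  ∀ (n : ℕ) (v : X.obj (op n) ⟶ T), ∃ (m : ℕ) (h : n ≤ m) (u : Y.obj (op m) ⟶ T),
    f.app (op m) ≫ u = ARSys.tr X h ≫ v

lemma inj_of_isProIso {X Y : ARSys.PS C} {f : X ⟶ Y} (h : DerCA.IsProIso f) (T : C) :
    Inj f T := by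
  intro n u hu
  obtain ⟨m, hm, b, _, h2⟩ := h n
  exact ⟨m, hm, by rw [← h2, Category.assoc, hu, comp_zero]⟩

omit [Preadditive C] in
lemma surj_of_isProIso {X Y : ARSys.PS C} {f : X ⟶ Y} (h : DerCA.IsProIso f) (T : C) :
    Surj f T := by
  intro n v
  obtain ⟨m, hm, b, h1, _⟩ := h n
  exact ⟨m, hm, b ≫ v, by rw [← Category.assoc, h1]⟩

lemma isProIso_of_inj_surj {X Y : ARSys.PS C} (f : X ⟶ Y) (hI : ∀ T, Inj f T)
    (hS : ∀ T, Surj f T) : DerCA.IsProIso f := by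
  intro n
  obtain ⟨m, hm, u, hu⟩ := hS (X.obj (op n)) n (𝟙 _)
  rw [Category.comp_id] at hu
  have h0 : f.app (op m) ≫ (u ≫ f.app (op n) - ARSys.tr Y hm) = 0 := by
    rw [Preadditive.comp_sub, ← Category.assoc, hu, tr_naturality f hm, sub_self]
  obtain ⟨m', hm', e⟩ := hI (Y.obj (op n)) m _ h0
  rw [Preadditive.comp_sub, sub_eq_zero, tr_tr] at e
  refine ⟨m', hm.trans hm', ARSys.tr Y hm' ≫ u, ?_, ?_⟩
  · rw [← Category.assoc, ← tr_naturality f hm', Category.assoc, hu, tr_tr]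
  · rw [Category.assoc, e]

end Criteria

section Pro5

variable {D : Type u} [Category.{v} D] [Preadditive D] [HasZeroObject D] [HasShift D ℤ]
  [∀ n : ℤ, (shiftFunctor D n).Additive] [Pretriangulated D]
  {X' X X'' Y' Y Y'' : ARSys.PS D}
  (i : X' ⟶ X) (p : X ⟶ X'') (δ : X'' ⟶ X' ⋙ shiftFunctor D (1 : ℤ))
  (j : Y' ⟶ Y) (q : Y ⟶ Y'') (ε : Y'' ⟶ Y' ⋙ shiftFunctor D (1 : ℤ))
  (hTX : ∀ n : ℕ, Triangle.mk (i.app (op n)) (p.app (op n)) (δ.app (op n)) ∈ distTriang D)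
  (hTY : ∀ n : ℕ, Triangle.mk (j.app (op n)) (q.app (op n)) (ε.app (op n)) ∈ distTriang D)
  (f' : X' ⟶ Y') (f : X ⟶ Y) (f'' : X'' ⟶ Y'')
  (c₁ : ∀ n : ℕ, i.app (op n) ≫ f.app (op n) = f'.app (op n) ≫ j.app (op n))
  (c₂ : ∀ n : ℕ, p.app (op n) ≫ f''.app (op n) = f.app (op n) ≫ q.app (op n))
  (c₃ : ∀ n : ℕ, δ.app (op n) ≫ (shiftFunctor D (1 : ℤ)).map (f'.app (op n)) =
    f''.app (op n) ≫ ε.app (op n))

include hTX hTY c₁ c₂ c₃ in
lemma inj_middle (T : D) (hI' : Inj f' T)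
    (hS1 : Surj (Functor.whiskerRight f' (shiftFunctor D (1 : ℤ))) T) (hI'' : Inj f'' T) :
    Inj f T := by
  intro n u hu
  have h1 : f'.app (op n) ≫ (j.app (op n) ≫ u) = 0 := by
    rw [← Category.assoc, ← c₁, Category.assoc, hu, comp_zero]
  obtain ⟨m₁, hm₁, e1⟩ := hI' n _ h1
  have e1' : j.app (op m₁) ≫ (ARSys.tr Y hm₁ ≫ u) = 0 := by
    rw [← Category.assoc, ← tr_naturality j hm₁, Category.assoc, e1]
  obtain ⟨w, hw⟩ := Triangle.yoneda_exact₂ _ (hTY m₁) (ARSys.tr Y hm₁ ≫ u) e1'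
  change Y''.obj (op m₁) ⟶ T at w
  change ARSys.tr Y hm₁ ≫ u = q.app (op m₁) ≫ w at hw
  have h2 : p.app (op m₁) ≫ (f''.app (op m₁) ≫ w) = 0 := by
    rw [← Category.assoc, c₂, Category.assoc, ← hw, ← Category.assoc, ← tr_naturality f hm₁,
      Category.assoc, hu, comp_zero]
  obtain ⟨z, hz⟩ := Triangle.yoneda_exact₃ _ (hTX m₁) (f''.app (op m₁) ≫ w) h2
  change (shiftFunctor D (1 : ℤ)).obj (X'.obj (op m₁)) ⟶ T at z
  change f''.app (op m₁) ≫ w = δ.app (op m₁) ≫ z at hz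
  obtain ⟨m₂, hm₂, z', hz'⟩ := hS1 m₁ z
  change (shiftFunctor D (1 : ℤ)).obj (Y'.obj (op m₂)) ⟶ T at z'
  change (shiftFunctor D (1 : ℤ)).map (f'.app (op m₂)) ≫ z' =
    (shiftFunctor D (1 : ℤ)).map (ARSys.tr X' hm₂) ≫ z at hz'
  have hδ : ARSys.tr X'' hm₂ ≫ δ.app (op m₁) =
      δ.app (op m₂) ≫ (shiftFunctor D (1 : ℤ)).map (ARSys.tr X' hm₂) := tr_naturality δ hm₂
  have hε : ARSys.tr Y'' hm₂ ≫ ε.app (op m₁) =
      ε.app (op m₂) ≫ (shiftFunctor D (1 : ℤ)).map (ARSys.tr Y' hm₂) := tr_naturality ε hm₂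
  have h3 : f''.app (op m₂) ≫ (ARSys.tr Y'' hm₂ ≫ w - ε.app (op m₂) ≫ z') = 0 := by
    rw [Preadditive.comp_sub, sub_eq_zero, ← Category.assoc, ← tr_naturality f'' hm₂,
      Category.assoc, hz, ← Category.assoc, hδ, Category.assoc, ← hz', ← Category.assoc,
      c₃, Category.assoc]
  obtain ⟨m₃, hm₃, e3⟩ := hI'' m₂ _ h3
  rw [Preadditive.comp_sub, sub_eq_zero] at e3
  refine ⟨m₃, hm₁.trans (hm₂.trans hm₃), ?_⟩
  have hε3 : ARSys.tr Y'' hm₃ ≫ ε.app (op m₂) =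
      ε.app (op m₃) ≫ (shiftFunctor D (1 : ℤ)).map (ARSys.tr Y' hm₃) := tr_naturality ε hm₃
  have hqε : q.app (op m₃) ≫ ε.app (op m₃) = 0 := comp_distTriang_mor_zero₂₃ _ (hTY m₃)
  calc ARSys.tr Y (hm₁.trans (hm₂.trans hm₃)) ≫ u
      = ARSys.tr Y (hm₂.trans hm₃) ≫ ARSys.tr Y hm₁ ≫ u := by
        rw [← Category.assoc, tr_tr]
    _ = ARSys.tr Y (hm₂.trans hm₃) ≫ q.app (op m₁) ≫ w := by rw [hw]
    _ = q.app (op m₃) ≫ ARSys.tr Y'' (hm₂.trans hm₃) ≫ w := by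
        rw [← Category.assoc, tr_naturality q (hm₂.trans hm₃), Category.assoc]
    _ = q.app (op m₃) ≫ ARSys.tr Y'' hm₃ ≫ ARSys.tr Y'' hm₂ ≫ w := by
        rw [← Category.assoc (ARSys.tr Y'' hm₃), tr_tr]
    _ = q.app (op m₃) ≫ ARSys.tr Y'' hm₃ ≫ ε.app (op m₂) ≫ z' := by rw [e3]
    _ = 0 := by
        rw [← Category.assoc (ARSys.tr Y'' hm₃), hε3, Category.assoc, ← Category.assoc,
          hqε, zero_comp]

include hTX hTY c₁ c₂ c₃ in
lemma surj_middle (T : D) (hS' : Surj f' T)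
    (hI1 : Inj f'' ((shiftFunctor D (1 : ℤ)).obj T)) (hS'' : Surj f'' T) :
    Surj f T := by
  intro n v
  obtain ⟨m₁, hm₁, u', hu'⟩ := hS' n (i.app (op n) ≫ v)
  have hδ : ARSys.tr X'' hm₁ ≫ δ.app (op n) =
      δ.app (op m₁) ≫ (shiftFunctor D (1 : ℤ)).map (ARSys.tr X' hm₁) := tr_naturality δ hm₁
  have hδi : δ.app (op n) ≫ (shiftFunctor D (1 : ℤ)).map (i.app (op n)) = 0 :=
    comp_distTriang_mor_zero₃₁ _ (hTX n)
  have h1 : f''.app (op m₁) ≫ (ε.app (op m₁) ≫ (shiftFunctor D (1 : ℤ)).map u') = 0 := by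
    rw [← Category.assoc, ← c₃, Category.assoc, ← Functor.map_comp, hu', Functor.map_comp,
      Functor.map_comp, ← Category.assoc, ← hδ, Category.assoc, ← Category.assoc (δ.app (op n)),
      hδi, zero_comp, comp_zero]
  obtain ⟨m₂, hm₂, e2⟩ := hI1 m₁ _ h1
  have hε : ARSys.tr Y'' hm₂ ≫ ε.app (op m₁) =
      ε.app (op m₂) ≫ (shiftFunctor D (1 : ℤ)).map (ARSys.tr Y' hm₂) := tr_naturality ε hm₂
  have e2' : ε.app (op m₂) ≫ (shiftFunctor D (1 : ℤ)).map (ARSys.tr Y' hm₂ ≫ u') = 0 := by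
    rw [Functor.map_comp, ← Category.assoc, ← hε, Category.assoc]
    exact e2
  obtain ⟨g, hg⟩ := Triangle.yoneda_exact₃ _ (rot_of_distTriang _ (hTY m₂))
    ((shiftFunctor D (1 : ℤ)).map (ARSys.tr Y' hm₂ ≫ u')) e2'
  change (shiftFunctor D (1 : ℤ)).obj (Y.obj (op m₂)) ⟶ (shiftFunctor D (1 : ℤ)).obj T at g
  change (shiftFunctor D (1 : ℤ)).map (ARSys.tr Y' hm₂ ≫ u') =
    (-(shiftFunctor D (1 : ℤ)).map (j.app (op m₂))) ≫ g at hg
  obtain ⟨u₀', hu₀'⟩ := (shiftFunctor D (1 : ℤ)).map_surjective g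
  have hu₀ : j.app (op m₂) ≫ (-u₀') = ARSys.tr Y' hm₂ ≫ u' := by
    apply (shiftFunctor D (1 : ℤ)).map_injective
    rw [hg, Functor.map_comp, Functor.map_neg, hu₀', Preadditive.comp_neg, Preadditive.neg_comp]
  have h3 : i.app (op m₂) ≫ (f.app (op m₂) ≫ (-u₀') - ARSys.tr X (hm₁.trans hm₂) ≫ v) = 0 := by
    rw [Preadditive.comp_sub, sub_eq_zero, ← Category.assoc, c₁, Category.assoc, hu₀,
      ← Category.assoc, ← tr_naturality f' hm₂, Category.assoc, hu', ← Category.assoc, tr_tr,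
      ← Category.assoc, tr_naturality i (hm₁.trans hm₂), Category.assoc]
  obtain ⟨w, hw⟩ := Triangle.yoneda_exact₂ _ (hTX m₂) _ h3
  change X''.obj (op m₂) ⟶ T at w
  change f.app (op m₂) ≫ (-u₀') - ARSys.tr X (hm₁.trans hm₂) ≫ v = p.app (op m₂) ≫ w at hw
  obtain ⟨m₃, hm₃, w', hw'⟩ := hS'' m₂ w
  refine ⟨m₃, hm₁.trans (hm₂.trans hm₃), ARSys.tr Y hm₃ ≫ (-u₀') - q.app (op m₃) ≫ w', ?_⟩
  have hw2 : ARSys.tr X (hm₁.trans hm₂) ≫ v = f.app (op m₂) ≫ (-u₀') - p.app (op m₂) ≫ w := by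
    rw [← hw]; abel
  calc f.app (op m₃) ≫ (ARSys.tr Y hm₃ ≫ (-u₀') - q.app (op m₃) ≫ w')
      = ARSys.tr X hm₃ ≫ f.app (op m₂) ≫ (-u₀') - p.app (op m₃) ≫ f''.app (op m₃) ≫ w' := by
        rw [Preadditive.comp_sub, ← Category.assoc, ← tr_naturality f hm₃, Category.assoc,
          ← Category.assoc (f.app (op m₃)), ← c₂, Category.assoc]
    _ = ARSys.tr X hm₃ ≫ f.app (op m₂) ≫ (-u₀') - ARSys.tr X hm₃ ≫ p.app (op m₂) ≫ w := by
        rw [hw', ← Category.assoc (p.app (op m₃)), ← tr_naturality p hm₃, Category.assoc]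
    _ = ARSys.tr X hm₃ ≫ ARSys.tr X (hm₁.trans hm₂) ≫ v := by
        rw [hw2, Preadditive.comp_sub]
    _ = ARSys.tr X (hm₁.trans (hm₂.trans hm₃)) ≫ v := by
        rw [← Category.assoc, tr_tr]

include hTX hTY c₁ c₂ c₃ in
/-- five lemma for pro-isomorphisms -/
theorem isProIso_middle (h' : DerCA.IsProIso f') (h'' : DerCA.IsProIso f'') :
    DerCA.IsProIso f := by
  have h1 : DerCA.IsProIso (Functor.whiskerRight f' (shiftFunctor D (1 : ℤ))) :=
    isProIso_whiskerRight _ f' h'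
  apply isProIso_of_inj_surj
  · intro T
    exact inj_middle i p δ j q ε hTX hTY f' f f'' c₁ c₂ c₃ T (inj_of_isProIso h' T)
      (surj_of_isProIso h1 T) (inj_of_isProIso h'' T)
  · intro T
    exact surj_middle i p δ j q ε hTX hTY f' f f'' c₁ c₂ c₃ T (surj_of_isProIso h' T)
      (inj_of_isProIso h'' _) (surj_of_isProIso h'' T)

end Pro5

end Groth.Agent.Lib.Helper2.ProSys
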