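import Groth.Agent.Lib.Helper2.ProSys

/-!
# ℕ-indexed inverse systems in the derived category: dévissage by truncation

* `homology_map_bijective`: `H^b` is fully faithful on objects concentrated in degree `b`.
* `ec_of_homology`: a uniformly bounded system whose cohomology systems are essentially constant
  is essentially constant.
* `isProIso_of_homology`: a map of uniformly bounded systems inducing pro-isomorphisms on all
  cohomology systems is a pro-isomorphism.
-/

set_option autoImplicit false

namespace Groth.Agent.Lib.Helper2.ProSys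

open CategoryTheory CategoryTheory.Limits Opposite CategoryTheory.Pretriangulated
open Groth.Agent.Lib.Helper2.EssConst DerivedCategory
open Groth.Agent.Lib.Helper10.TruncMap Groth.Agent.Lib.Helper10.SplitDer

universe w v u

variable {A : Type u} [Category.{v} A] [Abelian A] [HasDerivedCategory.{w} A]

lemma isZero_of_homology (Z : DerivedCategory A)
    (h : ∀ i : ℤ, IsZero ((homologyFunctor A i).obj Z)) : IsZero Z := by
  haveI : Z.IsLE 0 := by
    rw [DerivedCategory.isLE_iff]; intro i _; exact h i
  haveI : Z.IsGE 1 := by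
    rw [DerivedCategory.isGE_iff]; intro i _; exact h i
  exact TStructure.t.isZero Z 0 1 (by omega)

/-- `H^b` is fully faithful on objects concentrated in degree `b` -/
lemma homology_map_bijective (b : ℤ) (Y Y' : DerivedCategory A) [Y.IsGE b] [Y.IsLE b]
    [Y'.IsGE b] [Y'.IsLE b] :
    Function.Bijective (fun f : Y ⟶ Y' => (homologyFunctor A b).map f) := by
  obtain ⟨M, ⟨e⟩⟩ := exists_iso_singleFunctor_obj_of_isGE_of_isLE Y b
  obtain ⟨M', ⟨e'⟩⟩ := exists_iso_singleFunctor_obj_of_isGE_of_isLE Y' b
  let θ := singleFunctorCompHomologyFunctorIso A b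
  have key : ∀ γ : M ⟶ M', (homologyFunctor A b).map ((singleFunctor A b).map γ) =
      θ.hom.app M ≫ γ ≫ θ.inv.app M' := by
    intro γ
    have h := θ.hom.naturality γ
    rw [← Category.assoc, ← (show _ = θ.hom.app M ≫ γ from h), Category.assoc,
      Iso.hom_inv_id_app, Category.comp_id]
    rfl
  constructor
  · intro f₁ f₂ h
    dsimp only at h
    obtain ⟨γ₁, h₁⟩ := (singleFunctor A b).map_surjective (e.inv ≫ f₁ ≫ e'.hom)
    obtain ⟨γ₂, h₂⟩ := (singleFunctor A b).map_surjective (e.inv ≫ f₂ ≫ e'.hom)
    have hγ : γ₁ = γ₂ := by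
      have k1 := key γ₁
      have k2 := key γ₂
      rw [h₁] at k1
      rw [h₂] at k2
      have h3 : (homologyFunctor A b).map (e.inv ≫ f₁ ≫ e'.hom) =
          (homologyFunctor A b).map (e.inv ≫ f₂ ≫ e'.hom) := by
        simp only [Functor.map_comp, h]
      rw [k1, k2] at h3
      have h4 := (cancel_epi (θ.hom.app M)).1 h3
      exact (cancel_mono (θ.inv.app M')).1 h4
    have h5 : e.inv ≫ f₁ ≫ e'.hom = e.inv ≫ f₂ ≫ e'.hom := by rw [← h₁, ← h₂, hγ]
    have h6 := (cancel_epi e.inv).1 h5
    exact (cancel_mono e'.hom).1 h6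
  · intro φ
    let γ : M ⟶ M' := θ.inv.app M ≫ (homologyFunctor A b).map e.inv ≫ φ ≫
      (homologyFunctor A b).map e'.hom ≫ θ.hom.app M'
    refine ⟨e.hom ≫ (singleFunctor A b).map γ ≫ e'.inv, ?_⟩
    dsimp only
    rw [Functor.map_comp, Functor.map_comp, key]
    simp [γ]

section SingleDegree

variable (b : ℤ)

lemma isProIso_of_single_degree {X Y : ARSys.PS (DerivedCategory A)} (f : X ⟶ Y)
    (hX : ∀ n : ℕ, (X.obj (op n)).IsGE b ∧ (X.obj (op n)).IsLE b)
    (hY : ∀ n : ℕ, (Y.obj (op n)).IsGE b ∧ (Y.obj (op n)).IsLE b)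
    (h : DerCA.IsProIso (Functor.whiskerRight f (homologyFunctor A b))) :
    DerCA.IsProIso f := by
  intro n
  obtain ⟨m, hm, β, h1, h2⟩ := h n
  haveI := (hX n).1
  haveI := (hX n).2
  haveI := (hX m).1
  haveI := (hX m).2
  haveI := (hY n).1
  haveI := (hY n).2
  haveI := (hY m).1
  haveI := (hY m).2
  obtain ⟨bb, hbb⟩ := (homology_map_bijective b (Y.obj (op m)) (X.obj (op n))).2 β
  dsimp only at hbb
  refine ⟨m, hm, bb, ?_, ?_⟩
  · apply (homology_map_bijective b (X.obj (op m)) (X.obj (op n))).1
    dsimp only
    rw [Functor.map_comp, hbb]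
    exact h1
  · apply (homology_map_bijective b (Y.obj (op m)) (Y.obj (op n))).1
    dsimp only
    rw [Functor.map_comp, hbb]
    exact h2

lemma ec_of_single_degree (Z : ARSys.PS (DerivedCategory A))
    (hZ : ∀ n : ℕ, (Z.obj (op n)).IsGE b ∧ (Z.obj (op n)).IsLE b)
    (h : EC (Z ⋙ homologyFunctor A b)) : EC Z := by
  obtain ⟨B, c', i, s', hs', hk'⟩ := h
  let L : DerivedCategory A := (singleFunctor A b).obj B
  let θ : (homologyFunctor A b).obj L ≅ B := (singleFunctorCompHomologyFunctorIso A b).app B
  have bij : ∀ n : ℕ, Function.Bijective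
      (fun g : L ⟶ Z.obj (op n) => (homologyFunctor A b).map g) := fun n => by
    haveI := (hZ n).1
    haveI := (hZ n).2
    exact homology_map_bijective b L (Z.obj (op n))
  have bij' : ∀ n m : ℕ, Function.Bijective
      (fun g : Z.obj (op n) ⟶ Z.obj (op m) => (homologyFunctor A b).map g) := fun n m => by
    haveI := (hZ n).1
    haveI := (hZ n).2
    haveI := (hZ m).1
    haveI := (hZ m).2
    exact homology_map_bijective b _ _
  have ex : ∀ n : ℕ, ∃ g : L ⟶ Z.obj (op n),
      (homologyFunctor A b).map g = θ.hom ≫ c'.app (op n) := fun n => (bij n).2 _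
  choose c hc using ex
  have hcone : ∀ {m n : ℕ} (hmn : m ≤ n), c n ≫ ARSys.tr Z hmn = c m := by
    intro m n hmn
    apply (bij m).1
    dsimp only
    rw [Functor.map_comp, hc, hc, Category.assoc]
    congr 1
    exact cone_tr c' hmn
  obtain ⟨s, hs⟩ : ∃ s : Z.obj (op i) ⟶ L, (homologyFunctor A b).map s = s' ≫ θ.inv := by
    haveI := (hZ i).1
    haveI := (hZ i).2
    exact (homology_map_bijective b (Z.obj (op i)) L).2 _
  refine ⟨L, { app := fun n => c (unop n), naturality := ?_ }, i, s, ?_, ?_⟩
  · rintro ⟨n⟩ ⟨m⟩ φ
    have hφ : φ = (homOfLE (leOfHom φ.unop)).op := Subsingleton.elim _ _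
    rw [hφ]
    erw [Category.id_comp]
    exact (hcone (leOfHom φ.unop)).symm
  · change c i ≫ s = 𝟙 L
    apply (homology_map_bijective b L L).1
    dsimp only
    rw [Functor.map_comp, hc, hs, CategoryTheory.Functor.map_id, Category.assoc,
      ← Category.assoc (c'.app (op i)), hs']
    simp
  · intro j
    obtain ⟨k, hi, hj, e⟩ := hk' j
    refine ⟨k, hi, hj, ?_⟩
    change ARSys.tr Z hj = ARSys.tr Z hi ≫ s ≫ c j
    apply (bij' k j).1
    dsimp only
    rw [Functor.map_comp, Functor.map_comp, hs, hc, Category.assoc, Iso.inv_hom_id_assoc]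
    exact e

end SingleDegree

section Trunc

variable (X : ARSys.PS (DerivedCategory A)) (b : ℤ)

/-- the truncated system `τ_{<b} X` -/
noncomputable def sysLT : ARSys.PS (DerivedCategory A) := X ⋙ tt.truncLT b

/-- the truncated system `τ_{≥b} X` -/
noncomputable def sysGE : ARSys.PS (DerivedCategory A) := X ⋙ tt.truncGE b

/-- `τ_{<b} X ⟶ X` -/
noncomputable def sysι : sysLT X b ⟶ X where
  app n := (tt.truncLTι b).app (X.obj n)
  naturality _ _ g := (tt.truncLTι b).naturality (X.map g)

/-- `X ⟶ τ_{≥b} X` -/
noncomputable def sysπ : X ⟶ sysGE X b where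
  app n := (tt.truncGEπ b).app (X.obj n)
  naturality _ _ g := (tt.truncGEπ b).naturality (X.map g)

/-- `τ_{≥b} X ⟶ (τ_{<b} X)[1]` -/
noncomputable def sysδ : sysGE X b ⟶ sysLT X b ⋙ shiftFunctor (DerivedCategory A) (1 : ℤ) where
  app n := (tt.truncGEδLT b).app (X.obj n)
  naturality _ _ g := (tt.truncGEδLT b).naturality (X.map g)

lemma sys_dist (n : ℕ) : Triangle.mk ((sysι X b).app (op n)) ((sysπ X b).app (op n))
    ((sysδ X b).app (op n)) ∈ distTriang (DerivedCategory A) :=
  tt.triangleLTGE_distinguished b (X.obj (op n))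

/-- `H^i(τ_{<b} X) ≅ H^i(X)` for `i < b` -/
noncomputable def isoLT (i : ℤ) (hi : i < b) :
    sysLT X b ⋙ homologyFunctor A i ≅ X ⋙ homologyFunctor A i :=
  NatIso.ofComponents
    (fun n => @asIso _ _ _ _ ((homologyFunctor A i).map ((tt.truncLTι b).app (X.obj n)))
      (isIso_homology_truncLTι (X.obj n) b i hi))
    (fun {n m} g => by
      dsimp [sysLT]
      rw [← Functor.map_comp, ← Functor.map_comp]
      congr 1
      exact (tt.truncLTι b).naturality (X.map g))

lemma isoLT_hom_app (i : ℤ) (hi : i < b) (n : ℕᵒᵖ) : (isoLT X b i hi).hom.app n =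
    (homologyFunctor A i).map ((tt.truncLTι b).app (X.obj n)) := rfl

/-- `H^i(X) ≅ H^i(τ_{≥b} X)` for `b ≤ i` -/
noncomputable def isoGE (i : ℤ) (hi : b ≤ i) :
    X ⋙ homologyFunctor A i ≅ sysGE X b ⋙ homologyFunctor A i :=
  NatIso.ofComponents
    (fun n => @asIso _ _ _ _ ((homologyFunctor A i).map ((tt.truncGEπ b).app (X.obj n)))
      (isIso_homology_truncGEπ (X.obj n) b i hi))
    (fun {n m} g => by
      dsimp [sysGE]
      rw [← Functor.map_comp, ← Functor.map_comp]
      congr 1
      exact (tt.truncGEπ b).naturality (X.map g))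

lemma isoGE_hom_app (i : ℤ) (hi : b ≤ i) (n : ℕᵒᵖ) : (isoGE X b i hi).hom.app n =
    (homologyFunctor A i).map ((tt.truncGEπ b).app (X.obj n)) := rfl

lemma isZero_homology_sysLT (n : ℕ) (i : ℤ) (hi : b ≤ i) :
    IsZero ((homologyFunctor A i).obj ((sysLT X b).obj (op n))) :=
  isZero_of_isLE ((tt.truncLT b).obj (X.obj (op n))) (b - 1) i (by omega)

lemma isZero_homology_sysGE (n : ℕ) (i : ℤ) (hi : i < b) :
    IsZero ((homologyFunctor A i).obj ((sysGE X b).obj (op n))) :=
  isZero_of_isGE ((tt.truncGE b).obj (X.obj (op n))) b i hi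

lemma isZero_homology_sysLT_of (n : ℕ) (i : ℤ) (hi : i < b)
    (h : IsZero ((homologyFunctor A i).obj (X.obj (op n)))) :
    IsZero ((homologyFunctor A i).obj ((sysLT X b).obj (op n))) :=
  h.of_iso ((isoLT X b i hi).app (op n))

lemma isZero_homology_sysGE_of (n : ℕ) (i : ℤ) (hi : b ≤ i)
    (h : IsZero ((homologyFunctor A i).obj (X.obj (op n)))) :
    IsZero ((homologyFunctor A i).obj ((sysGE X b).obj (op n))) :=
  h.of_iso ((isoGE X b i hi).app (op n)).symm

lemma sysGE_concentrated (hX : ∀ (n : ℕ) (i : ℤ), b < i →
    IsZero ((homologyFunctor A i).obj (X.obj (op n)))) (n : ℕ) :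
    ((sysGE X b).obj (op n)).IsGE b ∧ ((sysGE X b).obj (op n)).IsLE b := by
  constructor
  · change TStructure.t.IsGE ((tt.truncGE b).obj (X.obj (op n))) b
    infer_instance
  · rw [DerivedCategory.isLE_iff]
    intro i hi
    exact isZero_homology_sysGE_of X b n i hi.le (hX n i hi)

end Trunc

section Main

/-- dévissage for essentially constant systems -/
theorem ec_of_homology (k : ℕ) : ∀ (X : ARSys.PS (DerivedCategory A)) (a b : ℤ), b < a + k →
    (∀ (n : ℕ) (i : ℤ), i < a ∨ b < i → IsZero ((homologyFunctor A i).obj (X.obj (op n)))) →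
    (∀ i : ℤ, EC (X ⋙ homologyFunctor A i)) → EC X := by
  induction k with
  | zero =>
    intro X a b hab hX _
    apply EC.of_isZero
    intro n
    apply isZero_of_homology
    intro i
    apply hX n i
    simp only [Nat.cast_zero, add_zero] at hab
    omega
  | succ k IH =>
    intro X a b hab hX hH
    by_cases hk : b < a + k
    · exact IH X a b hk hX hH
    · have hb : b = a + k := by push_cast at hab; omega
      have h' : EC (sysLT X b) := by
        apply IH (sysLT X b) a (b - 1) (by omega)
        · intro n i hi
          by_cases hib : i < b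
          · exact isZero_homology_sysLT_of X b n i hib (hX n i (by omega))
          · exact isZero_homology_sysLT X b n i (by omega)
        · intro i
          by_cases hib : i < b
          · exact (hH i).of_iso (isoLT X b i hib).symm
          · exact EC.of_isZero _ (fun n => isZero_homology_sysLT X b n i (by omega))
      have h'' : EC (sysGE X b) := by
        apply ec_of_single_degree b (sysGE X b)
          (sysGE_concentrated X b (fun n i hi => hX n i (Or.inr hi)))
        exact (hH b).of_iso (isoGE X b b le_rfl)
      exact essConstant_middle (sysLT X b) X (sysGE X b) (sysι X b) (sysπ X b) (sysδ X b)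
        (sys_dist X b) h' h''

/-- dévissage for pro-isomorphisms -/
theorem isProIso_of_homology (k : ℕ) : ∀ (X Y : ARSys.PS (DerivedCategory A)) (f : X ⟶ Y)
    (a b : ℤ), b < a + k →
    (∀ (n : ℕ) (i : ℤ), i < a ∨ b < i → IsZero ((homologyFunctor A i).obj (X.obj (op n)))) →
    (∀ (n : ℕ) (i : ℤ), i < a ∨ b < i → IsZero ((homologyFunctor A i).obj (Y.obj (op n)))) →
    (∀ i : ℤ, DerCA.IsProIso (Functor.whiskerRight f (homologyFunctor A i))) →
    DerCA.IsProIso f := by
  induction k with
  | zero =>
    intro X Y f a b hab hX hY _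
    simp only [Nat.cast_zero, add_zero] at hab
    apply isProIso_of_isZero
    · intro n
      exact isZero_of_homology _ (fun i => hX n i (by omega))
    · intro n
      exact isZero_of_homology _ (fun i => hY n i (by omega))
  | succ k IH =>
    intro X Y f a b hab hX hY hH
    by_cases hk : b < a + k
    · exact IH X Y f a b hk hX hY hH
    · have hb : b = a + k := by push_cast at hab; omega
      let fL : sysLT X b ⟶ sysLT Y b := Functor.whiskerRight f (tt.truncLT b)
      let fG : sysGE X b ⟶ sysGE Y b := Functor.whiskerRight f (tt.truncGE b)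
      have h' : DerCA.IsProIso fL := by
        apply IH (sysLT X b) (sysLT Y b) fL a (b - 1) (by omega)
        · intro n i hi
          by_cases hib : i < b
          · exact isZero_homology_sysLT_of X b n i hib (hX n i (by omega))
          · exact isZero_homology_sysLT X b n i (by omega)
        · intro n i hi
          by_cases hib : i < b
          · exact isZero_homology_sysLT_of Y b n i hib (hY n i (by omega))
          · exact isZero_homology_sysLT Y b n i (by omega)
        · intro i
          by_cases hib : i < b
          · refine isProIso_conj (Functor.whiskerRight f (homologyFunctor A i)) _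
              (isoLT X b i hib).symm (isoLT Y b i hib).symm ?_ (hH i)
            intro n
            rw [← cancel_mono ((isoLT Y b i hib).hom.app (op n))]
            simp only [Category.assoc, Iso.symm_hom, Iso.inv_hom_id_app, Category.comp_id]
            rw [← cancel_epi ((isoLT X b i hib).hom.app (op n)), Iso.hom_inv_id_app_assoc,
              isoLT_hom_app, isoLT_hom_app]
            change (homologyFunctor A i).map ((tt.truncLTι b).app (X.obj (op n))) ≫
                (homologyFunctor A i).map (f.app (op n)) =
              (homologyFunctor A i).map ((tt.truncLT b).map (f.app (op n))) ≫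
                (homologyFunctor A i).map ((tt.truncLTι b).app (Y.obj (op n)))
            rw [← Functor.map_comp, ← Functor.map_comp]
            congr 1
            exact ((tt.truncLTι b).naturality (f.app (op n))).symm
          · exact isProIso_of_isZero _ (fun n => isZero_homology_sysLT X b n i (by omega))
              (fun n => isZero_homology_sysLT Y b n i (by omega))
      have h'' : DerCA.IsProIso fG := by
        apply isProIso_of_single_degree b fG
          (sysGE_concentrated X b (fun n i hi => hX n i (Or.inr hi)))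
          (sysGE_concentrated Y b (fun n i hi => hY n i (Or.inr hi)))
        refine isProIso_conj (Functor.whiskerRight f (homologyFunctor A b)) _
          (isoGE X b b le_rfl) (isoGE Y b b le_rfl) ?_ (hH b)
        intro n
        rw [isoGE_hom_app, isoGE_hom_app]
        change (homologyFunctor A b).map (f.app (op n)) ≫
            (homologyFunctor A b).map ((tt.truncGEπ b).app (Y.obj (op n))) =
          (homologyFunctor A b).map ((tt.truncGEπ b).app (X.obj (op n))) ≫
            (homologyFunctor A b).map ((tt.truncGE b).map (f.app (op n)))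
        rw [← Functor.map_comp, ← Functor.map_comp]
        congr 1
        exact (tt.truncGEπ b).naturality (f.app (op n))
      refine isProIso_middle (sysι X b) (sysπ X b) (sysδ X b) (sysι Y b) (sysπ Y b) (sysδ Y b)
        (sys_dist X b) (sys_dist Y b) fL f fG ?_ ?_ ?_ h' h''
      · intro n
        exact ((tt.truncLTι b).naturality (f.app (op n))).symm
      · intro n
        exact ((tt.truncGEπ b).naturality (f.app (op n))).symm
      · intro n
        exact ((tt.truncGEδLT b).naturality (f.app (op n))).symm

end Main

end Groth.Agent.Lib.Helper2.ProSys
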