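import Mathlib
import Groth.Prelude.Def_ModSite2
import Groth.Prelude.Def_ExtSupp
import Groth.Agent.Lib.Helper13.ModShriekGen
import Groth.Agent.Lib.Helper13.ModSiteUnitor

/-!
# Sections with support and the quotient `M/M_U` on a ringed site (helper2)

For an adjoint triple `L ⊣ R ⊣ R'` (think `j_! ⊣ j^* ⊣ j_*`) the functors
`Q = coker (L R ⟶ 𝟭)` and `Γ = ker (𝟭 ⟶ R' R)` are adjoint: `Q ⊣ Γ` (`adjQG`).
On a small ringed site, `Q = ModSite.quotOn O U` preserves monomorphisms
(`quotOn_preservesMonomorphisms`), hence `Γ_Z = ModSite.sectOn O U` preserves injectives.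
-/

set_option autoImplicit false
universe u
open CategoryTheory CategoryTheory.Limits Opposite

noncomputable section

namespace Groth.Agent.Lib.Helper2.SuppAdj

section Abstract

variable {A B : Type*} [Category A] [Category B] [Abelian A] [Preadditive B]
  {L : B ⥤ A} {R : A ⥤ B} {R' : B ⥤ A} (adj₁ : L ⊣ R) (adj₂ : R ⊣ R')
  [L.PreservesZeroMorphisms] [R.PreservesZeroMorphisms] [R'.PreservesZeroMorphisms]

omit [R'.PreservesZeroMorphisms] in
lemma counit_comp_eq_zero_iff {M N : A} (χ : M ⟶ N) :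
    adj₁.counit.app M ≫ χ = 0 ↔ R.map χ = 0 := by
  have h : adj₁.counit.app M ≫ χ = (adj₁.homEquiv _ _).symm (R.map χ) := by
    rw [Adjunction.homEquiv_counit]
    exact (adj₁.counit.naturality χ).symm
  constructor
  · intro h0
    have := congrArg (adj₁.homEquiv _ _) (h.symm.trans h0)
    rw [Equiv.apply_symm_apply, Adjunction.homEquiv_unit, Functor.map_zero, comp_zero] at this
    exact this
  · intro h0
    rw [h, h0, Adjunction.homEquiv_counit, Functor.map_zero, zero_comp]

omit [L.PreservesZeroMorphisms] in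
lemma comp_unit_eq_zero_iff {M N : A} (χ : M ⟶ N) :
    χ ≫ adj₂.unit.app N = 0 ↔ R.map χ = 0 := by
  have h : χ ≫ adj₂.unit.app N = adj₂.homEquiv _ _ (R.map χ) := by
    rw [Adjunction.homEquiv_unit]
    exact adj₂.unit.naturality χ
  constructor
  · intro h0
    have := congrArg (adj₂.homEquiv _ _).symm (h.symm.trans h0)
    rw [Equiv.symm_apply_apply, Adjunction.homEquiv_counit, Functor.map_zero, zero_comp] at this
    exact this
  · intro h0
    rw [h, h0, Adjunction.homEquiv_unit, Functor.map_zero, comp_zero]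

/-- `M ↦ coker (L R M ⟶ M)`. -/
def Qf : A ⥤ A where
  obj F := cokernel (adj₁.counit.app F)
  map {F G} φ := cokernel.map _ _ ((R ⋙ L).map φ) φ (by simp)
  map_id F := by
    apply coequalizer.hom_ext
    simp
  map_comp φ ψ := by
    apply coequalizer.hom_ext
    simp

/-- `M ↦ ker (M ⟶ R' R M)`. -/
def Gf : A ⥤ A where
  obj F := kernel (adj₂.unit.app F)
  map {F G} φ := kernel.map _ _ φ ((R ⋙ R').map φ) (adj₂.unit.naturality φ).symm
  map_id F := by
    apply equalizer.hom_ext
    simp
  map_comp φ ψ := by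
    apply equalizer.hom_ext
    simp

/-- the hom-set bijection of `Q ⊣ Γ`. -/
def homEquivQG (M N : A) : ((Qf adj₁).obj M ⟶ N) ≃ (M ⟶ (Gf adj₂).obj N) where
  toFun ψ := kernel.lift _ (cokernel.π (adj₁.counit.app M) ≫ ψ)
    ((comp_unit_eq_zero_iff adj₂ (M := M) (N := N) (cokernel.π (adj₁.counit.app M) ≫ ψ)).2
      ((counit_comp_eq_zero_iff adj₁ (M := M) (N := N) (cokernel.π (adj₁.counit.app M) ≫ ψ)).1
        ((cokernel.condition_assoc _ _).trans zero_comp)))
  invFun φ := cokernel.desc _ (φ ≫ kernel.ι (adj₂.unit.app N))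
    ((counit_comp_eq_zero_iff adj₁ (M := M) (N := N) (φ ≫ kernel.ι (adj₂.unit.app N))).2
      ((comp_unit_eq_zero_iff adj₂ (M := M) (N := N) (φ ≫ kernel.ι (adj₂.unit.app N))).1
        ((Category.assoc _ _ _).trans
          ((congrArg (fun t => φ ≫ t) (kernel.condition _)).trans comp_zero))))
  left_inv ψ := by
    apply coequalizer.hom_ext
    exact (cokernel.π_desc _ _ _).trans (kernel.lift_ι _ _ _)
  right_inv φ := by
    apply equalizer.hom_ext
    exact (kernel.lift_ι _ _ _).trans (cokernel.π_desc _ _ _)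

/-- **`Q ⊣ Γ`.** -/
def adjQG : Qf adj₁ ⊣ Gf adj₂ :=
  Adjunction.mkOfHomEquiv
    { homEquiv := homEquivQG adj₁ adj₂
      homEquiv_naturality_left_symm := by
        intro M' M N f g
        apply coequalizer.hom_ext
        refine (cokernel.π_desc _ _ _).trans ?_
        refine Eq.trans ?_ (Category.assoc _ _ _)
        refine Eq.trans ?_ (congrArg (fun t => t ≫ (homEquivQG adj₁ adj₂ M N).symm g)
          (cokernel.π_desc _ _ _).symm)
        refine Eq.trans ?_ (Category.assoc _ _ _).symm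
        refine Eq.trans (Category.assoc _ _ _) ?_
        exact congrArg (fun t => f ≫ t) (cokernel.π_desc _ _ _).symm
      homEquiv_naturality_right := by
        intro M N N' f g
        apply equalizer.hom_ext
        refine (kernel.lift_ι _ _ _).trans ?_
        refine Eq.trans ?_ (Category.assoc _ _ _).symm
        refine Eq.trans ?_ (congrArg (fun t => homEquivQG adj₁ adj₂ M N f ≫ t)
          (kernel.lift_ι _ _ _).symm)
        refine Eq.trans ?_ (Category.assoc _ _ _)
        refine Eq.trans (Category.assoc _ _ _).symm ?_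
        exact congrArg (fun t => t ≫ g) (kernel.lift_ι _ _ _).symm }

omit [R'.PreservesZeroMorphisms] [L.PreservesZeroMorphisms] [R.PreservesZeroMorphisms] in
/-- If counits of subobjects of `L R M'` are epimorphisms, then `Q` sends a monomorphism
`M ⟶ M'` to a monomorphism. -/
theorem mono_cokernel_map {M M' : A} (ι : M ⟶ M') [Mono ι]
    (h : ∀ (P : A) (i : P ⟶ L.obj (R.obj M')), Mono i → Epi (adj₁.counit.app P))
    (c : cokernel (adj₁.counit.app M) ⟶ cokernel (adj₁.counit.app M'))
    (e1 : cokernel.π (adj₁.counit.app M) ≫ c = ι ≫ cokernel.π (adj₁.counit.app M')) :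
    Mono c := by
  apply Preadditive.mono_of_cancel_zero
  intro T g hg
  obtain ⟨T₁, p₁, hp₁, x, hx⟩ :=
    surjective_up_to_refinements_of_epi (cokernel.π (adj₁.counit.app M)) g
  have h1 : (x ≫ ι) ≫ cokernel.π (adj₁.counit.app M') = 0 :=
    calc (x ≫ ι) ≫ cokernel.π (adj₁.counit.app M')
        = x ≫ (ι ≫ cokernel.π (adj₁.counit.app M')) := Category.assoc _ _ _
      _ = x ≫ (cokernel.π (adj₁.counit.app M) ≫ c) := congrArg (fun t => x ≫ t) e1.symm
      _ = (x ≫ cokernel.π (adj₁.counit.app M)) ≫ c := (Category.assoc _ _ _).symm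
      _ = (p₁ ≫ g) ≫ c := congrArg (fun t => t ≫ c) hx.symm
      _ = p₁ ≫ (g ≫ c) := Category.assoc _ _ _
      _ = p₁ ≫ 0 := congrArg (fun t => p₁ ≫ t) hg
      _ = 0 := comp_zero
  obtain ⟨T₂, p₂, hp₂, y, hy⟩ :=
    (Limits.CokernelCofork.IsColimit.comp_π_eq_zero_iff_up_to_refinements
      (cokernelIsCokernel (adj₁.counit.app M')) (x ≫ ι)).1 h1
  let z : T₂ ⟶ pullback ι (adj₁.counit.app M') :=
    pullback.lift (p₂ ≫ x) y ((Category.assoc _ _ _).trans hy)
  haveI : Epi (adj₁.counit.app (pullback ι (adj₁.counit.app M'))) :=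
    h _ (pullback.snd ι (adj₁.counit.app M')) inferInstance
  obtain ⟨T₃, p₃, hp₃, w, hw⟩ :=
    surjective_up_to_refinements_of_epi
      (adj₁.counit.app (pullback ι (adj₁.counit.app M'))) z
  have e3 := adj₁.counit.naturality (pullback.fst ι (adj₁.counit.app M'))
  have e4 : z ≫ pullback.fst ι (adj₁.counit.app M') = p₂ ≫ x := pullback.lift_fst _ _ _
  have e2 : p₃ ≫ (p₂ ≫ x) = (w ≫ L.map (R.map (pullback.fst ι (adj₁.counit.app M')))) ≫
      adj₁.counit.app M :=
    calc p₃ ≫ (p₂ ≫ x) = p₃ ≫ (z ≫ pullback.fst ι (adj₁.counit.app M')) :=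
          congrArg (fun t => p₃ ≫ t) e4.symm
      _ = (p₃ ≫ z) ≫ pullback.fst ι (adj₁.counit.app M') := (Category.assoc _ _ _).symm
      _ = (w ≫ adj₁.counit.app _) ≫ pullback.fst ι (adj₁.counit.app M') :=
          congrArg (fun t => t ≫ pullback.fst ι (adj₁.counit.app M')) hw
      _ = w ≫ (adj₁.counit.app _ ≫ pullback.fst ι (adj₁.counit.app M')) := Category.assoc _ _ _
      _ = w ≫ (L.map (R.map (pullback.fst ι (adj₁.counit.app M'))) ≫ adj₁.counit.app M) :=
          congrArg (fun t => w ≫ t) e3.symm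
      _ = _ := (Category.assoc _ _ _).symm
  have h2 : (p₃ ≫ p₂ ≫ p₁) ≫ g = 0 :=
    calc (p₃ ≫ p₂ ≫ p₁) ≫ g = p₃ ≫ (p₂ ≫ (p₁ ≫ g)) := by simp only [Category.assoc]
      _ = p₃ ≫ (p₂ ≫ (x ≫ cokernel.π (adj₁.counit.app M))) :=
          congrArg (fun t => p₃ ≫ (p₂ ≫ t)) hx
      _ = (p₃ ≫ (p₂ ≫ x)) ≫ cokernel.π (adj₁.counit.app M) := by simp only [Category.assoc]
      _ = ((w ≫ L.map (R.map (pullback.fst ι (adj₁.counit.app M')))) ≫ adj₁.counit.app M) ≫
            cokernel.π (adj₁.counit.app M) :=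
          congrArg (fun t => t ≫ cokernel.π (adj₁.counit.app M)) e2
      _ = (w ≫ L.map (R.map (pullback.fst ι (adj₁.counit.app M')))) ≫
            (adj₁.counit.app M ≫ cokernel.π (adj₁.counit.app M)) := Category.assoc _ _ _
      _ = (w ≫ L.map (R.map (pullback.fst ι (adj₁.counit.app M')))) ≫ 0 :=
          congrArg (fun t => (w ≫ L.map (R.map (pullback.fst ι (adj₁.counit.app M')))) ≫ t)
            (cokernel.condition _)
      _ = 0 := comp_zero
  haveI : Epi (p₃ ≫ p₂ ≫ p₁) := epi_comp _ _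
  exact (cancel_epi (p₃ ≫ p₂ ≫ p₁)).1 (h2.trans comp_zero.symm)

omit [R'.PreservesZeroMorphisms] [L.PreservesZeroMorphisms] [R.PreservesZeroMorphisms] in
theorem mono_Qf_map {M M' : A} (ι : M ⟶ M') [Mono ι]
    (h : ∀ (P : A) (i : P ⟶ L.obj (R.obj M')), Mono i → Epi (adj₁.counit.app P)) :
    Mono ((Qf adj₁).map ι) :=
  mono_cokernel_map adj₁ ι h _ (cokernel.π_desc _ _ _)

end Abstract

section Concrete

open Groth.Agent.Lib.Helper13 Groth.Agent.Lib.Helper13.ModShriekGen

variable {C : Type u} [SmallCategory C] {J : GrothendieckTopology C}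
  (O : Sheaf J CommRingCat.{u}) (U : C)

/-- every section is locally zero or lives over `U`. -/
def SuppU (M : ModSite.Mod O) : Prop :=
  ∀ (V : C) (s : M.val.obj (op V)), ∃ S ∈ J V, ∀ ⦃W : C⦄ (f : W ⟶ V), S f →
    M.val.map f.op s = 0 ∨ Nonempty (W ⟶ U)

instance : (ModSite.extZero O U).PreservesZeroMorphisms :=
  haveI := Groth.Agent.Lib.Helper13.ModSiteUnitor.additive_extZero O U
  inferInstance

instance : (ModSite.restr O U).PreservesZeroMorphisms :=
  haveI := ExtSupp.restr_additive O U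
  inferInstance

variable {O U} in
/-- modules supported on `U` have an epimorphic counit `j_! j^* M ⟶ M`. -/
theorem epi_counit_of_suppU (M : ModSite.Mod O) (h : SuppU O U M) :
    Epi ((ModSite.extZeroAdj O U).counit.app M) := by
  apply Preadditive.epi_of_cancel_zero
  intro T φ hφ
  change M ⟶ T at φ
  have h0 : (ModSite.restr O U).map φ = 0 :=
    (counit_comp_eq_zero_iff (ModSite.extZeroAdj O U) φ).1 hφ
  apply SheafOfModules.hom_ext
  apply PresheafOfModules.hom_ext
  intro X
  ext s
  obtain ⟨V⟩ := X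
  obtain ⟨S, hS, hs⟩ := h V s
  refine eq_of_cover T S hS _ _ ?_
  intro W f hf
  have nat := PresheafOfModules.naturality_apply φ.val f.op s
  refine nat.symm.trans ?_
  have rhs : T.val.map f.op ((0 : M ⟶ T).val.app (op V) s) = 0 := map_zero _
  refine Eq.trans ?_ rhs.symm
  rcases hs f hf with h1 | ⟨⟨g⟩⟩
  · exact (congrArg (fun t : M.val.obj (op W) => φ.val.app (op W) t) h1).trans (map_zero _)
  · have h2 : ((ModSite.restr O U).map φ).val.app (op (Over.mk g)) =
        (0 : (ModSite.restr O U).obj M ⟶ (ModSite.restr O U).obj T).val.app (op (Over.mk g)) := by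
      rw [h0]
    have h3 : φ.val.app (op W) = 0 := h2
    rw [h3]
    rfl

variable {O U} in
/-- `SuppU` passes to subobjects. -/
theorem suppU_of_mono {P N : ModSite.Mod O} (i : P ⟶ N) [Mono i] (hN : SuppU O U N) :
    SuppU O U P := by
  intro V s
  obtain ⟨S, hS, hs⟩ := hN V (i.val.app (op V) s)
  refine ⟨S, hS, ?_⟩
  intro W f hf
  rcases hs f hf with h1 | h1
  · left
    haveI : Mono i.val := (SheafOfModules.forget _).map_mono i
    apply PresheafOfModules.injective_of_mono i.val (op W)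
    have nat := PresheafOfModules.naturality_apply i.val f.op s
    exact nat.trans (h1.trans (map_zero _).symm)
  · exact Or.inr h1

/-- `j_! G` is supported on `U`. -/
theorem suppU_shriekL (G : ModSite.Mod (O.over U)) :
    SuppU O U ((shriekL (ModSite.ringSh O) U).obj G) := by
  intro V s
  obtain ⟨S, hS, hs⟩ := TensorLocal.locSurj_unit (𝟙 (ModSite.ringSh O).obj)
    ((OverShriek.shriekFunctor U (ModSite.ringSh O).obj).obj ((fgtU (ModSite.ringSh O) U).obj G)) V s
  refine ⟨S, hS, ?_⟩
  intro W f hf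
  by_cases hW : Nonempty (W ⟶ U)
  · exact Or.inr hW
  · left
    obtain ⟨t, ht⟩ := hs f hf
    haveI : IsEmpty (W ⟶ U) := not_nonempty_iff.1 hW
    have hsub : Subsingleton (OverShriek.Tot ((fgtU (ModSite.ringSh O) U).obj G) W) :=
      inferInstanceAs (Subsingleton (Π₀ φ : W ⟶ U, OverShriek.cmp ((fgtU (ModSite.ringSh O) U).obj G) φ))
    have ht0 : t = 0 := hsub.elim _ _
    rw [ht0, map_zero] at ht
    exact ht.symm

/-- `j_! G` is supported on `U`. -/
theorem suppU_extZero (G : ModSite.Mod (O.over U)) :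
    SuppU O U ((ModSite.extZero O U).obj G) :=
  suppU_of_mono ((Adjunction.leftAdjointUniq (extZeroAdjA (ModSite.ringSh O) U)
    (adjL (ModSite.ringSh O) U)).app G).hom (suppU_shriekL O U G)

/-- **`M ↦ M/M_U` preserves monomorphisms.** -/
instance quotOn_preservesMonomorphisms : (ModSite.quotOn O U).PreservesMonomorphisms :=
  ⟨fun ι _ => mono_Qf_map (ModSite.extZeroAdj O U) ι
    (fun P i _ => epi_counit_of_suppU P (suppU_of_mono i (suppU_extZero O U _)))⟩

instance [ModSite.HasPushOver O U] : (ModSite.pushOver O U).PreservesZeroMorphisms :=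
  haveI := ExtSupp.restr_additive O U
  haveI := (ModSite.restrPushOverAdj O U).right_adjoint_additive
  inferInstance

/-- **`M ↦ M/M_U` is left adjoint to `Γ_Z`.** -/
def adjQuotSect [ModSite.HasPushOver O U] : ModSite.quotOn O U ⊣ ModSite.sectOn O U :=
  adjQG (ModSite.extZeroAdj O U) (ModSite.restrPushOverAdj O U)

instance quotOn_additive [ModSite.HasPushOver O U] : (ModSite.quotOn O U).Additive :=
  (adjQuotSect O U).left_adjoint_additive

/-- **`Γ_Z` preserves injectives.** -/
instance injective_sectOn [ModSite.HasPushOver O U] (I : ModSite.Mod O) [Injective I] :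
    Injective ((ModSite.sectOn O U).obj I) :=
  Injective.injective_of_adjoint (adjQuotSect O U) I

end Concrete

end Groth.Agent.Lib.Helper2.SuppAdj
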