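import Mathlib.Algebra.Homology.DerivedCategory.RightDerivedFunctorPlus
import Mathlib.Algebra.Homology.DerivedCategory.ShortExact
import Mathlib.Algebra.Homology.DerivedCategory.HomologySequence

/-!
# The long exact sequence of the right derived functor on `D⁺`

For an additive functor `F : C ⥤ D` between abelian categories (`C` with enough injectives) and a
short exact sequence of bounded below complexes, we construct the long exact cohomology sequence of
`F.rightDerivedFunctorPlus`.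
-/

namespace Groth.Agent.Lib.Helper2.RDPlus

open CategoryTheory CategoryTheory.Limits Pretriangulated

universe w w' v v' u u'

section Abstract

variable {A : Type u} [Category.{v} A] [Abelian A]

/-- Transport of a five term exact sequence along isomorphisms (the connecting map is defined by
transport). -/
lemma exists_connecting {A₁ A₂ A₃ A₄ A₅ B₁ B₂ B₃ B₄ B₅ : A}
    (a₁ : A₁ ⟶ A₂) (a₂ : A₂ ⟶ A₃) (a₄ : A₄ ⟶ A₅)
    (b₁ : B₁ ⟶ B₂) (b₂ : B₂ ⟶ B₃) (b₃ : B₃ ⟶ B₄) (b₄ : B₄ ⟶ B₅)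
    (w₁ : A₁ ≅ B₁) (w₂ : A₂ ≅ B₂) (w₃ : A₃ ≅ B₃) (w₄ : A₄ ≅ B₄) (w₅ : A₅ ≅ B₅)
    (c₁ : a₁ ≫ w₂.hom = w₁.hom ≫ b₁) (c₂ : a₂ ≫ w₃.hom = w₂.hom ≫ b₂)
    (c₄ : a₄ ≫ w₅.hom = w₄.hom ≫ b₄)
    (z₁ : b₁ ≫ b₂ = 0) (z₂ : b₂ ≫ b₃ = 0) (z₃ : b₃ ≫ b₄ = 0)
    (e₁ : (ShortComplex.mk b₁ b₂ z₁).Exact) (e₂ : (ShortComplex.mk b₂ b₃ z₂).Exact)
    (e₃ : (ShortComplex.mk b₃ b₄ z₃).Exact) :
    ∃ (δ : A₃ ⟶ A₄) (h1 : a₁ ≫ a₂ = 0) (h2 : a₂ ≫ δ = 0) (h3 : δ ≫ a₄ = 0),
      (ShortComplex.mk a₁ a₂ h1).Exact ∧ (ShortComplex.mk a₂ δ h2).Exact ∧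
        (ShortComplex.mk δ a₄ h3).Exact := by
  have h1 : a₁ ≫ a₂ = 0 := by
    rw [← cancel_mono w₃.hom, Category.assoc, c₂, reassoc_of% c₁, z₁, comp_zero, zero_comp]
  have h2 : a₂ ≫ (w₃.hom ≫ b₃ ≫ w₄.inv) = 0 := by
    rw [reassoc_of% c₂, reassoc_of% z₂, zero_comp, comp_zero]
  have h3 : (w₃.hom ≫ b₃ ≫ w₄.inv) ≫ a₄ = 0 := by
    rw [← cancel_mono w₅.hom, Category.assoc, Category.assoc, Category.assoc, c₄,
      Iso.inv_hom_id_assoc, z₃, comp_zero, zero_comp]
  refine ⟨w₃.hom ≫ b₃ ≫ w₄.inv, h1, h2, h3, ?_, ?_, ?_⟩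
  · exact (ShortComplex.exact_iff_of_iso
      (ShortComplex.isoMk w₁ w₂ w₃ (by exact c₁.symm) (by exact c₂.symm))).2 e₁
  · exact (ShortComplex.exact_iff_of_iso
      (ShortComplex.isoMk w₂ w₃ w₄ (by exact c₂.symm) (by simp))).2 e₂
  · exact (ShortComplex.exact_iff_of_iso
      (ShortComplex.isoMk w₃ w₄ w₅ (by simp) (by exact c₄.symm))).2 e₃

end Abstract

variable {C : Type u} [Category.{v} C] [Abelian C] [HasDerivedCategory.{w} C]

section Cone

/-- The mapping cone of a morphism of bounded below complexes, as a bounded below complex. -/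
noncomputable def conePlus {J₁ J₂ : CochainComplex.Plus C} (φ : J₁ ⟶ J₂) : CochainComplex.Plus C :=
  ⟨CochainComplex.mappingCone φ.hom, by
    obtain ⟨n₁, h₁⟩ := J₁.property
    obtain ⟨n₂, h₂⟩ := J₂.property
    exact ⟨min (n₁ - 1) n₂, CochainComplex.isStrictlyGE_mappingCone φ.hom n₁ n₂ _
      (by simp) (by simp)⟩⟩

/-- The inclusion of the target in the mapping cone. -/
noncomputable def inrPlus {J₁ J₂ : CochainComplex.Plus C} (φ : J₁ ⟶ J₂) : J₂ ⟶ conePlus φ :=
  ObjectProperty.homMk (CochainComplex.mappingCone.inr φ.hom)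

lemma injective_conePlus {J₁ J₂ : CochainComplex.Plus C} (φ : J₁ ⟶ J₂)
    [h₁ : ∀ n, Injective (J₁.obj.X n)] [h₂ : ∀ n, Injective (J₂.obj.X n)] (n : ℤ) :
    Injective ((conePlus φ).obj.X n) :=
  Injective.of_iso (HomologicalComplex.homotopyCofiber.XIsoBiprod φ.hom n (n + 1) rfl).symm
    inferInstance

end Cone

variable [EnoughInjectives C]
  {D : Type u'} [Category.{v'} D] [Abelian D] [HasDerivedCategory.{w'} D]
  (F : C ⥤ D) [F.Additive]

/-- The unit isomorphism `F(J) ≅ RF(J)` for a bounded below complex of injectives `J`. -/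
noncomputable def uIso (J : CochainComplex.Plus C) [∀ n, Injective (J.obj.X n)] :
    (F.mapHomotopyCategoryPlus ⋙ DerivedCategory.Plus.Qh).obj
        ((HomotopyCategory.Plus.quotient C).obj J) ≅
      F.rightDerivedFunctorPlus.obj (DerivedCategory.Plus.Q.obj J) :=
  haveI : IsIso (F.rightDerivedFunctorPlusUnit.app ((HomotopyCategory.Plus.quotient C).obj J)) :=
    inferInstance
  (asIso (F.rightDerivedFunctorPlusUnit.app ((HomotopyCategory.Plus.quotient C).obj J)) :)

lemma uIso_naturality {JX JY : CochainComplex.Plus C} [∀ n, Injective (JX.obj.X n)]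
    [∀ n, Injective (JY.obj.X n)] (μ : JX ⟶ JY) :
    (F.mapHomotopyCategoryPlus ⋙ DerivedCategory.Plus.Qh).map
        ((HomotopyCategory.Plus.quotient C).map μ) ≫ (uIso F JY).hom =
      (uIso F JX).hom ≫ F.rightDerivedFunctorPlus.map (DerivedCategory.Plus.Q.map μ) :=
  F.rightDerivedFunctorPlusUnit.naturality ((HomotopyCategory.Plus.quotient C).map μ)

/-- The comparison isomorphism `RF(X) ≅ F(J)` for an "injective model" `J` of `X`. -/
noncomputable def vIso (X J : CochainComplex.Plus C) [∀ n, Injective (J.obj.X n)]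
    (e : DerivedCategory.Plus.Q.obj X ≅ DerivedCategory.Plus.Q.obj J) :
    F.rightDerivedFunctorPlus.obj (DerivedCategory.Plus.Q.obj X) ≅
      (F.mapHomotopyCategoryPlus ⋙ DerivedCategory.Plus.Qh).obj
        ((HomotopyCategory.Plus.quotient C).obj J) :=
  F.rightDerivedFunctorPlus.mapIso e ≪≫ (uIso F J).symm

lemma vIso_comm {X Y JX JY : CochainComplex.Plus C} [∀ n, Injective (JX.obj.X n)]
    [∀ n, Injective (JY.obj.X n)]
    (eX : DerivedCategory.Plus.Q.obj X ≅ DerivedCategory.Plus.Q.obj JX)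
    (eY : DerivedCategory.Plus.Q.obj Y ≅ DerivedCategory.Plus.Q.obj JY)
    (m : X ⟶ Y) (μ : JX ⟶ JY)
    (comm : DerivedCategory.Plus.Q.map m ≫ eY.hom = eX.hom ≫ DerivedCategory.Plus.Q.map μ) :
    F.rightDerivedFunctorPlus.map (DerivedCategory.Plus.Q.map m) ≫ (vIso F Y JY eY).hom =
      (vIso F X JX eX).hom ≫ (F.mapHomotopyCategoryPlus ⋙ DerivedCategory.Plus.Qh).map
        ((HomotopyCategory.Plus.quotient C).map μ) := by
  dsimp only [vIso, Iso.trans_hom, Functor.mapIso_hom, Iso.symm_hom]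
  rw [← Category.assoc, ← Functor.map_comp, comm, Functor.map_comp, Category.assoc,
    Category.assoc]
  congr 1
  rw [Iso.eq_inv_comp, ← Category.assoc, Iso.comp_inv_eq]
  exact (uIso_naturality F μ).symm

omit [EnoughInjectives C] in
lemma isIso_PlusQ_map {X Y : CochainComplex.Plus C} (i : X ⟶ Y) [QuasiIso i.hom] :
    IsIso (DerivedCategory.Plus.Q.map i) := by
  have : IsIso (DerivedCategory.Plus.ι.map (DerivedCategory.Plus.Q.map i)) := by
    change IsIso (DerivedCategory.Q.map i.hom)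
    infer_instance
  exact isIso_of_fully_faithful DerivedCategory.Plus.ι _

/-- The functor `X ↦ Hⁿ(RF(X))` on bounded below complexes. -/
noncomputable abbrev RH (n : ℤ) : CochainComplex.Plus C ⥤ D :=
  HomotopyCategory.Plus.quotient C ⋙ DerivedCategory.Plus.Qh ⋙ F.rightDerivedFunctorPlus ⋙
    DerivedCategory.Plus.ι ⋙ DerivedCategory.homologyFunctor D n

/-- The long exact sequence of the right derived functor on `D⁺` attached to a short exact sequence
of bounded below complexes (five terms, with an unspecified connecting morphism). -/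
theorem les {X₁ X₂ X₃ : CochainComplex.Plus C} (f : X₁ ⟶ X₂) (g : X₂ ⟶ X₃)
    (hfg : f.hom ≫ g.hom = 0) (hS : (ShortComplex.mk f.hom g.hom hfg).ShortExact)
    (n₀ n₁ : ℤ) (hn : n₀ + 1 = n₁) :
    ∃ (δ : (RH F n₀).obj X₃ ⟶ (RH F n₁).obj X₁)
      (h1 : (RH F n₀).map f ≫ (RH F n₀).map g = 0)
      (h2 : (RH F n₀).map g ≫ δ = 0) (h3 : δ ≫ (RH F n₁).map f = 0),
      (ShortComplex.mk _ _ h1).Exact ∧ (ShortComplex.mk _ _ h2).Exact ∧
        (ShortComplex.mk _ _ h3).Exact := by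
  obtain ⟨a₁, ha₁⟩ := X₁.property
  obtain ⟨a₂, ha₂⟩ := X₂.property
  obtain ⟨L₁, _, i₁, hi₁⟩ := CochainComplex.Plus.exists_quasiIso_injective X₁ a₁
  obtain ⟨L₂, _, i₂, hi₂⟩ := CochainComplex.Plus.exists_quasiIso_injective X₂ a₂
  let J₁ : CochainComplex.Plus C := (InjectiveObject.ι C).mapCochainComplexPlus.obj L₁
  let J₂ : CochainComplex.Plus C := (InjectiveObject.ι C).mapCochainComplexPlus.obj L₂
  haveI : ∀ n, Injective (J₁.obj.X n) := fun n => (L₁.obj.X n).property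
  haveI : ∀ n, Injective (J₂.obj.X n) := fun n => (L₂.obj.X n).property
  haveI : QuasiIso i₁.hom := hi₁
  haveI : QuasiIso i₂.hom := hi₂
  haveI : CochainComplex.IsKInjective J₂.obj :=
    inferInstanceAs (CochainComplex.IsKInjective
      (((InjectiveObject.ι C).mapHomologicalComplex (ComplexShape.up ℤ)).obj L₂.obj))
  -- the morphism between the resolutions
  obtain ⟨gφ, hgφ⟩ := (CochainComplex.IsKInjective.Qh_map_bijective
    ((HomotopyCategory.quotient _ _).obj J₁.obj) J₂.obj).surjective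
    ((DerivedCategory.quotientCompQhIso C).hom.app J₁.obj ≫ inv (DerivedCategory.Q.map i₁.hom) ≫
      DerivedCategory.Q.map f.hom ≫ DerivedCategory.Q.map i₂.hom ≫
        (DerivedCategory.quotientCompQhIso C).inv.app J₂.obj)
  obtain ⟨φ₀, rfl⟩ := (HomotopyCategory.quotient _ _).map_surjective gφ
  have hφ₀ : DerivedCategory.Q.map f.hom ≫ DerivedCategory.Q.map i₂.hom =
      DerivedCategory.Q.map i₁.hom ≫ DerivedCategory.Q.map φ₀ := by
    have h1 := (DerivedCategory.quotientCompQhIso C).hom.naturality φ₀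
    dsimp at h1
    have h2 : inv (DerivedCategory.Q.map i₁.hom) ≫ DerivedCategory.Q.map f.hom ≫
        DerivedCategory.Q.map i₂.hom = DerivedCategory.Q.map φ₀ := by
      rw [← cancel_epi ((DerivedCategory.quotientCompQhIso C).hom.app J₁.obj), ← h1, hgφ]
      simp
      erw [Category.comp_id]
    rw [← h2, IsIso.hom_inv_id_assoc]
  let φ : J₁ ⟶ J₂ := ObjectProperty.homMk φ₀
  haveI : ∀ n, Injective ((conePlus φ).obj.X n) := injective_conePlus φ
  -- the isomorphism of triangles in `D(C)`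
  let T₂ := DerivedCategory.Q.mapTriangle.obj (CochainComplex.mappingCone.triangle φ₀)
  have hT₂ : T₂ ∈ distTriang (DerivedCategory C) := by
    rw [DerivedCategory.mem_distTriang_iff]
    exact ⟨_, _, φ₀, ⟨Iso.refl _⟩⟩
  have hI₁ : IsIso (DerivedCategory.Q.map i₁.hom) := inferInstance
  have hI₂ : IsIso (DerivedCategory.Q.map i₂.hom) := inferInstance
  let e₁ : DerivedCategory.Q.obj X₁.obj ≅ DerivedCategory.Q.obj J₁.obj :=
    asIso (DerivedCategory.Q.map i₁.hom)
  let e₂ : DerivedCategory.Q.obj X₂.obj ≅ DerivedCategory.Q.obj J₂.obj :=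
    asIso (DerivedCategory.Q.map i₂.hom)
  let eT := isoTriangleOfIso₁₂ (DerivedCategory.triangleOfSES hS) T₂
    (DerivedCategory.triangleOfSES_distinguished hS) hT₂ e₁ e₂ hφ₀
  -- lifts to `D⁺(C)`
  haveI := isIso_PlusQ_map i₁
  haveI := isIso_PlusQ_map i₂
  let et₁ : DerivedCategory.Plus.Q.obj X₁ ≅ DerivedCategory.Plus.Q.obj J₁ :=
    asIso (DerivedCategory.Plus.Q.map i₁)
  let et₂ : DerivedCategory.Plus.Q.obj X₂ ≅ DerivedCategory.Plus.Q.obj J₂ :=
    asIso (DerivedCategory.Plus.Q.map i₂)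
  let e₃' : DerivedCategory.Plus.ι.obj (DerivedCategory.Plus.Q.obj X₃) ≅
      DerivedCategory.Plus.ι.obj (DerivedCategory.Plus.Q.obj (conePlus φ)) :=
    Triangle.π₃.mapIso eT
  let et₃ : DerivedCategory.Plus.Q.obj X₃ ≅ DerivedCategory.Plus.Q.obj (conePlus φ) :=
    DerivedCategory.Plus.ι.preimageIso e₃'
  have comm₁ : DerivedCategory.Plus.Q.map f ≫ et₂.hom = et₁.hom ≫ DerivedCategory.Plus.Q.map φ := by
    apply DerivedCategory.Plus.ι.map_injective
    exact hφ₀
  have comm₂ : DerivedCategory.Plus.Q.map g ≫ et₃.hom =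
      et₂.hom ≫ DerivedCategory.Plus.Q.map (inrPlus φ) := by
    apply DerivedCategory.Plus.ι.map_injective
    rw [Functor.map_comp, Functor.map_comp, Functor.preimageIso_hom, Functor.map_preimage]
    have := eT.hom.comm₂
    rw [isoTriangleOfIso₁₂_hom_hom₂] at this
    exact this
  have sq₁ := vIso_comm F et₁ et₂ f φ comm₁
  have sq₂ := vIso_comm F et₂ et₃ g (inrPlus φ) comm₂
  -- the distinguished triangle in `D(D)`
  let T₃ := (F.mapHomotopyCategory (ComplexShape.up ℤ) ⋙ DerivedCategory.Qh).mapTriangle.obj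
    (CochainComplex.mappingCone.triangleh φ₀)
  have hT₃ : T₃ ∈ distTriang (DerivedCategory D) :=
    (F.mapHomotopyCategory (ComplexShape.up ℤ) ⋙ DerivedCategory.Qh).map_distinguished _
      (HomotopyCategory.mappingCone_triangleh_distinguished φ₀)
  let H := fun n : ℤ => DerivedCategory.Plus.ι ⋙ DerivedCategory.homologyFunctor D n
  have c₁ : (RH F n₀).map f ≫ ((H n₀).mapIso (vIso F X₂ J₂ et₂)).hom =
      ((H n₀).mapIso (vIso F X₁ J₁ et₁)).hom ≫ (DerivedCategory.homologyFunctor D n₀).map T₃.mor₁ := by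
    have := congrArg (H n₀).map sq₁
    rw [Functor.map_comp, Functor.map_comp] at this
    exact this
  have c₂ : (RH F n₀).map g ≫ ((H n₀).mapIso (vIso F X₃ (conePlus φ) et₃)).hom =
      ((H n₀).mapIso (vIso F X₂ J₂ et₂)).hom ≫ (DerivedCategory.homologyFunctor D n₀).map T₃.mor₂ := by
    have := congrArg (H n₀).map sq₂
    rw [Functor.map_comp, Functor.map_comp] at this
    exact this
  have c₄ : (RH F n₁).map f ≫ ((H n₁).mapIso (vIso F X₂ J₂ et₂)).hom =
      ((H n₁).mapIso (vIso F X₁ J₁ et₁)).hom ≫ (DerivedCategory.homologyFunctor D n₁).map T₃.mor₁ := by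
    have := congrArg (H n₁).map sq₁
    rw [Functor.map_comp, Functor.map_comp] at this
    exact this
  exact exists_connecting _ _ _ _ _ (DerivedCategory.HomologySequence.δ T₃ n₀ n₁ hn) _
    _ _ _ _ _ c₁ c₂ c₄ _ _ _
    (DerivedCategory.HomologySequence.exact₂ T₃ hT₃ n₀)
    (DerivedCategory.HomologySequence.exact₃ T₃ hT₃ n₀ n₁ hn)
    (DerivedCategory.HomologySequence.exact₁ T₃ hT₃ n₀ n₁ hn)

end Groth.Agent.Lib.Helper2.RDPlus
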