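import Mathlib.CategoryTheory.Abelian.GrothendieckAxioms.Basic
import Mathlib.CategoryTheory.Functor.OfSequence
import Mathlib.CategoryTheory.Limits.Preserves.Shapes.Kernels
import Mathlib.Algebra.Homology.ShortComplex.ShortExact
import Mathlib.CategoryTheory.Abelian.FunctorCategory
import Mathlib.Tactic.Abel
import Groth.Prelude.Def_DerLim

/-!
# Sequential colimits in abelian categories with exact `ℕ`-colimits:
`0 ⟶ ∐ F ⟶ ∐ F ⟶ colim F ⟶ 0`
-/

set_option autoImplicit false

namespace Groth.Agent.Lib.Helper2.SeqColim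

open CategoryTheory CategoryTheory.Limits

universe v u

section Preadd

variable {C : Type u} [Category.{v} C] [Preadditive C] (X : ℕ → C) (t : ∀ n, X n ⟶ X (n + 1))
  [HasCoproduct X]

/-- projection onto the first `N` summands -/
noncomputable def pLt (N : ℕ) : ∐ X ⟶ ∐ X :=
  Sigma.desc (fun n => if n < N then Sigma.ι X n else 0)

lemma ι_pLt_of_lt {n N : ℕ} (h : n < N) : Sigma.ι X n ≫ pLt X N = Sigma.ι X n := by
  rw [pLt, Sigma.ι_desc, if_pos h]

lemma ι_pLt_of_le {n N : ℕ} (h : N ≤ n) : Sigma.ι X n ≫ pLt X N = 0 := by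
  rw [pLt, Sigma.ι_desc, if_neg (not_lt.mpr h)]

lemma pLt_zero : pLt X 0 = 0 := by
  apply Sigma.hom_ext
  intro n
  rw [ι_pLt_of_le X (Nat.zero_le n), comp_zero]

lemma ι_shiftMap (m : ℕ) : Sigma.ι X m ≫ DerLim.shiftMap X t = t m ≫ Sigma.ι X (m + 1) := by
  simp [DerLim.shiftMap]

lemma shiftMap_pLt (N : ℕ) :
    DerLim.shiftMap X t ≫ pLt X (N + 1) = pLt X N ≫ DerLim.shiftMap X t := by
  apply Sigma.hom_ext
  intro n
  by_cases h : n < N
  · rw [← Category.assoc, ι_shiftMap, Category.assoc, ι_pLt_of_lt X (Nat.succ_lt_succ h),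
      ← Category.assoc, ι_pLt_of_lt X h, ι_shiftMap]
  · rw [← Category.assoc, ι_shiftMap, Category.assoc,
      ι_pLt_of_le X (Nat.succ_le_succ (not_lt.mp h)),
      ← Category.assoc, ι_pLt_of_le X (not_lt.mp h), comp_zero, zero_comp]

/-- kills the first `N` summands -/
noncomputable def qGe (N : ℕ) : ∐ X ⟶ ∐ X := 𝟙 _ - pLt X N

lemma ι_qGe_of_lt {n N : ℕ} (h : n < N) : Sigma.ι X n ≫ qGe X N = 0 := by
  rw [qGe, Preadditive.comp_sub, Category.comp_id, ι_pLt_of_lt X h, sub_self]

lemma ι_qGe_of_le {n N : ℕ} (h : N ≤ n) : Sigma.ι X n ≫ qGe X N = Sigma.ι X n := by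
  rw [qGe, Preadditive.comp_sub, Category.comp_id, ι_pLt_of_le X h, sub_zero]

lemma qGe_comp_qGe_succ (N : ℕ) : qGe X N ≫ qGe X (N + 1) = qGe X (N + 1) := by
  apply Sigma.hom_ext
  intro n
  by_cases h : n < N
  · rw [← Category.assoc, ι_qGe_of_lt X h, zero_comp, ι_qGe_of_lt X (Nat.lt_succ_of_lt h)]
  · rw [← Category.assoc, ι_qGe_of_le X (not_lt.mp h)]

lemma comp_pLt_eq_zero {Z : C} (ψ : Z ⟶ ∐ X) (hψ : ψ ≫ DerLim.shiftMap X t = ψ) (N : ℕ) :
    ψ ≫ pLt X N = 0 := by
  induction N with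
  | zero => rw [pLt_zero, comp_zero]
  | succ N ih =>
    rw [← hψ, Category.assoc, shiftMap_pLt, ← Category.assoc, ih, zero_comp]

lemma eq_zero_of_comp_qGe {Z : C} (ψ : Z ⟶ ∐ X) (hψ : ψ ≫ DerLim.shiftMap X t = ψ) (N : ℕ)
    (h : ψ ≫ qGe X N = 0) : ψ = 0 := by
  have h0 := comp_pLt_eq_zero X t ψ hψ N
  have h1 : ψ = ψ ≫ pLt X N + ψ ≫ qGe X N := by
    rw [qGe, Preadditive.comp_sub, Category.comp_id]
    abel
  rw [h1, h0, h, add_zero]

end Preadd

section Abelian

variable {A : Type u} [Category.{v} A] [Abelian A] [HasColimitsOfShape ℕ A]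
  (X : ℕ → A) (t : ∀ n, X n ⟶ X (n + 1)) [HasCoproduct X]

/-- the tower `W ⟶ W ⟶ ⋯` of truncations -/
noncomputable def qTower : ℕ ⥤ A :=
  Functor.ofSequence (X := fun _ => ∐ X) (fun N => qGe X (N + 1))

/-- the structure maps of the colimit of the tower of truncations -/
noncomputable def qc (N : ℕ) : ∐ X ⟶ colimit (qTower X) := colimit.ι (qTower X) N

lemma qc_succ (N : ℕ) : qc X N = qGe X (N + 1) ≫ qc X (N + 1) := by
  have h := colimit.w (qTower X) (homOfLE (Nat.le_add_right N 1))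
  have h2 : (qTower X).map (homOfLE (Nat.le_add_right N 1)) = qGe X (N + 1) :=
    Functor.ofSequence_map_homOfLE_succ _ N
  rw [h2] at h
  exact h.symm

lemma ι_qc_aux : ∀ (d N n : ℕ), n = N + d → Sigma.ι X n ≫ qc X N = 0 := by
  intro d
  induction d with
  | zero =>
    intro N n hn
    subst hn
    rw [qc_succ, ← Category.assoc, ι_qGe_of_lt X (Nat.lt_succ_self _), zero_comp]
  | succ d ih =>
    intro N n hn
    rw [qc_succ, ← Category.assoc, ι_qGe_of_le X (by omega)]
    exact ih (N + 1) n (by omega)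

lemma qc_eq_zero (N : ℕ) : qc X N = 0 := by
  apply Sigma.hom_ext
  intro n
  rw [comp_zero]
  by_cases h : n < N
  · rw [qc_succ, ← Category.assoc, ι_qGe_of_lt X (Nat.lt_succ_of_lt h), zero_comp]
  · exact ι_qc_aux X (n - N) N n (by omega)

lemma isZero_colimit_qTower : IsZero (colimit (qTower X)) := by
  rw [IsZero.iff_id_eq_zero]
  apply colimit.hom_ext
  intro N
  rw [Category.comp_id, comp_zero]
  exact qc_eq_zero X N

variable [HasExactColimitsOfShape ℕ A]

/-- In an abelian category with exact sequential colimits, `1 - shift` is a monomorphism. -/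
theorem mono_one_sub_shiftMap : Mono (𝟙 (∐ X) - DerLim.shiftMap X t) := by
  apply Preadditive.mono_of_cancel_zero
  intro Z g hg
  have hgs : g ≫ DerLim.shiftMap X t = g := by
    rw [Preadditive.comp_sub, Category.comp_id, sub_eq_zero] at hg
    exact hg.symm
  let τ : (Functor.const ℕ).obj Z ⟶ qTower X :=
    NatTrans.ofSequence (fun N => (g ≫ qGe X N : Z ⟶ ∐ X)) (by
      intro N
      have h2 : (qTower X).map (homOfLE (Nat.le_add_right N 1)) = qGe X (N + 1) :=
        Functor.ofSequence_map_homOfLE_succ _ N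
      rw [h2]
      change 𝟙 Z ≫ g ≫ qGe X (N + 1) = (g ≫ qGe X N) ≫ qGe X (N + 1)
      rw [Category.id_comp, Category.assoc, qGe_comp_qGe_succ])
  have hκ : ∀ N, (kernel.ι τ).app N ≫ g = 0 := by
    intro N
    apply eq_zero_of_comp_qGe X t _ (by rw [Category.assoc, hgs]) N
    have h1 : (kernel.ι τ ≫ τ).app N = 0 := by rw [kernel.condition]; rfl
    rw [Category.assoc]
    exact h1
  have hlim : IsLimit ((KernelFork.ofι (kernel.ι τ) (kernel.condition τ)).map colim) :=
    KernelFork.mapIsLimit _ (kernelIsKernel τ) colim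
  have hz : colim.map τ = 0 := (isZero_colimit_qTower X).eq_of_tgt _ _
  have hiso : IsIso (colim.map (kernel.ι τ)) := KernelFork.IsLimit.isIso_ι _ hlim hz
  let d : colimit ((Functor.const ℕ).obj Z) ⟶ Z :=
    colimit.desc ((Functor.const ℕ).obj Z) ⟨Z, 𝟙 _⟩
  have hd : ∀ N, colimit.ι ((Functor.const ℕ).obj Z) N ≫ d = 𝟙 Z := fun N => by
    simp [d]
  have hdepi : Epi d := (SplitEpi.mk _ (hd 0)).epi
  have hepi : Epi (colim.map (kernel.ι τ) ≫ d) := epi_comp _ _
  rw [← cancel_epi (colim.map (kernel.ι τ) ≫ d), comp_zero]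
  apply colimit.hom_ext
  intro N
  rw [comp_zero, Category.assoc, ← Category.assoc, colimit.ι_map, Category.assoc,
    ← Category.assoc (colimit.ι _ N), hd]
  erw [Category.id_comp]
  exact hκ N

end Abelian

section Functor

variable {A : Type u} [Category.{v} A] [Abelian A] [HasColimitsOfShape ℕ A]
  (F : ℕ ⥤ A) [HasCoproduct F.obj]

/-- the shift map of a functor `ℕ ⥤ A` -/
noncomputable abbrev fShift : (∐ F.obj) ⟶ ∐ F.obj :=
  DerLim.shiftMap F.obj (fun n => F.map (homOfLE (Nat.le_succ n)))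

lemma one_sub_shiftMap_comp_desc :
    (𝟙 (∐ F.obj) - fShift F) ≫ Sigma.desc (fun n => colimit.ι F n) = 0 := by
  apply Sigma.hom_ext
  intro n
  rw [comp_zero, Preadditive.sub_comp, Category.id_comp, Preadditive.comp_sub, Sigma.ι_desc,
    ← Category.assoc, ι_shiftMap, Category.assoc, Sigma.ι_desc, colimit.w, sub_self]

/-- `colim F` is the cokernel of `1 - shift`. -/
noncomputable def isColimitCokernelCofork :
    IsColimit (CokernelCofork.ofπ (Sigma.desc (fun n => colimit.ι F n))
      (one_sub_shiftMap_comp_desc F)) :=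
  CokernelCofork.IsColimit.ofπ _ _
    (fun {Z} h hh => colimit.desc F ⟨Z, NatTrans.ofSequence (fun n => Sigma.ι F.obj n ≫ h) (by
      intro n
      have h1 := congrArg (fun α => Sigma.ι F.obj n ≫ α) hh
      simp only [comp_zero, Preadditive.sub_comp, Category.id_comp, Preadditive.comp_sub] at h1
      rw [sub_eq_zero, ← Category.assoc, ι_shiftMap, Category.assoc] at h1
      change F.map (homOfLE (Nat.le_add_right n 1)) ≫ Sigma.ι F.obj (n + 1) ≫ h =
        (Sigma.ι F.obj n ≫ h) ≫ 𝟙 Z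
      rw [Category.comp_id, h1])⟩)
    (fun {Z} h hh => by
      apply Sigma.hom_ext
      intro n
      rw [← Category.assoc, Sigma.ι_desc, colimit.ι_desc]
      rfl)
    (fun {Z} h hh m hm => by
      subst hm
      apply colimit.hom_ext
      intro n
      rw [colimit.ι_desc]
      change colimit.ι F n ≫ m =
        Sigma.ι F.obj n ≫ Sigma.desc (fun n => colimit.ι F n) ≫ m
      rw [← Category.assoc, Sigma.ι_desc])

variable [HasExactColimitsOfShape ℕ A]

theorem shortExact :
    (ShortComplex.mk _ _ (one_sub_shiftMap_comp_desc F)).ShortExact := by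
  have hmono : Mono (𝟙 (∐ F.obj) - fShift F) := mono_one_sub_shiftMap _ _
  have hepi : Epi (Sigma.desc (fun n => colimit.ι F n)) :=
    epi_of_isColimit_cofork (isColimitCokernelCofork F)
  exact
    { exact := ShortComplex.exact_of_g_is_cokernel _ (isColimitCokernelCofork F)
      mono_f := hmono
      epi_g := hepi }

end Functor

end Groth.Agent.Lib.Helper2.SeqColim
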