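import Groth.Agent.Lib.Helper2.SeqColim
import Mathlib.Algebra.Homology.GrothendieckAbelian
import Mathlib.Algebra.Homology.DerivedCategory.ShortExact
import Mathlib.CategoryTheory.Limits.Preserves.Shapes.Products

/-!
# The termwise colimit of a sequence of complexes is a homotopy colimit in the derived category
-/

set_option autoImplicit false

namespace Groth.Agent.Lib.Helper2.SeqColim

open CategoryTheory CategoryTheory.Limits CategoryTheory.Pretriangulated

universe w v v' u u'

section Transport

variable {C : Type u} [Category.{v} C] [Preadditive C]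
  {B : Type u'} [Category.{v'} B] [Preadditive B]
  (K : ℕ → C) (f : ∀ n, K n ⟶ K (n + 1)) [HasCoproduct K]
  (Φ : C ⥤ B) [Φ.Additive] [HasCoproduct (fun n => Φ.obj (K n))]

lemma sigmaComparison_comp_map' :
    sigmaComparison Φ K ≫ Φ.map (𝟙 _ - DerLim.shiftMap K f) =
      (𝟙 _ - DerLim.shiftMap (fun n => Φ.obj (K n)) (fun n => Φ.map (f n))) ≫
        sigmaComparison Φ K := by
  apply Sigma.hom_ext
  intro n
  rw [← Category.assoc, ι_comp_sigmaComparison, ← Functor.map_comp, Preadditive.comp_sub,
    Category.comp_id, ι_shiftMap, ← Category.assoc, Preadditive.comp_sub, Category.comp_id,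
    ι_shiftMap, Preadditive.sub_comp, ι_comp_sigmaComparison, Category.assoc,
    ι_comp_sigmaComparison, Functor.map_sub, Functor.map_comp]

end Transport

section Derived

variable {A : Type u} [Category.{v} A] [Abelian A] [HasDerivedCategory.{w} A]
  [HasColimitsOfShape ℕ A] [HasExactColimitsOfShape ℕ A]
  (L : ℕ ⥤ CochainComplex A ℤ) [HasCoproduct L.obj]
  [PreservesColimit (Discrete.functor L.obj) (DerivedCategory.Q (C := A))]
  [HasCoproduct (fun n => DerivedCategory.Q.obj (L.obj n))]

theorem isHocolim_Q_colimit :
    DerLim.IsHocolim (fun n => DerivedCategory.Q.obj (L.obj n))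
      (fun n => DerivedCategory.Q.map (L.map (homOfLE (Nat.le_succ n))))
      (DerivedCategory.Q.obj (colimit L)) (fun n => DerivedCategory.Q.map (colimit.ι L n)) := by
  have hS := shortExact L
  have hdist := DerivedCategory.triangleOfSES_distinguished hS
  have hstar := sigmaComparison_comp_map' L.obj (fun n => L.map (homOfLE (Nat.le_succ n)))
    (DerivedCategory.Q (C := A))
  refine ⟨DerivedCategory.triangleOfSESδ hS ≫
    (shiftFunctor (DerivedCategory A) (1 : ℤ)).map (inv (sigmaComparison DerivedCategory.Q L.obj)),
    ?_⟩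
  let φ : (∐ fun n => DerivedCategory.Q.obj (L.obj n)) ≅ DerivedCategory.Q.obj (∐ L.obj) :=
    asIso (sigmaComparison DerivedCategory.Q L.obj)
  refine isomorphic_distinguished _ hdist _
    (Triangle.isoMk _ _ φ φ (Iso.refl _) ?_ ?_ ?_)
  · exact hstar.symm
  · change Sigma.desc (fun n => DerivedCategory.Q.map (colimit.ι L n)) ≫ 𝟙 _ =
      sigmaComparison DerivedCategory.Q L.obj ≫
        DerivedCategory.Q.map (Sigma.desc (fun n => colimit.ι L n))
    rw [Category.comp_id]
    apply Sigma.hom_ext
    intro n
    rw [Sigma.ι_desc, ← Category.assoc, ι_comp_sigmaComparison, ← Functor.map_comp,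
      Sigma.ι_desc]
  · change (DerivedCategory.triangleOfSESδ hS ≫
      (shiftFunctor (DerivedCategory A) (1 : ℤ)).map
        (inv (sigmaComparison DerivedCategory.Q L.obj))) ≫
      (shiftFunctor (DerivedCategory A) (1 : ℤ)).map (sigmaComparison DerivedCategory.Q L.obj) =
      𝟙 _ ≫ DerivedCategory.triangleOfSESδ hS
    rw [Category.assoc, ← Functor.map_comp, IsIso.inv_hom_id, CategoryTheory.Functor.map_id,
      Category.comp_id, Category.id_comp]

end Derived

end Groth.Agent.Lib.Helper2.SeqColim
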