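import Groth.Agent.Lib.Helper2.SeqColim
import Mathlib.CategoryTheory.Triangulated.HomologicalFunctor
import Mathlib.CategoryTheory.Limits.Preserves.Shapes.Products

/-!
# A homological functor preserving countable coproducts sends homotopy colimits to colimits
-/

set_option autoImplicit false

namespace Groth.Agent.Lib.Helper2.SeqColim

open CategoryTheory CategoryTheory.Limits CategoryTheory.Pretriangulated

universe v v' u u'

section Transport

variable {C : Type u} [Category.{v} C] [Preadditive C]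
  {A : Type u'} [Category.{v'} A] [Abelian A] [HasColimitsOfShape ℕ A]
  [HasExactColimitsOfShape ℕ A]
  (K : ℕ → C) (f : ∀ n, K n ⟶ K (n + 1)) [HasCoproduct K]
  (Φ : C ⥤ A) [Φ.Additive] [PreservesColimit (Discrete.functor K) Φ]

include Φ in
lemma hasCoproduct_map : HasCoproduct (fun n => Φ.obj (K n)) :=
  HasColimit.mk ⟨_, isColimitCofanMkObjOfIsColimit Φ _ _ (coproductIsCoproduct K)⟩

lemma sigmaComparison_comp_map [HasCoproduct (fun n => Φ.obj (K n))] :
    sigmaComparison Φ K ≫ Φ.map (𝟙 _ - DerLim.shiftMap K f) =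
      (𝟙 _ - DerLim.shiftMap (fun n => Φ.obj (K n)) (fun n => Φ.map (f n))) ≫
        sigmaComparison Φ K := by
  apply Sigma.hom_ext
  intro n
  rw [← Category.assoc, ι_comp_sigmaComparison, ← Functor.map_comp, Preadditive.comp_sub,
    Category.comp_id, ι_shiftMap, ← Category.assoc, Preadditive.comp_sub, Category.comp_id,
    ι_shiftMap, Preadditive.sub_comp, ι_comp_sigmaComparison, Category.assoc,
    ι_comp_sigmaComparison, Functor.map_sub, Functor.map_comp]

theorem mono_map_one_sub_shiftMap : Mono (Φ.map (𝟙 _ - DerLim.shiftMap K f)) := by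
  have := hasCoproduct_map K Φ
  have h1 : Mono (𝟙 _ - DerLim.shiftMap (fun n => Φ.obj (K n)) (fun n => Φ.map (f n))) :=
    mono_one_sub_shiftMap _ _
  have h2 : Φ.map (𝟙 _ - DerLim.shiftMap K f) = inv (sigmaComparison Φ K) ≫
      (𝟙 _ - DerLim.shiftMap (fun n => Φ.obj (K n)) (fun n => Φ.map (f n))) ≫
        sigmaComparison Φ K := by
    rw [← sigmaComparison_comp_map, IsIso.inv_hom_id_assoc]
  rw [h2]
  infer_instance

end Transport

section Seq

variable {A : Type u'} [Category.{v'} A] [Abelian A] [HasColimitsOfShape ℕ A]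
  (X : ℕ → A) (t : ∀ n, X n ⟶ X (n + 1)) [HasCoproduct X]

/-- the structure maps of the colimit of a sequence -/
noncomputable def seqι (n : ℕ) : X n ⟶ colimit (Functor.ofSequence t) :=
  colimit.ι (Functor.ofSequence t) n

lemma seqι_succ (n : ℕ) : t n ≫ seqι X t (n + 1) = seqι X t n := by
  have h := colimit.w (Functor.ofSequence t) (homOfLE (Nat.le_add_right n 1))
  rw [Functor.ofSequence_map_homOfLE_succ] at h
  exact h

lemma one_sub_shiftMap_comp_desc_seq :
    (𝟙 (∐ X) - DerLim.shiftMap X t) ≫ Sigma.desc (seqι X t) = 0 := by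
  apply Sigma.hom_ext
  intro n
  rw [comp_zero, Preadditive.sub_comp, Category.id_comp, Preadditive.comp_sub, Sigma.ι_desc,
    ← Category.assoc, ι_shiftMap, Category.assoc, Sigma.ι_desc, seqι_succ, sub_self]

/-- the colimit of a sequence is the cokernel of `1 - shift` -/
noncomputable def isColimitCokernelCoforkSeq :
    IsColimit (CokernelCofork.ofπ (Sigma.desc (seqι X t))
      (one_sub_shiftMap_comp_desc_seq X t)) :=
  CokernelCofork.IsColimit.ofπ _ _
    (fun {Z} h hh => colimit.desc (Functor.ofSequence t)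
      ⟨Z, NatTrans.ofSequence (fun n => (Sigma.ι X n ≫ h : X n ⟶ Z)) (by
      intro n
      have h1 := congrArg (fun α => Sigma.ι X n ≫ α) hh
      simp only [comp_zero, Preadditive.sub_comp, Category.id_comp, Preadditive.comp_sub] at h1
      rw [sub_eq_zero, ← Category.assoc, ι_shiftMap, Category.assoc] at h1
      rw [Functor.ofSequence_map_homOfLE_succ]
      change t n ≫ Sigma.ι X (n + 1) ≫ h = (Sigma.ι X n ≫ h) ≫ 𝟙 Z
      rw [Category.comp_id, h1])⟩)
    (fun {Z} h hh => by
      apply Sigma.hom_ext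
      intro n
      rw [← Category.assoc, Sigma.ι_desc]
      exact colimit.ι_desc _ n)
    (fun {Z} h hh m hm => by
      subst hm
      apply colimit.hom_ext
      intro n
      rw [colimit.ι_desc]
      change seqι X t n ≫ m = Sigma.ι X n ≫ Sigma.desc (seqι X t) ≫ m
      rw [← Category.assoc, Sigma.ι_desc])

end Seq

section Homological

variable {D : Type u} [Category.{v} D] [Preadditive D] [HasZeroObject D] [HasShift D ℤ]
  [∀ n : ℤ, (shiftFunctor D n).Additive] [Pretriangulated D]
  [HasColimitsOfShape (Discrete ℕ) D]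
  {A : Type u'} [Category.{v'} A] [Abelian A] [HasColimitsOfShape ℕ A]
  [HasExactColimitsOfShape ℕ A]
  (H : D ⥤ A) [H.IsHomological] [PreservesColimitsOfShape (Discrete ℕ) H]
  (K : ℕ → D) (f : ∀ n, K n ⟶ K (n + 1)) (L : D) (i : ∀ n, K n ⟶ L)

include H in
theorem exists_iso_colimit_of_isHocolim (hL : DerLim.IsHocolim K f L i) :
    ∃ e : colimit (Functor.ofSequence (fun n => H.map (f n))) ≅ H.obj L,
      ∀ n : ℕ, colimit.ι (Functor.ofSequence (fun n => H.map (f n))) n ≫ e.hom =
        H.map (i n) := by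
  obtain ⟨c, hT⟩ := hL
  have := hasCoproduct_map K H
  -- `H c = 0`
  have hmono : Mono ((shiftFunctor D (1 : ℤ) ⋙ H).map (𝟙 _ - DerLim.shiftMap K f)) :=
    mono_map_one_sub_shiftMap K f (shiftFunctor D (1 : ℤ) ⋙ H)
  have h31 : c ≫ (shiftFunctor D (1 : ℤ)).map (𝟙 _ - DerLim.shiftMap K f) = 0 :=
    comp_distTriang_mor_zero₃₁ _ hT
  have hc : H.map c = 0 := by
    rw [← cancel_mono ((shiftFunctor D (1 : ℤ) ⋙ H).map (𝟙 _ - DerLim.shiftMap K f)), zero_comp]
    change H.map c ≫ H.map ((shiftFunctor D (1 : ℤ)).map (𝟙 _ - DerLim.shiftMap K f)) = 0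
    rw [← Functor.map_comp, h31, Functor.map_zero]
  -- `H π` is a cokernel of `H (1 - s)`
  have hex1 := H.map_distinguished_exact _ hT
  have hex2 := H.map_distinguished_exact _ (rot_of_distTriang _ hT)
  have hepi : Epi (H.map (Sigma.desc i)) := hex2.epi_f hc
  have hepi' : Epi ((shortComplexOfDistTriangle _ hT).map H).g := hepi
  have hcok : IsColimit (CokernelCofork.ofπ (H.map (Sigma.desc i))
      (show H.map (𝟙 _ - DerLim.shiftMap K f) ≫ H.map (Sigma.desc i) = 0 from
        ((shortComplexOfDistTriangle _ hT).map H).zero)) := hex1.gIsCokernel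
  -- `colim G` is a cokernel of `1 - s_G`
  have hq := isColimitCokernelCoforkSeq (fun n => H.obj (K n)) (fun n => H.map (f n))
  have hstar := sigmaComparison_comp_map K f H
  have hup : H.map (𝟙 _ - DerLim.shiftMap K f) ≫ H.map (Sigma.desc i) = 0 :=
    ((shortComplexOfDistTriangle _ hT).map H).zero
  have hepiq : Epi (Sigma.desc (seqι (fun n => H.obj (K n)) (fun n => H.map (f n)))) :=
    epi_of_isColimit_cofork hq
  -- the two comparison maps
  obtain ⟨e₁, he₁⟩ := CokernelCofork.IsColimit.desc' hq (sigmaComparison H K ≫ H.map (Sigma.desc i))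
    (by rw [← Category.assoc, ← hstar, Category.assoc, hup, comp_zero])
  obtain ⟨e₂, he₂⟩ := CokernelCofork.IsColimit.desc' hcok (inv (sigmaComparison H K) ≫
      Sigma.desc (seqι (fun n => H.obj (K n)) (fun n => H.map (f n))))
    (by
      have h1 : H.map (𝟙 _ - DerLim.shiftMap K f) ≫ inv (sigmaComparison H K) =
          inv (sigmaComparison H K) ≫
            (𝟙 _ - DerLim.shiftMap (fun n => H.obj (K n)) (fun n => H.map (f n))) := by
        rw [IsIso.eq_inv_comp, ← Category.assoc, hstar, Category.assoc, IsIso.hom_inv_id,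
          Category.comp_id]
      rw [← Category.assoc, h1, Category.assoc, one_sub_shiftMap_comp_desc_seq, comp_zero])
  change Sigma.desc (seqι (fun n => H.obj (K n)) (fun n => H.map (f n))) ≫ e₁ = _ at he₁
  change H.map (Sigma.desc i) ≫ e₂ = _ at he₂
  refine ⟨⟨e₁, e₂, ?_, ?_⟩, fun n => ?_⟩
  · rw [← cancel_epi (Sigma.desc (seqι (fun n => H.obj (K n)) (fun n => H.map (f n)))),
      ← Category.assoc, he₁, Category.assoc, he₂, IsIso.hom_inv_id_assoc, Category.comp_id]
  · rw [← cancel_epi (H.map (Sigma.desc i)), ← Category.assoc, he₂, Category.assoc, he₁,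
      IsIso.inv_hom_id_assoc, Category.comp_id]
  · change seqι (fun n => H.obj (K n)) (fun n => H.map (f n)) n ≫ e₁ = H.map (i n)
    have h1 : seqι (fun n => H.obj (K n)) (fun n => H.map (f n)) n =
        Sigma.ι (fun n => H.obj (K n)) n ≫
          Sigma.desc (seqι (fun n => H.obj (K n)) (fun n => H.map (f n))) := by
      rw [Sigma.ι_desc]
    rw [h1, Category.assoc, he₁, ← Category.assoc, ι_comp_sigmaComparison, ← Functor.map_comp,
      Sigma.ι_desc]

end Homological

end Groth.Agent.Lib.Helper2.SeqColim
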