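import Mathlib.CategoryTheory.Triangulated.Generators
import Mathlib.Tactic.Ring

/-!
# Closure properties of `triangEnvelopeIter` and comparison of iterated envelopes
-/

namespace Groth.Agent.Lib.Helper2

open CategoryTheory CategoryTheory.Limits CategoryTheory.Pretriangulated CategoryTheory.ObjectProperty

universe v u

variable {C : Type u} [Category.{v} C]

/-- Closure under binary products can be checked on `WalkingPair`-indexed products. -/
lemma isClosedUnderBinaryProducts_of_pi (P : ObjectProperty C) [P.IsClosedUnderIsomorphisms]
    [HasBinaryProducts C]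
    (h : ∀ X : WalkingPair → C, (∀ j, P (X j)) → P (∏ᶜ X)) : P.IsClosedUnderBinaryProducts :=
  IsClosedUnderLimitsOfShape.mk' (by
    rintro _ ⟨F, hF⟩
    exact P.prop_of_iso (HasLimit.isoOfNatIso (Discrete.natIsoFunctor (F := F))).symm
      (h _ (fun j => hF ⟨j⟩)))

lemma isClosedUnderBinaryProducts_retractClosure (P : ObjectProperty C) [HasBinaryProducts C]
    [P.IsClosedUnderBinaryProducts] : P.retractClosure.IsClosedUnderBinaryProducts := by
  apply isClosedUnderBinaryProducts_of_pi
  intro X hX
  choose Y hY r using hX
  have r' : ∀ j, Retract (X j) (Y j) := fun j => (r j).some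
  refine ⟨∏ᶜ Y, P.prop_pi Y hY, ⟨⟨Limits.Pi.map (fun j => (r' j).i),
    Limits.Pi.map (fun j => (r' j).r), ?_⟩⟩⟩
  rw [Limits.Pi.map_comp_map]
  simp

variable [HasZeroObject C] [HasShift C ℤ] [Preadditive C]
  [∀ (n : ℤ), (shiftFunctor C n).Additive] [Pretriangulated C]

lemma isClosedUnderBinaryProducts_extensionProduct (P Q : ObjectProperty C)
    [P.IsClosedUnderBinaryProducts] [Q.IsClosedUnderBinaryProducts] :
    (extensionProduct P Q).IsClosedUnderBinaryProducts := by
  apply isClosedUnderBinaryProducts_of_pi
  intro X hX
  choose Y Z f g h hT hY hZ using hX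
  exact ⟨∏ᶜ Y, ∏ᶜ Z, _, _, _,
    productTriangle_distinguished (fun j => Triangle.mk (f j) (g j) (h j)) hT,
    P.prop_pi Y hY, Q.prop_pi Z hZ⟩

lemma isClosedUnderBinaryProducts_extensionProductIter (P : ObjectProperty C)
    [P.IsClosedUnderBinaryProducts] (n : ℕ) :
    (P.extensionProductIter n).IsClosedUnderBinaryProducts := by
  induction n with
  | zero => rwa [extensionProductIter_zero]
  | succ n ih =>
    rw [extensionProductIter_succ]
    exact isClosedUnderBinaryProducts_extensionProduct _ _

lemma isClosedUnderBinaryProducts_triangEnvelopeIter (P : ObjectProperty C) (n : ℕ) :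
    (P.triangEnvelopeIter n).IsClosedUnderBinaryProducts := by
  have h1 : ((P.shiftClosure ℤ).binaryProductsClosure).retractClosure.IsClosedUnderBinaryProducts :=
    isClosedUnderBinaryProducts_retractClosure _
  have h2 := isClosedUnderBinaryProducts_extensionProductIter
    ((P.shiftClosure ℤ).binaryProductsClosure).retractClosure n
  exact isClosedUnderBinaryProducts_retractClosure _

variable [IsTriangulated C]

/-- If `P` is contained in the `m`-th iterated envelope of `Q`, then the `k`-th iterated envelope
of `P` is contained in the `(k * (m + 1) + m)`-th iterated envelope of `Q`. -/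
lemma triangEnvelopeIter_le_of_le (P Q : ObjectProperty C) [Q.Nonempty] (m : ℕ)
    (h : P ≤ Q.triangEnvelopeIter m) (k : ℕ) :
    P.triangEnvelopeIter k ≤ Q.triangEnvelopeIter (k * (m + 1) + m) := by
  have hbp := isClosedUnderBinaryProducts_triangEnvelopeIter Q m
  have hbase : ((P.shiftClosure ℤ).binaryProductsClosure).retractClosure ≤
      Q.triangEnvelopeIter m := by
    rwa [retractClosure_le_iff, binaryProductsClosure_le_iff, shiftClosure_le_iff]
  have key : ∀ k : ℕ, ((Q.triangEnvelopeIter m).extensionProductIter k) ≤
      Q.triangEnvelopeIter (k * (m + 1) + m) := by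
    intro k
    induction k with
    | zero => simp [extensionProductIter_zero]
    | succ k ih =>
      rw [extensionProductIter_succ]
      have e : (k + 1) * (m + 1) + m = (m + 1) + (k * (m + 1) + m) := by ring
      rw [e, triangEnvelopeIter_add Q (n := m + 1) (n' := m) rfl]
      exact (monotone_extensionProduct_right _ ih).trans (le_retractClosure _)
  calc P.triangEnvelopeIter k
      ≤ ((Q.triangEnvelopeIter m).extensionProductIter k).retractClosure :=
        monotone_retractClosure (monotone_extensionProductIter hbase k)
    _ ≤ Q.triangEnvelopeIter (k * (m + 1) + m) := by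
        rw [retractClosure_le_iff]
        exact key k

end Groth.Agent.Lib.Helper2
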