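import Mathlib.Algebra.Homology.DerivedCategory.ShortExact
import Mathlib.Algebra.Homology.DerivedCategory.TStructure
import Mathlib.Algebra.Homology.Embedding.CochainComplex

/-!
# Factoring through canonical truncations in the derived category

* `eq_zero_of_homologyMap_eq_zero`: a chain map from a complex strictly `≤ m` to a complex strictly
  `≥ m` is zero as soon as it is zero on `H^m`.
* `exists_factor_truncGE`: a chain map `g : X ⟶ W` killing `τ_{≤ m} X` factors in the derived
  category through `X ⟶ τ_{≥ m+1} X`.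
* `exists_factor_of_homologyMap_zero`: if `u : X ⟶ Y` is zero on `H^m` then `X ⟶ Y ⟶ τ_{≥ m} Y`
  factors in the derived category through `X ⟶ τ_{≥ m+1} X`.
-/

set_option autoImplicit false

universe w v u

open CategoryTheory Limits Pretriangulated

namespace Groth.Agent.Lib.Helper2

variable {C : Type u} [Category.{v} C] [Abelian C]

open HomologicalComplex in
theorem eq_zero_of_homologyMap_eq_zero {A B : CochainComplex C ℤ} (m : ℤ)
    [A.IsStrictlyLE m] [B.IsStrictlyGE m] (f : A ⟶ B)
    (h : homologyMap f m = 0) : f = 0 := by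
  ext k
  rcases lt_trichotomy k m with hk | rfl | hk
  · exact (B.isZero_of_isStrictlyGE m k hk).eq_of_tgt _ _
  · -- degree `k = m`
    have hA : A.d k (k + 1) = 0 := (A.isZero_of_isStrictlyLE k (k + 1) (by omega)).eq_of_tgt _ _
    have hB : B.d (k - 1) k = 0 := (B.isZero_of_isStrictlyGE k (k - 1) (by omega)).eq_of_src _ _
    have h1 : IsIso (A.homologyι k) := A.isIso_homologyι k (k + 1) (by simp) hA
    have h2 : IsIso (B.pOpcycles k) := B.isIso_pOpcycles (k - 1) k (by simp) hB
    have h3 : opcyclesMap f k = 0 := by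
      have := homologyι_naturality f k
      rw [h, zero_comp] at this
      exact (cancel_epi (A.homologyι k)).1 (by rw [← this, comp_zero])
    have h4 : f.f k ≫ B.pOpcycles k = 0 := by
      rw [← p_opcyclesMap, h3, comp_zero]
    rw [HomologicalComplex.zero_f]
    exact (cancel_mono (B.pOpcycles k)).1 (by rw [h4, zero_comp])
  · exact (A.isZero_of_isStrictlyLE m k hk).eq_of_src _ _

variable [HasDerivedCategory.{w} C]

set_option backward.isDefEq.respectTransparency false in
open DerivedCategory in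
theorem exists_factor_truncGE (X W : CochainComplex C ℤ) (m : ℤ) (g : X ⟶ W)
    (hg : X.ιTruncLE m ≫ g = 0) :
    ∃ ψ : Q.obj (X.truncGE (m + 1)) ⟶ Q.obj W,
      Q.map (X.πTruncGE (m + 1)) ≫ ψ = Q.map g := by
  have hS := X.shortComplexTruncLE_shortExact m
  have hT := triangleOfSES_distinguished hS
  have hzero : (triangleOfSES hS).mor₁ ≫ Q.map g = 0 := by
    show Q.map (X.ιTruncLE m) ≫ Q.map g = 0
    rw [← Functor.map_comp, hg, Functor.map_zero]
  obtain ⟨g', hg'⟩ := Triangle.yoneda_exact₂ _ hT (Q.map g) hzero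
  have hg'' : Q.map g = Q.map (X.shortComplexTruncLE m).g ≫ g' := hg'
  refine ⟨inv (Q.map (X.shortComplexTruncLEX₃ToTruncGE m (m + 1) rfl)) ≫ g', ?_⟩
  have h5 : Q.map (X.shortComplexTruncLE m).g ≫
      Q.map (X.shortComplexTruncLEX₃ToTruncGE m (m + 1) rfl) = Q.map (X.πTruncGE (m + 1)) :=
    (Q.map_comp _ _).symm.trans
      (congrArg Q.map (X.g_shortComplexTruncLEX₃ToTruncGE m (m + 1) rfl))
  rw [← h5, Category.assoc, IsIso.hom_inv_id_assoc, hg'']

open DerivedCategory HomologicalComplex in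
theorem exists_factor_of_homologyMap_zero {X Y : CochainComplex C ℤ} (u : X ⟶ Y) (m : ℤ)
    (h : homologyMap u m = 0) :
    ∃ ψ : Q.obj (X.truncGE (m + 1)) ⟶ Q.obj (Y.truncGE m),
      Q.map (X.πTruncGE (m + 1)) ≫ ψ = Q.map (u ≫ Y.πTruncGE m) := by
  apply exists_factor_truncGE
  apply eq_zero_of_homologyMap_eq_zero m
  rw [homologyMap_comp, homologyMap_comp, h, zero_comp, comp_zero]

set_option backward.isDefEq.respectTransparency false in
open DerivedCategory in
theorem exists_factor_truncLE (W Y : CochainComplex C ℤ) (k : ℤ) (g : W ⟶ Y)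
    (hg : g ≫ Y.πTruncGE (k + 1) = 0) :
    ∃ ψ : Q.obj W ⟶ Q.obj (Y.truncLE k),
      ψ ≫ Q.map (Y.ιTruncLE k) = Q.map g := by
  have hS := Y.shortComplexTruncLE_shortExact k
  have hT := triangleOfSES_distinguished hS
  have h5 : Q.map (Y.shortComplexTruncLE k).g ≫
      Q.map (Y.shortComplexTruncLEX₃ToTruncGE k (k + 1) rfl) = Q.map (Y.πTruncGE (k + 1)) :=
    (Q.map_comp _ _).symm.trans
      (congrArg Q.map (Y.g_shortComplexTruncLEX₃ToTruncGE k (k + 1) rfl))
  have hzero : Q.map g ≫ (triangleOfSES hS).mor₂ = 0 := by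
    show Q.map g ≫ Q.map (Y.shortComplexTruncLE k).g = 0
    rw [← cancel_mono (Q.map (Y.shortComplexTruncLEX₃ToTruncGE k (k + 1) rfl)), Category.assoc,
      h5, ← Functor.map_comp, hg, Functor.map_zero, zero_comp]
  obtain ⟨g', hg'⟩ := Triangle.coyoneda_exact₂ _ hT (Q.map g) hzero
  exact ⟨g', hg'.symm⟩

open DerivedCategory HomologicalComplex in
theorem exists_factor_of_homologyMap_zero' {X Y : CochainComplex C ℤ} (u : X ⟶ Y) (k : ℤ)
    (h : homologyMap u (k + 1) = 0) :
    ∃ ψ : Q.obj (X.truncLE (k + 1)) ⟶ Q.obj (Y.truncLE k),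
      ψ ≫ Q.map (Y.ιTruncLE k) = Q.map (X.ιTruncLE (k + 1) ≫ u) := by
  apply exists_factor_truncLE
  apply eq_zero_of_homologyMap_eq_zero (k + 1)
  rw [homologyMap_comp, homologyMap_comp, h, comp_zero, zero_comp]

open DerivedCategory HomologicalComplex in
/-- variant of `exists_factor_of_homologyMap_zero'` with a flexible index -/
theorem exists_factor_of_homologyMap_zero'' {X Y : CochainComplex C ℤ} (u : X ⟶ Y) (k k' : ℤ)
    (hk : k + 1 = k') (h : homologyMap u k' = 0) :
    ∃ ψ : Q.obj (X.truncLE k') ⟶ Q.obj (Y.truncLE k),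
      ψ ≫ Q.map (Y.ιTruncLE k) = Q.map (X.ιTruncLE k' ≫ u) := by
  subst hk
  exact exists_factor_of_homologyMap_zero' u k h

open DerivedCategory HomologicalComplex in
/-- variant of `exists_factor_of_homologyMap_zero` with a flexible index -/
theorem exists_factor_of_homologyMap_zero_of_eq {X Y : CochainComplex C ℤ} (u : X ⟶ Y)
    (m m' : ℤ) (hm : m + 1 = m') (h : homologyMap u m = 0) :
    ∃ ψ : Q.obj (X.truncGE m') ⟶ Q.obj (Y.truncGE m),
      Q.map (X.πTruncGE m') ≫ ψ = Q.map (u ≫ Y.πTruncGE m) := by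
  subst hm
  exact exists_factor_of_homologyMap_zero u m h

end Groth.Agent.Lib.Helper2
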